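import Cfsg.Agent.Lib.GW.LChar.Partner
import Cfsg.Agent.Lib.GW.Main

/-!
# From `O = [O, S]` to the hypotheses of S0508

If the core is `[O, S]`, every reflection inverts it, the rotations centralise it, and the normaliser of a
nontrivial subgroup of it is `C(t)`.
-/

set_option autoImplicit false
set_option linter.unusedSectionVars false

namespace CfsgLib.GW

open Cfsg DihedralGroup
open CfsgLib.DihedralFusion
open scoped commutatorElement

universe u

variable {G : Type u} [Group G] [Finite G]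

namespace SplitHyp

variable {S : Sylow 2 G} {t : G} (H : SplitHyp S t)

include H

theorem centI_ne_top : centI t ≠ ⊤ := H.maxC.1

/-- A subgroup of `C(t)`, normalised by `C(t)` and by something outside, is trivial. -/
theorem normalizer_eq_of_le {Y : Subgroup G} (hY : Y ≤ centI t) (hY1 : Y ≠ ⊥)
    (hn : centI t ≤ Subgroup.normalizer (Y : Set G)) : Subgroup.normalizer (Y : Set G) = centI t := by
  refine (H.maxC.le_iff_eq ?_).1 hn
  intro e
  haveI := H.hyp.simple
  haveI : Y.Normal := Subgroup.normalizer_eq_top_iff.1 e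
  rcases (inferInstance : Y.Normal).eq_bot_or_eq_top with h | h
  · exact hY1 h
  · exact H.centI_ne_top (top_unique (h ▸ hY))

/-- The centraliser in the core of a reflection is trivial. -/
theorem fix_eq_one (h : H.Kc = coreC t) {v : G} (hv : v ∈ (S : Subgroup G)) (hv2 : orderOf v = 2) (hvt : v ≠ t) :
    ∀ x ∈ coreC t, x * v = v * x → x = 1 := by
  intro x hx hxv
  set X := coreC t ⊓ Subgroup.centralizer ({v} : Set G) with hX
  have hmem : ∀ {a : G}, a ∈ X ↔ a ∈ coreC t ∧ a * v = v * a := fun {a} => by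
    rw [hX, Subgroup.mem_inf, Subgroup.mem_centralizer_singleton_iff]
  obtain ⟨y, hy, hyt⟩ := H.exists_rot hv hv2 hvt
  have hvv : v * v = 1 := Involutions.mul_self_eq_one_of_orderOf hv2
  have hgen : ∀ g : G, (∀ a ∈ X, g * a * g⁻¹ ∈ X) → g ∈ Subgroup.normalizer (X : Set G) := by
    intro g hg
    have hle : X.map (MulAut.conj g).toMonoidHom ≤ X := by
      rintro _ ⟨a, ha, rfl⟩
      exact hg a ha
    have he := Subgroup.eq_of_le_of_card_ge hle (Subgroup.card_map_of_injective (MulAut.conj g).injective).ge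
    refine Subgroup.mem_normalizer_iff.2 fun a => ⟨hg a, fun ha => ?_⟩
    rw [← he] at ha
    obtain ⟨a', ha', e⟩ := ha
    exact mul_left_cancel (mul_right_cancel (show g * a' * g⁻¹ = g * a * g⁻¹ from e)) ▸ ha'
  have hC : centI t ≤ Subgroup.normalizer (X : Set G) := fun c hc => by
    obtain ⟨o, ho, s, hs, rfl⟩ := centralizer_eq_core_mul H.hyp.dihedral S H.ht H.htZ
      (Subgroup.mem_centralizer_singleton_iff.1 hc)
    refine mul_mem (hgen o fun a ha => ?_) (hgen s fun a ha => hmem.2 ⟨?_, ?_⟩)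
    · rwa [conj_eq_of_comm (H.Kc_abelian (h ▸ ho) (h ▸ (hmem.1 ha).1))]
    · exact H.core_conj (H.S_le hs) (hmem.1 ha).1
    · obtain ⟨haO, hav⟩ := hmem.1 ha
      have hs' : s⁻¹ ∈ (S : Subgroup G) := inv_mem hs
      have h1 : Commute a (v * s⁻¹ * (v * s⁻¹)) := H.sq_comm (mul_mem hv hs') a haO
      have h2 : Commute a (s * s) := H.sq_comm hs a haO
      have h3 : Commute a (v * (v * s⁻¹ * (v * s⁻¹) * (s * s))) := (show Commute a v from hav).mul_right (h1.mul_right h2)
      rw [show v * (v * s⁻¹ * (v * s⁻¹) * (s * s)) = v * v * (s⁻¹ * v * s) by group, hvv, one_mul] at h3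
      calc s * a * s⁻¹ * v = s * (a * (s⁻¹ * v * s)) * s⁻¹ := by group
        _ = s * ((s⁻¹ * v * s) * a) * s⁻¹ := by rw [h3.eq]
        _ = v * (s * a * s⁻¹) := by group
  have hyX : y ∈ Subgroup.normalizer (X : Set G) := hgen y fun a ha =>
    hmem.2 (H.conj_fix hy (hmem.1 ha).1 (hmem.1 ha).2)
  by_contra hx1
  have hXne : X ≠ ⊥ := fun e => hx1 (Subgroup.mem_bot.1 (e ▸ hmem.2 ⟨hx, hxv⟩))
  rw [H.normalizer_eq_of_le (fun a ha => H.core_le (hmem.1 ha).1) hXne hC] at hyX
  exact hvt (by rw [← hyt, conj_eq_of_comm (Subgroup.mem_centralizer_singleton_iff.1 hyX)])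

/-- Reflections invert the core. -/
theorem invol_inverts (h : H.Kc = coreC t) {v : G} (hv : v ∈ (S : Subgroup G)) (hv2 : orderOf v = 2) (hvt : v ≠ t) :
    ∀ x ∈ coreC t, v * x * v⁻¹ = x⁻¹ := by
  intro x hx
  obtain ⟨c, hc, hcv, -, hi⟩ := H.split hv (Involutions.mul_self_eq_one_of_orderOf hv2) hx
  rw [H.fix_eq_one h hv hv2 hvt c hc hcv, inv_one, mul_one] at hi
  exact hi

/-- Every element of the Sylow subgroup centralises or inverts the core. -/
theorem sign (h : H.Kc = coreC t) {s : G} (hs : s ∈ (S : Subgroup G)) :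
    (∀ x ∈ coreC t, s * x * s⁻¹ = x) ∨ ∀ x ∈ coreC t, s * x * s⁻¹ = x⁻¹ := by
  obtain ⟨n, hn, ⟨eS⟩⟩ := H.hyp.dihedral.shape S
  haveI : NeZero n := ⟨by omega⟩
  have hinv : ∀ {u : G}, u ∈ (S : Subgroup G) → orderOf u = 2 →
      (∀ x ∈ coreC t, u * x * u⁻¹ = x) ∨ ∀ x ∈ coreC t, u * x * u⁻¹ = x⁻¹ := fun {u} hu hu2 => by
    by_cases hut : u = t
    · subst hut
      exact Or.inl fun x hx => conj_eq_of_comm ((mem_coreC H.hyp.dihedral H.ht).1 hx).1.symm
    · exact Or.inr (H.invol_inverts h hu hu2 hut)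
  have ho : ∀ j : ZMod n, orderOf (pt eS (sr j)) = 2 := fun j =>
    orderOf_pt eS (fun e => by rw [one_def] at e; cases e) (sr_mul_self j)
  rcases hi : eS ⟨s, hs⟩ with i | i
  · have e : s = pt eS (sr 0) * pt eS (sr i) := by
      rw [← pt_mul, sr_mul_sr, sub_zero, ← hi, pt_eq]
    have hc : ∀ x : G, s * x * s⁻¹ = pt eS (sr 0) * (pt eS (sr i) * x * (pt eS (sr i))⁻¹) * (pt eS (sr 0))⁻¹ :=
      fun x => by rw [e]; group
    rcases hinv (pt_mem eS (sr 0)) (ho 0) with a | a <;> rcases hinv (pt_mem eS (sr i)) (ho i) with b | b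
    · exact Or.inl fun x hx => by rw [hc, b x hx, a x hx]
    · exact Or.inr fun x hx => by rw [hc, b x hx, a _ (inv_mem hx)]
    · exact Or.inr fun x hx => by rw [hc, b x hx, a x hx]
    · exact Or.inl fun x hx => by rw [hc, b x hx, a _ (inv_mem hx), inv_inv]
  · exact hinv hs (by rw [← pt_eq eS hs, hi]; exact ho i)

/-- **End of the case "C(t) maximal, no (IIb)"**: from `O = [O, S]` to the hypotheses of S0508. -/
theorem finalHyp_of_core (h : H.Kc = coreC t) : FinalHyp S t := by
  classical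
  haveI : Fact (Nat.Prime 2) := ⟨Nat.prime_two⟩
  have hinvert : ∀ s ∈ (S : Subgroup G), s ∉ Subgroup.centralizer (coreC t : Set G) →
      ∀ y ∈ coreC t, s * y * s⁻¹ = y⁻¹ := fun s hs hn => (H.sign h hs).resolve_left fun a => hn
    (Subgroup.mem_centralizer_iff.2 fun x hx => (comm_of_conj_eq (a x hx)).symm)
  refine ⟨fun hne => ?_, hinvert, fun Y hY hY1 => ?_⟩
  · obtain ⟨x, hx, hx1⟩ : ∃ x ∈ coreC t, x ≠ 1 := by
      by_contra hc
      push Not at hc
      exact hne ((Subgroup.eq_bot_iff_forall _).2 hc)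
    obtain ⟨n, hn, ⟨eS⟩⟩ := H.hyp.dihedral.shape S
    haveI : NeZero n := ⟨by omega⟩
    set K := (S : Subgroup G) ⊓ Subgroup.centralizer (coreC t : Set G) with hK
    -- a reflection
    have href : ∀ v ∈ (S : Subgroup G), orderOf v = 2 → v ≠ t → v ∉ K := fun v hv hv2 hvt hvK => by
      have h1 := H.invol_inverts h hv hv2 hvt x hx
      rw [conj_eq_of_comm ((Subgroup.mem_centralizer_iff.1 hvK.2 x hx).symm)] at h1
      exact hx1 (H.eq_one_of_inv hx h1)
    have ho : ∀ j : ZMod n, orderOf (pt eS (sr j)) = 2 := fun j =>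
      orderOf_pt eS (fun e => by rw [one_def] at e; cases e) (sr_mul_self j)
    obtain ⟨v, hv, hv2, hvt⟩ : ∃ v ∈ (S : Subgroup G), orderOf v = 2 ∧ v ≠ t := by
      by_cases e : pt eS (sr 0) = t
      · refine ⟨_, pt_mem eS (sr 1), ho 1, fun e1 => ?_⟩
        have := pt_injective eS (e.trans e1.symm)
        rw [DihedralGroup.sr.injEq] at this
        haveI hn1 : Fact (1 < n) := ⟨by omega⟩
        exact zero_ne_one this
      · exact ⟨_, pt_mem eS _, ho 0, e⟩
    have hidx : K.relIndex (S : Subgroup G) = 2 := by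
      rw [Subgroup.relIndex, Subgroup.index_eq_two_iff]
      refine ⟨⟨v, hv⟩, fun b => ?_⟩
      rw [Subgroup.mem_subgroupOf, Subgroup.mem_subgroupOf, Subgroup.coe_mul]
      have hiff : ∀ s ∈ (S : Subgroup G), (s ∈ K ↔ s * x * s⁻¹ = x) := fun s hs => by
        refine ⟨fun hsK => conj_eq_of_comm (Subgroup.mem_centralizer_iff.1 hsK.2 x hx).symm, fun e => ⟨hs, ?_⟩⟩
        by_contra hn'
        have := hinvert s hs hn' x hx
        rw [e] at this
        exact hx1 (H.eq_one_of_inv hx this)
      have hv' := H.invol_inverts h hv hv2 hvt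
      rcases H.sign h b.2 with a | a
      · refine Or.inr ⟨(hiff _ b.2).2 (a x hx), fun hb => ?_⟩
        have := (hiff _ (mul_mem b.2 hv)).1 hb
        rw [show (b : G) * v * x * ((b : G) * v)⁻¹ = b * (v * x * v⁻¹) * (b : G)⁻¹ by group, hv' x hx,
          a _ (inv_mem hx)] at this
        exact hx1 (H.eq_one_of_inv hx this.symm)
      · refine Or.inl ⟨(hiff _ (mul_mem b.2 hv)).2 ?_, fun hb => ?_⟩
        · rw [show (b : G) * v * x * ((b : G) * v)⁻¹ = b * (v * x * v⁻¹) * (b : G)⁻¹ by group, hv' x hx,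
            a _ (inv_mem hx), inv_inv]
        · have := (hiff _ b.2).1 hb
          rw [a x hx] at this
          exact hx1 (H.eq_one_of_inv hx this.symm)
    refine ⟨?_, hidx⟩
    have hKS : K ≤ (S : Subgroup G) := inf_le_left
    by_cases hn2 : n = 2
    · refine isCyclic_of_prime_card (p := 2) ?_
      have h1 := (K.subgroupOf (S : Subgroup G)).card_mul_index
      rw [← Subgroup.relIndex, hidx, Nat.card_congr (Subgroup.subgroupOfEquivOfLe hKS).toEquiv,
        Nat.card_congr eS.toEquiv, DihedralGroup.nat_card, hn2] at h1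
      show Nat.card K = 2
      omega
    · let R := Subgroup.zpowers (r 1 : DihedralGroup n)
      let f : K →* R :=
        (eS.toMonoidHom.comp (Subgroup.inclusion hKS)).codRestrict R fun s => by
          show eS (Subgroup.inclusion hKS s) ∈ R
          rcases hi : eS (Subgroup.inclusion hKS s) with i | i
          · exact Subgroup.mem_zpowers_iff.2 ⟨(i.val : ℤ), by rw [zpow_natCast, r_one_pow, ZMod.natCast_zmod_val]⟩
          · exfalso
            have hs2 : pt eS (sr i) = (s : G) := by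
              rw [← hi]
              exact pt_eq eS (hKS s.2)
            have ht' : (s : G) = t := by
              by_contra hst
              exact href _ (hKS s.2) (hs2 ▸ ho i) hst s.2
            have hc := H.htZ _ (pt_mem eS (r 1))
            rw [← ht', ← hs2, ← pt_mul, ← pt_mul, r_mul_sr, sr_mul_r] at hc
            have h2 := pt_injective eS hc
            rw [DihedralGroup.sr.injEq] at h2
            have h3 : ((2 : ℕ) : ZMod n) = 0 := by push_cast; linear_combination -h2
            have := Nat.le_of_dvd two_pos ((ZMod.natCast_eq_zero_iff 2 n).1 h3)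
            omega
      exact isCyclic_of_injective f fun a b e => Subgroup.inclusion_injective hKS (eS.injective (congrArg Subtype.val e))
  · refine (H.normalizer_eq_of_le (hY.trans H.core_le) hY1 fun c hc => ?_).le
    obtain ⟨o, hoO, s, hs, rfl⟩ := centralizer_eq_core_mul H.hyp.dihedral S H.ht H.htZ
      (Subgroup.mem_centralizer_singleton_iff.1 hc)
    refine mul_mem (Subgroup.mem_normalizer_iff.2 fun a => ?_) (Subgroup.mem_normalizer_iff.2 fun a => ?_)
    · have hid : ∀ b ∈ Y, o * b * o⁻¹ = b := fun b hb =>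
        conj_eq_of_comm (H.Kc_abelian (h ▸ hoO) (h ▸ hY hb))
      refine ⟨fun ha => by rwa [hid a ha], fun ha => ?_⟩
      have : o * a * o⁻¹ = o * (o * a * o⁻¹) * o⁻¹ := (hid _ ha).symm
      rwa [← mul_left_cancel (mul_right_cancel this)] at ha
    · have hkey : ∀ s ∈ (S : Subgroup G), ∀ b ∈ Y, s * b * s⁻¹ ∈ Y := fun s hs b hb => by
        rcases H.sign h hs with q | q
        · rwa [q b (hY hb)]
        · rw [q b (hY hb)]; exact inv_mem hb
      refine ⟨hkey s hs a, fun ha => ?_⟩
      simpa [mul_assoc] using hkey s⁻¹ (inv_mem hs) _ ha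

end SplitHyp

end CfsgLib.GW
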