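import Cfsg.Agent.Lib.GW.LChar.Combin

/-!
# Columns of integers of small norm: two moved classes, and Sylow four groups
-/

namespace CfsgLib.GW.Combin

set_option linter.unusedVariables false
set_option linter.unusedSectionVars false

open Finset

variable {ι : Type*} [Fintype ι] [DecidableEq ι] {d A c : ι → ℤ}

/-- Two moved classes. -/
theorem Cols.two_moved (K : Cols d A c) {w w' : ι → ℤ} (nw : ∑ i, w i * w i = 4) (nw' : ∑ i, w' i * w' i = 4)
    (Aw : ∑ i, A i * w i = 0) (Aw' : ∑ i, A i * w' i = 0) (cw : ∑ i, c i * w i = 0) (cw' : ∑ i, c i * w' i = 0)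
    (ww : ∑ i, w i * w' i = 0) (wd : ∑ i, w i * d i = 0) (wd' : ∑ i, w' i * d i = 0)
    (parw : ∀ i, 2 ∣ w i - c i) (parw' : ∀ i, 2 ∣ w' i - c i)
    (cong : ∀ i, A i ≠ 0 → 8 ∣ d i + 2 * A i + 5 * (c i + 2 * w i + 2 * w' i))
    {y b g : ℤ} (P : MovedArith.Prin y b g)
    (eA : wsum d (fun i => c i + 2 * w i + 2 * w' i) A = MovedArith.eA y b g)
    (eC : wsum d (fun i => c i + 2 * w i + 2 * w' i) c = MovedArith.eC y b g) : False := by
  obtain ⟨T, s, e, S⟩ := K.shape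
  have hodd : ∀ f : ι → ℤ, (∀ i, 2 ∣ f i - c i) → ∀ i ∈ T, ¬ 2 ∣ f i := fun f hf i hi => by
    have := hf i
    rcases S.hc i hi with q | q <;> rw [q] at this <;> omega
  obtain ⟨hw, w0⟩ := odd_four S.card (f := w) (hodd w parw) nw
  obtain ⟨hw', w0'⟩ := odd_four S.card (f := w') (hodd w' parw') nw'
  set α : ι → ℤ := fun i => A i * c i with hαd
  set β : ι → ℤ := fun i => w i * c i with hβd
  set γ : ι → ℤ := fun i => w' i * c i with hγd
  set δ : ι → ℤ := fun i => c i * d i with hδ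
  have hsq : ∀ i ∈ T, c i * c i = 1 := fun i hi => by rcases S.hc i hi with q | q <;> simp [q]
  have hpm : ∀ f : ι → ℤ, (∀ i ∈ T, f i = 1 ∨ f i = -1) → ∀ i ∈ T, f i * c i = 1 ∨ f i * c i = -1 :=
    fun f hf i hi => by rcases hf i hi with a | a <;> rcases S.hc i hi with b | b <;> simp [a, b]
  have hα := hpm A S.hA
  have hβ := hpm w hw
  have hγ := hpm w' hw'
  have hprod : ∀ f f' : ι → ℤ, (∀ i ∉ T, f i = 0) →
      ∑ i, f i * f' i = ∑ i ∈ T, (f i * c i) * (f' i * c i) := fun f f' hf => by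
    rw [← sum_subset (subset_univ T) fun i _ hi => by rw [hf i hi, zero_mul]]
    exact sum_congr rfl fun i hi => by linear_combination (-(f i * f' i)) * hsq i hi
  have hc0 : ∀ f : ι → ℤ, (∀ i ∉ T, f i = 0) → ∑ i, c i * f i = ∑ i ∈ T, f i * c i := fun f hf => by
    rw [← sum_subset (subset_univ T) fun i _ hi => by rw [hf i hi, mul_zero]]
    exact sum_congr rfl fun i _ => mul_comm _ _
  have a0 : ∑ i ∈ T, α i = 0 := by
    rw [← hc0 A S.A0, ← K.AC]; exact sum_congr rfl fun i _ => mul_comm _ _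
  have b0 : ∑ i ∈ T, β i = 0 := by rw [← hc0 w w0]; exact cw
  have ab : ∑ i ∈ T, α i * β i = 0 := by rw [← hprod A w S.A0]; exact Aw
  have ag : ∑ i ∈ T, α i * γ i = 0 := by rw [← hprod A w' S.A0]; exact Aw'
  have bg : ∑ i ∈ T, β i * γ i = 0 := by rw [← hprod w w' w0]; exact ww
  have g0 : ∑ i ∈ T, γ i = 0 := by rw [← hc0 w' w0']; exact cw'
  have ad : ∑ i ∈ T, α i * δ i = 0 := by
    rw [← K.Ad, hprod A d S.A0]
    exact sum_congr rfl fun i _ => by simp only [hαd, hδ]; ring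
  have bd : ∑ i ∈ T, β i * δ i = 0 := by
    rw [← wd, hprod w d w0]
    exact sum_congr rfl fun i _ => by simp only [hβd, hδ]; ring
  have gd : ∑ i ∈ T, γ i * δ i = 0 := by
    rw [← wd', hprod w' d w0']
    exact sum_congr rfl fun i _ => by simp only [hγd, hδ]; ring
  have ecd : (∑ i ∈ T, δ i) + 2 * e * d s = 0 := by
    rw [← K.Cd, S.sum_c (fun i => c i * d i) fun i h => by rw [h, zero_mul], S.cs]
  obtain ⟨p, q, r, u, ⟨hp, hq, hr, hu⟩, ⟨pα, pβ⟩, ⟨qα, qβ⟩, ⟨rα, rβ⟩, ⟨uα, uβ⟩, hT⟩ :=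
    four_signs S.card hα hβ a0 b0 ab
  have hsumT : ∀ {M : Type} [AddCommMonoid M] (F : ι → M), ∑ i ∈ T, F i = _ := fun F => sum_four S.card hT F
  rw [hsumT] at g0 ag bg ad bd gd ecd
  rw [show α p = 1 from pα, show α q = 1 from qα, show α r = -1 from rα, show α u = -1 from uα] at ag ad
  rw [show β p = 1 from pβ, show β q = -1 from qβ, show β r = 1 from rβ, show β u = -1 from uβ] at bg bd
  have hγ' : γ q = -γ p ∧ γ r = -γ p ∧ γ u = γ p := by refine ⟨?_, ?_, ?_⟩ <;> linarith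
  obtain ⟨gq, gr, gu⟩ := hγ'
  rw [gq, gr, gu] at gd
  have hδ' : δ q = δ p ∧ δ r = δ p ∧ δ u = δ p := by
    rcases hγ p hp with z | z <;> rw [show γ p = _ from z] at gd <;>
      refine ⟨?_, ?_, ?_⟩ <;> linarith
  obtain ⟨dq, dr, du⟩ := hδ'
  rw [dq, dr, du] at ecd
  have hterm : ∀ (F : ι → ℤ), ∀ i ∈ T,
      ((c i + 2 * w i + 2 * w' i : ℤ) : ℚ) ^ 2 * (F i : ℚ) / (d i : ℚ) =
        (1 + 2 * (β i : ℚ) + 2 * (γ i : ℚ)) ^ 2 * ((F i * c i : ℤ) : ℚ) / (δ i : ℚ) := by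
    intro F i hi
    rcases S.hc i hi with z | z <;> simp [hβd, hγd, hδ, z, div_neg, neg_div]
    ring
  have hA' : wsum d (fun i => c i + 2 * w i + 2 * w' i) A =
      ((1 + 2 + 2 * (γ p : ℚ)) ^ 2 + (1 - 2 - 2 * (γ p : ℚ)) ^ 2 - (1 + 2 - 2 * (γ p : ℚ)) ^ 2
        - (1 - 2 + 2 * (γ p : ℚ)) ^ 2) / (δ p : ℚ) := by
    rw [wsum, S.sum_A _ (fun i h => by rw [h]; simp), sum_congr rfl (hterm A), hsumT,
      show A p * c p = 1 from pα, show A q * c q = 1 from qα, show A r * c r = -1 from rα,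
      show A u * c u = -1 from uα, show β p = 1 from pβ, show β q = -1 from qβ, show β r = 1 from rβ,
      show β u = -1 from uβ, gq, gr, gu, dq, dr, du]
    push_cast
    ring
  have hC' : wsum d (fun i => c i + 2 * w i + 2 * w' i) c =
      ((1 + 2 + 2 * (γ p : ℚ)) ^ 2 + (1 - 2 - 2 * (γ p : ℚ)) ^ 2 + (1 + 2 - 2 * (γ p : ℚ)) ^ 2
        + (1 - 2 + 2 * (γ p : ℚ)) ^ 2) / (δ p : ℚ) - 4 / (δ p : ℚ) := by
    rw [wsum, S.sum_c _ (fun i h => by rw [h]; simp), sum_congr rfl (hterm c), hsumT,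
      hsq p hp, hsq q hq, hsq r hr, hsq u hu, show β p = 1 from pβ, show β q = -1 from qβ,
      show β r = 1 from rβ, show β u = -1 from uβ, gq, gr, gu, dq, dr, du, w0 s S.sT, w0' s S.sT, S.cs]
    have hd : δ p = 0 - e * d s / 2 ∨ 2 * δ p = -(e * d s) := Or.inr (by linarith)
    have h2 : (d s : ℚ) = -(2 * e * (δ p : ℚ)) := by
      have : d s = -(2 * e * δ p) := by rcases S.he with rfl | rfl <;> linarith
      exact_mod_cast this
    rcases S.he with rfl | rfl <;> push_cast at h2 ⊢ <;> rw [h2] <;>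
      simp only [div_neg, neg_div] <;> field_simp <;> ring
  have hA0 : A p ≠ 0 := by rcases S.hA p hp with z | z <;> omega
  have h1 := dvd_mul_of_dvd_right (cong p hA0) (c p)
  have h1' : (8 : ℤ) ∣ δ p + 2 * α p + 5 * (1 + 2 * β p + 2 * γ p) := by
    simp only [hαd, hβd, hγd, hδ]
    rcases S.hc p hp with z | z <;> simp only [z] at h1 ⊢ <;> omega
  rw [show α p = 1 from pα, show β p = 1 from pβ] at h1'
  rcases hγ p hp with z | z <;> rw [show γ p = _ from z] at h1' hA' hC' <;>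
    rw [hA'] at eA <;> rw [hC'] at eC <;> push_cast at eA eC <;> ring_nf at eA eC
  · exact MovedArith.two_moved P (a := δ p) (by omega) (by rw [← eA]; ring) (by rw [← eC]; ring)
  · exact MovedArith.two_moved' P (a := δ p) (by rw [← eA]; ring) (by rw [← eC]; ring)

/-- Sylow four groups, the principal block. -/
theorem four_principal {d c : ι → ℤ} (dpos : ∀ i, 0 < d i) (nc : ∑ i, c i * c i = 4)
    (cd : ∑ i, c i * d i = 0) {o : ι} (ho : d o = 1 ∧ c o = 1)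
    (cong : ∀ i, c i ≠ 0 → 4 ∣ d i + 3 * c i) (big : ∀ i, i ≠ o → c i ≠ 0 → 12 ≤ d i + |c i|) :
    ∃ a b g : ℤ, (4 ∣ a - 1 ∧ 4 ∣ b - 1 ∧ 4 ∣ g - 1) ∧ 1 + a + b + g = 0 ∧
      (11 ≤ |a| ∧ 11 ≤ |b| ∧ 11 ≤ |g|) ∧ wsum d c c = 1 + 1 / (a : ℚ) + 1 / (b : ℚ) + 1 / (g : ℚ) := by
  obtain ⟨T, hT, hc, c0⟩ := norm_four dpos nc cd
  have hoT : o ∈ T := by
    by_contra h
    have := c0 o h
    omega
  obtain ⟨u, v, r, huv, hur, hvr, he⟩ := card_eq_three.1 (show (T.erase o).card = 3 by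
    rw [card_erase_of_mem hoT, hT])
  have hsumT : ∀ {M : Type} [AddCommMonoid M] (F : ι → M), ∑ i ∈ T, F i = F o + F u + F v + F r := by
    intro M _ F
    rw [← add_sum_erase _ _ hoT, he, sum_insert (by simp [huv, hur]), sum_pair hvr]
    simp only [add_assoc]
  have hmem : ∀ i, (i = u ∨ i = v ∨ i = r) → i ∈ T ∧ i ≠ o := fun i hi => by
    have : i ∈ T.erase o := by rw [he]; simp [hi]
    exact ⟨(mem_erase.1 this).2, (mem_erase.1 this).1⟩
  set δ : ι → ℤ := fun i => c i * d i with hδ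
  have hres : ∀ i ∈ T, i ≠ o → (4 : ℤ) ∣ δ i - 1 ∧ 11 ≤ |δ i| := by
    intro i hi hio
    have hc0 : c i ≠ 0 := by rcases hc i hi with q | q <;> omega
    have h1 := cong i hc0
    have h2 := big i hio hc0
    have h3 := dpos i
    simp only [hδ]
    refine ⟨?_, ?_⟩
    · rcases hc i hi with q | q <;> rw [q] at h1 ⊢ <;> omega
    · rw [le_abs]
      rcases hc i hi with q | q <;> rw [q] at h2 ⊢ <;> norm_num at h2 <;> omega
  have hδo : δ o = 1 := by simp [hδ, ho.1, ho.2]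
  have hd0 : ∑ i ∈ T, δ i = 0 := by
    rw [← cd]
    exact sum_subset (subset_univ T) fun i _ hi => by simp [hδ, c0 i hi]
  rw [hsumT, hδo] at hd0
  obtain ⟨u1, u2⟩ := hres u (hmem u (Or.inl rfl)).1 (hmem u (Or.inl rfl)).2
  obtain ⟨v1, v2⟩ := hres v (hmem v (Or.inr (Or.inl rfl))).1 (hmem v (Or.inr (Or.inl rfl))).2
  obtain ⟨r1, r2⟩ := hres r (hmem r (Or.inr (Or.inr rfl))).1 (hmem r (Or.inr (Or.inr rfl))).2
  refine ⟨δ u, δ v, δ r, ⟨u1, v1, r1⟩, hd0, ⟨u2, v2, r2⟩, ?_⟩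
  have hterm : ∀ i ∈ T, (c i : ℚ) ^ 2 * (c i : ℚ) / (d i : ℚ) = 1 / (δ i : ℚ) := by
    intro i hi
    rcases hc i hi with q | q <;> simp [hδ, q, div_neg, neg_div]
  rw [wsum, ← sum_subset (subset_univ T) fun i _ hi => by rw [c0 i hi]; simp, sum_congr rfl hterm, hsumT, hδo]
  norm_num

/-- Sylow four groups, the moved twist. -/
theorem four_moved {d c w w' : ι → ℤ} (dpos : ∀ i, 0 < d i) (nc : ∑ i, c i * c i = 4)
    (nw : ∑ i, w i * w i = 4) (nw' : ∑ i, w' i * w' i = 4) (cd : ∑ i, c i * d i = 0)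
    (wd : ∑ i, w i * d i = 0) (wd' : ∑ i, w' i * d i = 0) (cw : ∑ i, c i * w i = 0)
    (cw' : ∑ i, c i * w' i = 0) (ww : ∑ i, w i * w' i = 0) (par : ∀ i, 2 ∣ w i - c i)
    (par' : ∀ i, 2 ∣ w' i - c i) (cong : ∀ i, c i ≠ 0 → 4 ∣ d i + 3 * (c i + w i + w' i))
    (big : ∀ i, c i ≠ 0 → 12 ≤ d i + |c i + w i + w' i|) {a₁ a₂ a₃ : ℤ}
    (h1 : 4 ∣ a₁ - 1 ∧ 4 ∣ a₂ - 1 ∧ 4 ∣ a₃ - 1) (hs : 1 + a₁ + a₂ + a₃ = 0)
    (hb : 11 ≤ |a₁| ∧ 11 ≤ |a₂| ∧ 11 ≤ |a₃|)
    (he : wsum d (fun i => c i + w i + w' i) c = 1 + 1 / (a₁ : ℚ) + 1 / (a₂ : ℚ) + 1 / (a₃ : ℚ)) : False := by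
  obtain ⟨T, hT, hc, c0⟩ := norm_four dpos nc cd
  have hodd : ∀ f : ι → ℤ, (∀ i, 2 ∣ f i - c i) → ∀ i ∈ T, ¬ 2 ∣ f i := fun f hf i hi => by
    have := hf i
    rcases hc i hi with q | q <;> rw [q] at this <;> omega
  obtain ⟨hw, w0⟩ := odd_four hT (f := w) (hodd w par) nw
  obtain ⟨hw', w0'⟩ := odd_four hT (f := w') (hodd w' par') nw'
  set β : ι → ℤ := fun i => w i * c i with hβd
  set γ : ι → ℤ := fun i => w' i * c i with hγd
  set δ : ι → ℤ := fun i => c i * d i with hδ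
  have hsq : ∀ i ∈ T, c i * c i = 1 := fun i hi => by rcases hc i hi with q | q <;> simp [q]
  have hpm : ∀ f : ι → ℤ, (∀ i ∈ T, f i = 1 ∨ f i = -1) → ∀ i ∈ T, f i * c i = 1 ∨ f i * c i = -1 :=
    fun f hf i hi => by rcases hf i hi with a | a <;> rcases hc i hi with b | b <;> simp [a, b]
  have hsub : ∀ (f f' : ι → ℤ), (∀ i ∉ T, f i = 0) → ∀ g : ι → ℤ, (∀ i ∈ T, f i * f' i = g i) →
      ∑ i, f i * f' i = ∑ i ∈ T, g i := fun f f' hf g hg => by
    rw [← sum_subset (subset_univ T) fun i _ hi => by rw [hf i hi, zero_mul]]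
    exact sum_congr rfl hg
  have b0 : ∑ i ∈ T, β i = 0 := by rw [← hsub c w c0 β fun i _ => mul_comm _ _]; exact cw
  have g0 : ∑ i ∈ T, γ i = 0 := by rw [← hsub c w' c0 γ fun i _ => mul_comm _ _]; exact cw'
  have bg : ∑ i ∈ T, β i * γ i = 0 := by
    rw [← hsub w w' w0 _ fun i hi => by simp only [hβd, hγd]; linear_combination (-(w i * w' i)) * hsq i hi]
    exact ww
  have d0 : ∑ i ∈ T, δ i = 0 := by rw [← hsub c d c0 δ fun i _ => rfl]; exact cd
  have bd : ∑ i ∈ T, β i * δ i = 0 := by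
    rw [← hsub w d w0 _ fun i hi => by simp only [hβd, hδ]; linear_combination (-(w i * d i)) * hsq i hi]
    exact wd
  have gd : ∑ i ∈ T, γ i * δ i = 0 := by
    rw [← hsub w' d w0' _ fun i hi => by simp only [hγd, hδ]; linear_combination (-(w' i * d i)) * hsq i hi]
    exact wd'
  obtain ⟨p, q, r, u, ⟨hp, hq, hr, hu⟩, ⟨pβ, pγ⟩, ⟨qβ, qγ⟩, ⟨rβ, rγ⟩, ⟨uβ, uγ⟩, hTe⟩ :=
    four_signs hT (hpm w hw) (hpm w' hw') b0 g0 bg
  have hsumT : ∀ {M : Type} [AddCommMonoid M] (F : ι → M), ∑ i ∈ T, F i = _ := fun F => sum_four hT hTe F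
  rw [hsumT] at d0 bd gd
  rw [show β p = 1 from pβ, show β q = 1 from qβ, show β r = -1 from rβ, show β u = -1 from uβ] at bd
  rw [show γ p = 1 from pγ, show γ q = -1 from qγ, show γ r = 1 from rγ, show γ u = -1 from uγ] at gd
  have dq : δ q = -δ p := by linarith
  have dr : δ r = -δ p := by linarith
  have du : δ u = δ p := by linarith
  have hne : ∀ i ∈ T, c i ≠ 0 := fun i hi => by rcases hc i hi with z | z <;> omega
  have k1 := dvd_mul_of_dvd_right (cong p (hne p hp)) (c p)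
  have k1' : (4 : ℤ) ∣ δ p + 3 * (1 + β p + γ p) := by
    simp only [hβd, hγd, hδ]
    rcases hc p hp with z | z <;> simp only [z] at k1 ⊢ <;> omega
  rw [show β p = 1 from pβ, show γ p = 1 from pγ] at k1'
  have k2 := big q (hne q hq)
  have k2' : 11 ≤ |δ q| := by
    have := dpos q
    have e1 : w q = c q := by
      have := show w q * c q = 1 from qβ
      rcases hc q hq with z | z <;> rw [z] at this ⊢ <;> omega
    have e2 : w' q = -c q := by
      have := show w' q * c q = -1 from qγ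
      rcases hc q hq with z | z <;> rw [z] at this ⊢ <;> omega
    rw [e1, e2] at k2
    simp only [hδ, le_abs]
    rcases hc q hq with z | z <;> rw [z] at k2 ⊢ <;> norm_num at k2 <;> omega
  rw [dq, abs_neg] at k2'
  refine MovedArith.four_moved (l := δ p) (by omega) k2' h1.1 h1.2.1 h1.2.2 hs hb.1 hb.2.1 hb.2.2 ?_
  rw [← he, wsum, ← sum_subset (subset_univ T) fun i _ hi => by rw [c0 i hi]; simp]
  have hterm : ∀ i ∈ T, ((c i + w i + w' i : ℤ) : ℚ) ^ 2 * (c i : ℚ) / (d i : ℚ) =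
      (1 + (β i : ℚ) + (γ i : ℚ)) ^ 2 / (δ i : ℚ) := by
    intro i hi
    rcases hc i hi with z | z <;> simp [hβd, hγd, hδ, z, div_neg, neg_div]
    ring
  rw [sum_congr rfl hterm, hsumT, show β p = 1 from pβ, show β q = 1 from qβ, show β r = -1 from rβ,
    show β u = -1 from uβ, show γ p = 1 from pγ, show γ q = -1 from qγ, show γ r = 1 from rγ,
    show γ u = -1 from uγ, dq, dr, du]
  push_cast
  ring

end CfsgLib.GW.Combin
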