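import Cfsg.Agent.Lib.GW.LChar
import Cfsg.Agent.Lib.CharTheory.Linear
import Cfsg.Agent.Lib.Blocks.AbelianFreeThree

/-!
# A lower bound for degrees: a moved abelian normal subgroup of an involution centralizer

If a two-group fixes no nontrivial element of an abelian odd subgroup `K` centralised by the
involution `t`, and commutes with an element of odd order moving `K`, then one of the eigenspaces of
`t` on a nontrivial module has dimension at least six.
-/

namespace CfsgLib.GW

open Cfsg CfsgLib.CharTheory CfsgLib.Blocks CfsgLib.Blocks.AbelianFree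
open scoped ComplexConjugate

set_option linter.unusedVariables false
set_option linter.style.haveILetI false
set_option linter.unusedSectionVars false

universe u

variable {G : Type u} [Group G] [Fintype G]

/-- The elements centralising `t` and normalising `K`. -/
abbrev stab (t : G) (K : Subgroup G) : Subgroup G :=
  Subgroup.centralizer ({t} : Set G) ⊓ Subgroup.normalizer (K : Set G)

variable {t : G} {K : Subgroup G}

/-- Conjugation on `K`. -/
def cK (a : stab t K) : K →* K where
  toFun k := ⟨(a : G) * k * (a : G)⁻¹, (Subgroup.mem_normalizer_iff.1 a.2.2 k).1 k.2⟩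
  map_one' := Subtype.ext (by simp)
  map_mul' x y := Subtype.ext (by push_cast; group)

/-- The translate of a linear character. -/
def tw (a : stab t K) (l : K →* ℂˣ) : K →* ℂˣ := l.comp (cK a)

theorem tw_mul (a b : stab t K) (l : K →* ℂˣ) : tw (a * b) l = tw b (tw a l) := by
  refine MonoidHom.ext fun k => congrArg l (Subtype.ext ?_)
  show ((a : G) * b) * k * ((a : G) * b)⁻¹ = (a : G) * ((b : G) * k * (b : G)⁻¹) * (a : G)⁻¹
  group

theorem tw_one (l : K →* ℂˣ) : tw (1 : stab t K) l = l :=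
  MonoidHom.ext fun k => congrArg l (Subtype.ext (by simp [cK]))

theorem tw_injective (a : stab t K) : Function.Injective (tw (K := K) a) := fun l m h => by
  have := congrArg (tw a⁻¹) h
  rwa [← tw_mul, ← tw_mul, mul_inv_cancel, tw_one, tw_one] at this

/-- The stabiliser of a linear character. -/
def fixedBy (l : K →* ℂˣ) : Subgroup (stab t K) where
  carrier := {a | tw a l = l}
  one_mem' := tw_one l
  mul_mem' := fun {a b} (ha : tw a l = l) (hb : tw b l = l) => show tw (a * b) l = l by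
    rw [tw_mul, ha, hb]
  inv_mem' := fun {a} (ha : tw a l = l) => show tw a⁻¹ l = l by
    have := congrArg (tw a⁻¹) ha
    rw [← tw_mul, mul_inv_cancel, tw_one] at this
    exact this.symm

/-- Elements of a subgroup with a coprime power in it. -/
theorem mem_of_pow_coprime {A : Type*} [Group A] [Finite A] {F : Subgroup A} {x : A} {m : ℕ}
    (hm : Nat.Coprime m (orderOf x)) (h : x ^ m ∈ F) : x ∈ F := by
  obtain ⟨k, hk⟩ := exists_pow_eq_self_of_coprime hm
  rw [← hk]
  exact pow_mem h k

/-- **Degree bound.** -/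
theorem twelve_le [IsSimpleGroup G] (hna : ¬ IsMulCommutative G) (ht2 : t * t = 1) (ht1 : t ≠ 1)
    (hK : ∀ a ∈ K, ∀ b ∈ K, a * b = b * a) (hKt : ∀ k ∈ K, k * t = t * k)
    (hKo : Odd (Nat.card K)) {P : Subgroup G} (hP : IsPGroup 2 P)
    (hPt : ∀ s ∈ P, s * t = t * s) (hPK : P ≤ Subgroup.normalizer (K : Set G))
    (hfix : ∀ k ∈ K, (∀ s ∈ P, s * k * s⁻¹ = k) → k = 1)
    {x : G} (hxt : x * t = t * x) (hxK : x ∈ Subgroup.normalizer (K : Set G))
    (hxo : Odd (orderOf x)) (hxP : ∀ s ∈ P, x * s = s * x) (hmove : ∃ k ∈ K, x * k * x⁻¹ ≠ k)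
    {χ : IrrCharacter G} (hne : χ ≠ oneIrr G) {d n : ℤ} (hd : (χ : G → ℂ) 1 = d)
    (hn : (χ : G → ℂ) t = n) : 12 ≤ d + |n| := by
  classical
  haveI := Fintype.ofFinite K
  haveI : Fact (Nat.Prime 2) := ⟨Nat.prime_two⟩
  have hKc : ∀ a b : K, a * b = b * a := fun a b => Subtype.ext (hK a a.2 b b.2)
  let xs : stab t K := ⟨x, Subgroup.mem_centralizer_singleton_iff.2 hxt, hxK⟩
  have hxso : orderOf xs = orderOf x := Subgroup.orderOf_mk x _
  -- linear characters of `K`
  have hlin : ∀ ξ : IrrCharacter K, ∃ l : K →* ℂˣ, (ξ : K → ℂ) = fun k => (l k : ℂ) := fun ξ =>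
    exists_hom_of_degree_one (isCharacter_of_irr ξ.2) (degree_one_of_commutative hKc ξ.2)
  -- some constituent is moved
  obtain ⟨l, hl0, hlmove⟩ : ∃ l : K →* ℂˣ,
      classInner (fun k : K => (χ : G → ℂ) k) (fun k => (l k : ℂ)) ≠ 0 ∧ tw xs l ≠ l := by
    by_contra hc
    push Not at hc
    obtain ⟨k, hk, hkx⟩ := hmove
    let kk : K := cK xs ⟨k, hk⟩ * (⟨k, hk⟩ : K)⁻¹
    have hval : (χ : G → ℂ) (kk : G) = (χ : G → ℂ) 1 := by
      have e : ∀ q : K, (χ : G → ℂ) q =
          ∑ ξ : IrrCharacter K, classInner (fun j : K => (χ : G → ℂ) j) (ξ : K → ℂ) * (ξ : K → ℂ) q := by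
        intro q
        have := congrFun (eq_sum_irr (ψ := fun j : K => (χ : G → ℂ) j) fun a b => by
          show (χ : G → ℂ) ((b : G) * a * (b : G)⁻¹) = _
          exact isClassFunction_irr χ.2 _ _) q
        simpa only [Finset.sum_apply, Pi.smul_apply, smul_eq_mul] using this
      rw [e kk, show (χ : G → ℂ) 1 = (χ : G → ℂ) ((1 : K) : G) by rw [Subgroup.coe_one], e 1]
      refine Finset.sum_congr rfl fun ξ _ => ?_
      by_cases h0 : classInner (fun j : K => (χ : G → ℂ) j) (ξ : K → ℂ) = 0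
      · rw [h0, zero_mul, zero_mul]
      obtain ⟨m, hm⟩ := hlin ξ
      congr 1
      have hfx := hc m (by rwa [← hm])
      have : m (cK xs ⟨k, hk⟩) = m ⟨k, hk⟩ := DFunLike.congr_fun hfx ⟨k, hk⟩
      rw [hm]
      simp [kk, this]
    obtain ⟨g, hg⟩ : ∃ g, (χ : G → ℂ) g ≠ (χ : G → ℂ) 1 := by
      by_contra hall
      push Not at hall
      have h0 := classInner_irr_ne χ.2 (oneIrr G).2 fun e => hne (Subtype.ext e)
      simp only [classInner, hall, oneIrr, map_one, mul_one, Finset.sum_const, Finset.card_univ,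
        nsmul_eq_mul, ← Nat.card_eq_fintype_card, mul_eq_zero, inv_eq_zero, Nat.cast_eq_zero,
        Nat.card_pos.ne', irr_one_ne_zero χ, or_false] at h0
    have hcen := Twist.central_of_norm (χ := χ) (a := (kk : G)) hg (by rw [hval])
    have hkk : (kk : G) = 1 := by
      rcases (Subgroup.center G).normal_of_characteristic.eq_bot_or_eq_top with h | h
      · exact Subgroup.mem_bot.1 (h ▸ Subgroup.mem_center_iff.2 fun b => (hcen b).symm)
      · exact absurd ⟨⟨fun a b => (Subgroup.mem_center_iff.1 (h ▸ Subgroup.mem_top b) a)⟩⟩ hna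
    exact hkx (mul_inv_eq_one.1 hkk)
  -- a translate by an element of `P` outside the orbit of `x`
  obtain ⟨s, hs, hsmove⟩ : ∃ s : stab t K, (s : G) ∈ P ∧ tw s l ≠ l := by
    by_contra hc
    push Not at hc
    refine hlmove ?_
    suffices hone : ∀ k : K, l k = 1 from MonoidHom.ext fun k => by
      rw [tw, MonoidHom.comp_apply, hone, hone]
    intro k
    haveI := Fintype.ofFinite P
    letI : CommGroup K := { (inferInstance : Group K) with mul_comm := hKc }
    let mem : ∀ s : P, (s : G) ∈ stab t K := fun s =>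
      ⟨Subgroup.mem_centralizer_singleton_iff.2 (hPt s s.2), hPK s.2⟩
    set w : K := ∏ s : P, cK (t := t) (K := K) ⟨(s : G), mem s⟩ k with hw
    have hw1 : w = 1 := by
      refine Subtype.ext (hfix w w.2 fun r hr => ?_)
      have hfx : cK ⟨r, mem ⟨r, hr⟩⟩ w = w := by
        rw [hw, map_prod]
        refine Fintype.prod_equiv (Equiv.mulLeft (⟨r, hr⟩ : P)) _ _ fun s => Subtype.ext ?_
        show r * ((s : G) * k * (s : G)⁻¹) * r⁻¹ = (r * (s : G)) * k * (r * (s : G))⁻¹
        group
      exact congrArg Subtype.val hfx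
    have h1 : l k ^ Nat.card P = 1 := by
      have := congrArg l hw1
      rw [map_one, hw, map_prod, Finset.prod_congr rfl fun (s : P) _ => show l (cK (t := t) (K := K) ⟨(s : G), mem s⟩ k) = l k from
        DFunLike.congr_fun (hc ⟨(s : G), mem s⟩ s.2) k, Finset.prod_const, Finset.card_univ,
        ← Nat.card_eq_fintype_card] at this
      exact this
    have h2 : l k ^ Nat.card K = 1 := by rw [← map_pow, pow_card_eq_one', map_one]
    obtain ⟨j, hj⟩ := IsPGroup.iff_card.1 hP
    have h3 := pow_gcd_eq_one.mpr ⟨h1, h2⟩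
    rwa [hj, Nat.Coprime.gcd_eq_one ((Nat.coprime_two_left.2 hKo).pow_left j), pow_one] at h3
  have hxs : s * xs = xs * s := Subtype.ext (hxP s hs).symm
  have hxF : ∀ {m : ℕ}, Nat.Coprime m (orderOf x) → tw (xs ^ m) l ≠ l := fun hm h =>
    hlmove (mem_of_pow_coprime (F := fixedBy l) (hxso.symm ▸ hm) h)
  have hodd := Nat.coprime_two_left.2 hxo
  let pts : Fin 3 × Fin 2 → (K →* ℂˣ) := fun p => tw (xs ^ (p.1 : ℕ) * s ^ (p.2 : ℕ)) l
  have hinj : Function.Injective pts := by
    have key0 : ∀ i j : ℕ, i < j → j ≤ 2 → tw (xs ^ i) l ≠ tw (xs ^ j) l := by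
      intro i j hij hj e
      rw [show xs ^ j = xs ^ (j - i) * xs ^ i by rw [← pow_add]; congr 1; omega, tw_mul] at e
      rcases (show j - i = 1 ∨ j - i = 2 by omega) with h | h
      · exact hxF (Nat.coprime_one_left _) ((tw_injective _ e).symm.trans rfl |> fun q => h ▸ q)
      · exact hxF hodd ((tw_injective _ e).symm.trans rfl |> fun q => h ▸ q)
    have key1 : ∀ i j : ℕ, tw (xs ^ i * s) l ≠ tw (xs ^ j) l := by
      intro i j e
      obtain ⟨q, hq⟩ : ∃ q : ℕ, tw s l = tw (xs ^ q) l := by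
        obtain ⟨q, hq⟩ : ∃ q : ℕ, (xs ^ i)⁻¹ * xs ^ j = xs ^ q := by
          have hmem : (xs ^ i)⁻¹ * xs ^ j ∈ Subgroup.zpowers xs :=
            mul_mem (inv_mem (Subgroup.npow_mem_zpowers xs i)) (Subgroup.npow_mem_zpowers xs j)
          obtain ⟨q, hq⟩ := (isOfFinOrder_of_finite xs).mem_powers_iff_mem_zpowers.2 hmem
          exact ⟨q, hq.symm⟩
        refine ⟨q, ?_⟩
        rw [show xs ^ i * s = s * xs ^ i from ((Commute.pow_right (show Commute s xs from hxs) i).eq).symm,
          tw_mul] at e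
        have := congrArg (tw (xs ^ i)⁻¹) e
        rwa [← tw_mul, mul_inv_cancel, tw_one, ← tw_mul, show xs ^ j * (xs ^ i)⁻¹ = (xs ^ i)⁻¹ * xs ^ j from
          (((Commute.pow_pow_self xs i j).inv_left).eq).symm, hq] at this
      have hmem : xs ^ q * s⁻¹ ∈ fixedBy l := show tw (xs ^ q * s⁻¹) l = l by
        rw [tw_mul, ← hq, ← tw_mul, mul_inv_cancel, tw_one]
      obtain ⟨a, ha⟩ := IsPGroup.iff_orderOf.1 hP ⟨(s : G), hs⟩
      rw [Subgroup.orderOf_mk, Subgroup.orderOf_coe] at ha
      have h1 := pow_mem hmem (2 ^ a)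
      rw [(((show Commute s xs from hxs).pow_right q).symm.inv_right).mul_pow, inv_pow, ← ha,
        pow_orderOf_eq_one, inv_one, mul_one, ← pow_mul, mul_comm, pow_mul, ha] at h1
      have hq' : xs ^ q ∈ fixedBy l := by
        have h2 : (xs ^ 2 ^ a) ^ q ∈ fixedBy l := h1
        rw [← pow_mul, mul_comm, pow_mul] at h2
        refine mem_of_pow_coprime (m := 2 ^ a) ?_ h2
        exact ((hxso.symm ▸ hodd).pow_left a).coprime_dvd_right (orderOf_pow_dvd q)
      refine hsmove ?_
      rw [hq]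
      exact hq'
    rintro ⟨i, a⟩ ⟨j, b⟩ e
    fin_cases a <;> fin_cases b <;> simp [pts] at e ⊢
    · rcases lt_trichotomy (i : ℕ) j with h | h | h
      · exact absurd e (key0 i j h (by omega))
      · exact Fin.ext h
      · exact absurd e.symm (key0 j i h (by omega))
    · exact key1 j i e.symm
    · exact key1 i j e
    · rw [tw_mul, tw_mul] at e
      have e' := tw_injective _ e
      rcases lt_trichotomy (i : ℕ) j with h | h | h
      · exact absurd e' (key0 i j h (by omega))
      · exact Fin.ext h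
      · exact absurd e'.symm (key0 j i h (by omega))
  -- the eigenspaces
  let j₂ : ℤˣ × K →* G :=
    { toFun := fun p => (if p.1 = 1 then 1 else t) * p.2
      map_one' := by simp
      map_mul' := by
        rintro ⟨a, k⟩ ⟨b, k'⟩
        have hc : ∀ q : K, (q : G) * t = t * q := fun q => hKt q q.2
        rcases Int.units_eq_one_or a with rfl | rfl <;> rcases Int.units_eq_one_or b with rfl | rfl <;>
          simp [mul_assoc]
        · rw [← mul_assoc (k : G), hc k, mul_assoc]
        · rw [← mul_assoc (k : G), hc k, mul_assoc, ← mul_assoc t t, ht2, one_mul] }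
  let sg : ℤˣ → ℤˣ →* ℂˣ := fun e => if e = 1 then 1 else Units.map (Int.castRingHom ℂ).toMonoidHom
  let χ2 : ℤˣ × K → ℂ := fun p => (χ : G → ℂ) (j₂ p)
  have hint : ∀ (e : ℤˣ) (m : K →* ℂˣ), ∃ q : ℕ,
      classInner χ2 (fun p => (((sg e).comp (MonoidHom.fst ℤˣ K) * m.comp (MonoidHom.snd ℤˣ K)) p : ℂ)) = q :=
    fun e m => classInner_char_nat (isCharacter_comp (isCharacter_of_irr χ.2) j₂)
      (isCharacter_of_irr (isIrrCharacter_linear _))
  choose Q hQ using hint
  have hsg : ∀ e : ℤˣ, ((sg e 1 : ℂˣ) : ℂ) = 1 ∧ ((sg e (-1) : ℂˣ) : ℂ) = ((e : ℤ) : ℂ) := by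
    intro e
    rcases Int.units_eq_one_or e with rfl | rfl <;> simp [sg]
  have hQval : ∀ (e : ℤˣ) (m : K →* ℂˣ), (Q e m : ℂ) = (2 * (Nat.card K : ℂ))⁻¹ *
      ∑ k : K, ((χ : G → ℂ) k + ((e : ℤ) : ℂ) * (χ : G → ℂ) (t * k)) * conj (m k : ℂ) := by
    intro e m
    rw [← hQ, classInner, Nat.card_prod, Fintype.sum_prod_type, UnitsInt.univ,
      Finset.sum_pair (by decide)]
    rw [show Nat.card ℤˣ = 2 by rw [Nat.card_eq_fintype_card]; rfl, ← Finset.sum_add_distrib]
    push_cast
    refine congrArg _ (Finset.sum_congr rfl fun k _ => ?_)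
    simp [χ2, j₂, (hsg e).1, (hsg e).2]
    ring
  have htwQ : ∀ (e : ℤˣ) (a : stab t K) (m : K →* ℂˣ), Q e (tw a m) = Q e m := by
    intro e a m
    have h1 := hQval e (tw a m)
    have h2 := hQval e m
    refine Nat.cast_injective (R := ℂ) ?_
    rw [h1, h2]
    congr 1
    have hinj : Function.Injective (cK a) := fun p q h => Subtype.ext
      (mul_left_cancel (mul_right_cancel (congrArg Subtype.val h)))
    refine Fintype.sum_bijective (cK a) (Finite.injective_iff_bijective.1 hinj) _ _ fun k => ?_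
    show _ = ((χ : G → ℂ) ((a : G) * k * (a : G)⁻¹) +
      ((e : ℤ) : ℂ) * (χ : G → ℂ) (t * ((a : G) * k * (a : G)⁻¹))) * _
    have hat : (a : G) * t = t * a := Subgroup.mem_centralizer_singleton_iff.1 a.2.1
    rw [show t * ((a : G) * k * (a : G)⁻¹) = (a : G) * (t * k) * (a : G)⁻¹ by
      rw [← mul_assoc, ← mul_assoc, ← hat]; group, isClassFunction_irr χ.2 _ a,
      isClassFunction_irr χ.2 _ a]
    rfl
  obtain ⟨e, he⟩ : ∃ e : ℤˣ, Q e l ≠ 0 := by
    by_contra hc
    push Not at hc
    have a1 := hQval 1 l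
    have a2 := hQval (-1) l
    rw [hc, Nat.cast_zero] at a1 a2
    refine hl0 ?_
    rw [classInner]
    have hsum := congrArg₂ (· + ·) a1 a2
    simp only [add_zero, ← mul_add, ← Finset.sum_add_distrib] at hsum
    rw [Finset.sum_congr rfl fun (k : K) _ => show
      ((χ : G → ℂ) k + (((1 : ℤˣ) : ℤ) : ℂ) * (χ : G → ℂ) (t * k)) * conj (l k : ℂ) +
        ((χ : G → ℂ) k + (((-1 : ℤˣ) : ℤ) : ℂ) * (χ : G → ℂ) (t * k)) * conj (l k : ℂ) =
        2 * ((χ : G → ℂ) k * conj (l k : ℂ)) by push_cast; ring, ← Finset.mul_sum] at hsum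
    rw [hsum]
    field_simp
  -- the dimension of the eigenspace
  haveI : Fintype (K →* ℂˣ) := by
    haveI : Finite (K →* ℂˣ) := Finite.of_injective
      (fun m => (⟨fun k => (m k : ℂ), isIrrCharacter_linear m⟩ : IrrCharacter K))
      fun a b h => MonoidHom.ext fun k => Units.ext (congrFun (congrArg Subtype.val h) k)
    exact Fintype.ofFinite _
  have htot : (2 : ℤ) * ∑ m : K →* ℂˣ, (Q e m : ℤ) = d + (e : ℤ) * n := by
    refine Int.cast_injective (α := ℂ) ?_
    push_cast
    rw [← hd, ← hn, Finset.sum_congr rfl fun m _ => hQval e m]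
    let f : K → ℂ := fun k => (χ : G → ℂ) k + ((e : ℤ) : ℂ) * (χ : G → ℂ) (t * k)
    have hf : IsClassFunction K f := fun a b => congrArg f (by rw [hKc, inv_mul_cancel_left])
    have h1 := congrFun (eq_sum_irr hf) 1
    simp only [Finset.sum_apply, Pi.smul_apply, smul_eq_mul] at h1
    have hf1 : f 1 = (χ : G → ℂ) 1 + ((e : ℤ) : ℂ) * (χ : G → ℂ) t := by simp [f]
    rw [← hf1, h1, Finset.mul_sum]
    let em : (K →* ℂˣ) → IrrCharacter K := fun m => ⟨fun k => (m k : ℂ), isIrrCharacter_linear m⟩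
    have hem : Function.Bijective em := ⟨fun a b h => MonoidHom.ext fun k =>
      Units.ext (congrFun (congrArg Subtype.val h) k), fun ξ => by
        obtain ⟨m, hm⟩ := hlin ξ
        exact ⟨m, Subtype.ext hm.symm⟩⟩
    refine Fintype.sum_bijective em hem _ _ fun m => ?_
    simp only [classInner, f, em, map_one, Units.val_one, mul_one]
    field_simp
  have h6 : (6 : ℤ) ≤ ∑ m : K →* ℂˣ, (Q e m : ℤ) := by
    calc (6 : ℤ) = ∑ m ∈ Finset.univ.image pts, (1 : ℤ) := by
          rw [Finset.sum_const, Finset.card_image_of_injective _ hinj]; simp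
      _ ≤ ∑ m ∈ Finset.univ.image pts, (Q e m : ℤ) := by
          refine Finset.sum_le_sum fun m hm => ?_
          obtain ⟨p, -, rfl⟩ := Finset.mem_image.1 hm
          have : Q e (pts p) = Q e l := htwQ e _ l
          rw [this]
          exact_mod_cast Nat.one_le_iff_ne_zero.2 he
      _ ≤ _ := Finset.sum_le_sum_of_subset_of_nonneg (Finset.subset_univ _) fun m _ _ => by positivity
  have habs : (e : ℤ) * n ≤ |n| := by
    rcases Int.units_eq_one_or e with rfl | rfl
    · simpa using le_abs_self n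
    · simpa using neg_le_abs n
  omega

end CfsgLib.GW
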