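import Cfsg.Agent.Lib.GW.LChar.Partner
import Cfsg.Agent.Lib.GW.LChar.Degree
import Cfsg.Agent.Lib.GW.LChar.CombinMore

/-!
# Sylow four groups: the core is `[O(C(t)), S]`

`C(t)` maximal and no configuration (IIb).  A linear character of `C(t)` trivial on `S` and nontrivial on
the core is either fixed by the rotation of `S` (excluded by `lchar_four`) or moved (excluded by the
degree bound and the three fused columns).
-/

set_option autoImplicit false
set_option linter.unusedSectionVars false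
set_option linter.style.haveILetI false

namespace CfsgLib.GW

open Cfsg CfsgLib.CharTheory CfsgLib.Blocks CfsgLib.Blocks.Dihedral
open CfsgLib.GW.Twist (cz cz_eq LinOn linOn_one IsLin linPair)
open scoped ComplexConjugate commutatorElement

universe u

variable {G : Type u} [Group G] [Finite G]

namespace SplitHyp

variable {S : Sylow 2 G} {t : G} (H : SplitHyp S t)

include H

/-- A four group with its rotation. -/
theorem four_frame (hS : Nat.card (S : Subgroup G) = 4) :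
    ∃ v y : G, v ∈ (S : Subgroup G) ∧ orderOf v = 2 ∧ v ≠ t ∧ y * t * y⁻¹ = v ∧ y * v * y⁻¹ = t * v ∧
      Subgroup.closure ({t, v} : Set G) = (S : Subgroup G) ∧
      Subgroup.closure ({t, t * v} : Set G) = (S : Subgroup G) ∧
      y ∈ Subgroup.normalizer ((S : Subgroup G) : Set G) ∧
      (∀ w ∈ (S : Subgroup G), w = 1 ∨ w = t ∨ w = v ∨ w = t * v) ∧
      y ^ 3 ∈ centI t := by
  haveI : Fact (Nat.Prime 2) := ⟨Nat.prime_two⟩
  obtain ⟨n, hn, ⟨eS⟩⟩ := H.hyp.dihedral.shape S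
  have hn2 : n = 2 := by
    have := Nat.card_congr eS.toEquiv
    rw [DihedralGroup.nat_card] at this
    omega
  subst hn2
  have hsq : ∀ w ∈ (S : Subgroup G), w * w = 1 := by
    intro w hw
    have h : ∀ d : DihedralGroup 2, d * d = 1 := by decide
    have := h (eS ⟨w, hw⟩)
    rw [← map_mul, ← map_one eS, eS.apply_eq_iff_eq] at this
    exact congrArg Subtype.val this
  obtain ⟨u, hu, hu1, hut⟩ : ∃ u ∈ (S : Subgroup G), u ≠ 1 ∧ u ≠ t := by
    by_contra hc
    push Not at hc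
    have hle : ((S : Subgroup G) : Set G) ⊆ ({1, t} : Set G) := fun x hx => by
      by_cases hx1 : x = 1
      · exact Or.inl hx1
      · exact Or.inr (hc x hx hx1)
    have h1 := Set.ncard_le_ncard hle (Set.toFinite _)
    rw [Set.ncard_pair H.ne_one.symm, ← Nat.card_coe_set_eq] at h1
    rw [SetLike.coe_sort_coe] at h1
    omega
  have hcl : ∀ w ∈ (S : Subgroup G), w ≠ 1 → w ≠ t →
      Subgroup.closure ({t, w} : Set G) = (S : Subgroup G) ∧ IsKleinFour (Subgroup.closure ({t, w} : Set G)) := by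
    intro w hw hw1 hwt
    have hk := isKleinFour_closure_pair H.tt (hsq w hw) H.ne_one hw1 (Ne.symm hwt) (H.htZ w hw).symm
    refine ⟨Subgroup.eq_of_le_of_card_ge ?_ (by rw [hS, hk.card_four]), hk⟩
    rw [Subgroup.closure_le]
    rintro q (rfl | rfl)
    exacts [H.htS, hw]
  obtain ⟨hVS, hV⟩ := hcl u hu hu1 hut
  obtain ⟨g, hg, -, hg3, hcyc⟩ := H.hyp.exists_three hV
  rw [hVS] at hg hg3 hcyc
  obtain ⟨h1, h2⟩ := hcyc t H.htS H.ne_one
  set v := g * t * g⁻¹ with hvdef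
  have hv : v ∈ (S : Subgroup G) := (Subgroup.mem_normalizer_iff.1 hg t).1 H.htS
  have hv2 : orderOf v = 2 := by
    rw [hvdef, show orderOf (g * t * g⁻¹) = orderOf t from MulEquiv.orderOf_eq (MulAut.conj g) t]
    exact H.ht
  have hv1 : v ≠ 1 := fun e => by rw [e, orderOf_one] at hv2; omega
  have htv : t * v ≠ 1 := fun e => h1 (by
    rw [mul_eq_one_iff_eq_inv] at e
    rw [e, inv_eq_of_mul_eq_one_right (hsq v hv)])
  refine ⟨v, g, hv, hv2, h1, rfl, h2, (hcl v hv hv1 h1).1,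
    (hcl _ (mul_mem H.htS hv) htv (fun e => hv1 (mul_eq_left.1 e))).1, hg, fun w hw => ?_, ?_⟩
  · haveI := (hcl v hv hv1 h1).2
    by_contra hc
    push Not at hc
    have hm : ∀ q ∈ (S : Subgroup G), q ∈ Subgroup.closure ({t, v} : Set G) := fun q hq =>
      (hcl v hv hv1 h1).1.symm ▸ hq
    exact hc.2.2.2 (congrArg Subtype.val (IsKleinFour.eq_mul_of_ne_all
      (x := (⟨t, hm t H.htS⟩ : Subgroup.closure ({t, v} : Set G))) (y := ⟨v, hm v hv⟩) (z := ⟨w, hm w hw⟩)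
      (fun q => H.ne_one (congrArg Subtype.val q)) (fun q => hv1 (congrArg Subtype.val q))
      (fun q => h1 (congrArg Subtype.val q).symm) (fun q => hc.1 (congrArg Subtype.val q))
      (fun q => hc.2.1 (congrArg Subtype.val q)) (fun q => hc.2.2.1 (congrArg Subtype.val q))))
  · exact Subgroup.mem_centralizer_singleton_iff.2 (Subgroup.mem_centralizer_iff.1 hg3 t H.htS).symm

/-- The congruence between the degree and the value at `t`. -/
theorem four_cong [Fintype G] (hS : Nat.card (S : Subgroup G) = 4)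
    (hone : ∀ w ∈ (S : Subgroup G), w ≠ 1 → IsConj t w) (χ : IrrCharacter G) :
    4 ∣ degZ χ + 3 * tval t χ := by
  classical
  haveI := Fintype.ofFinite (S : Subgroup G)
  obtain ⟨n, hn⟩ := classInner_char_nat (isCharacter_restrict_irr (S : Subgroup G) χ)
    (isCharacter_of_irr (oneIrr ↥(S : Subgroup G)).2)
  refine ⟨(n : ℤ), Int.cast_injective (α := ℂ) ?_⟩
  have hone' : ∀ x : (S : Subgroup G),
      conj (((oneIrr ↥(S : Subgroup G) : IrrCharacter ↥(S : Subgroup G)) : ↥(S : Subgroup G) → ℂ) x) = 1 :=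
    fun x => map_one _
  have hcl : ∀ x ∈ (Finset.univ : Finset (S : Subgroup G)).erase 1, (χ : G → ℂ) x = (χ : G → ℂ) t := by
    intro x hx
    obtain ⟨g, hg⟩ := isConj_iff.1 (hone x x.2 fun e => (Finset.mem_erase.1 hx).1 (Subtype.ext e))
    rw [← hg]
    exact isClassFunction_irr χ.2 _ g
  have hs : ∑ x : (S : Subgroup G), (χ : G → ℂ) x = (χ : G → ℂ) 1 + 3 * (χ : G → ℂ) t := by
    rw [← Finset.add_sum_erase _ _ (Finset.mem_univ 1), OneMemClass.coe_one,
      Finset.sum_congr rfl hcl, Finset.sum_const, Finset.card_erase_of_mem (Finset.mem_univ _),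
      Finset.card_univ, ← Nat.card_eq_fintype_card, hS, nsmul_eq_mul]
    norm_num
  rw [classInner, Finset.sum_congr rfl fun x _ => by rw [hone' x, mul_one], hS, hs, tval_spec H.tt, degZ_spec,
    inv_mul_eq_iff_eq_mul₀ (by norm_num)] at hn
  push_cast at hn ⊢
  linear_combination hn

set_option maxHeartbeats 1000000 in
/-- No moved linear character. -/
theorem four_moved [Fintype G] (hS : Nat.card (S : Subgroup G) = 4) (hne : H.Kc ≠ coreC t) {v y : G}
    (hv : v ∈ (S : Subgroup G)) (hv2 : orderOf v = 2) (hvt : v ≠ t) (hyt : y * t * y⁻¹ = v)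
    (hyv : y * v * y⁻¹ = t * v) (hcl : Subgroup.closure ({t, v} : Set G) = (S : Subgroup G))
    (hyN : y ∈ Subgroup.normalizer ((S : Subgroup G) : Set G))
    (hel : ∀ w ∈ (S : Subgroup G), w = 1 ∨ w = t ∨ w = v ∨ w = t * v) (hy3 : y ^ 3 ∈ centI t)
    {L : G → ℂ} (hL : LinOn (centI t) L) (h2 : ∀ s ∈ (S : Subgroup G), L s = 1)
    (hmove : ∃ u ∈ coreC t, u * v = v * u ∧ L (y * u * y⁻¹) ≠ L u) : False := by
  classical
  haveI : Fact (Nat.Prime 2) := ⟨Nat.prime_two⟩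
  haveI := H.hyp.simple
  letI : Fintype (coreC t) := Fintype.ofFinite _
  letI : Fintype (cz t) := Fintype.ofFinite _
  obtain ⟨M, hM⟩ := CfsgLib.Blocks.exists_isPModular Nat.prime_two
  have T := H.tsec
  have hvv : v * v = 1 := Involutions.mul_self_eq_one_of_orderOf hv2
  have hv1 : v ≠ 1 := fun e => by rw [e, orderOf_one] at hv2; omega
  have hty : y * (t * v) * y⁻¹ = t := by
    rw [show y * (t * v) * y⁻¹ = (y * t * y⁻¹) * (y * v * y⁻¹) by group, hyt, hyv, ← mul_assoc, H.htZ v hv,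
      mul_assoc, hvv, mul_one]
  have hy2t : y * y * t * (y * y)⁻¹ = t * v := by
    rw [show y * y * t * (y * y)⁻¹ = y * (y * t * y⁻¹) * y⁻¹ by group, hyt, hyv]
  have hyN' : y ∈ Subgroup.normalizer ((Subgroup.closure ({t, v} : Set G) : Subgroup G) : Set G) := by
    rw [hcl]; exact hyN
  have hyyN' : y * y ∈ Subgroup.normalizer ((Subgroup.closure ({t, v} : Set G) : Subgroup G) : Set G) :=
    mul_mem hyN' hyN'
  have hct : ∀ u ∈ coreC t, u * t = t * u := fun u hu => ((mem_coreC H.hyp.dihedral H.ht).1 hu).1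
  have htv : ∀ u ∈ coreC t, u * (t * v) = t * v * u ↔ u * v = v * u := fun u hu => by
    rw [← mul_assoc, hct u hu, mul_assoc, mul_assoc, mul_right_inj]
  -- the three linear characters
  set μ : coreC t →* ℂˣ := hL.hom H.core_le with hμdef
  have hμ : ∀ u : coreC t, (μ u : ℂ) = L u := fun u => rfl
  set φ₁ := H.phi hv hvv hyN' μ with hφ₁
  set φ₂ := H.phi hv hvv hyyN' μ with hφ₂
  have hμv : ∀ u : coreC t, ∀ s (hs : s ∈ (S : Subgroup G)), μ (T.conjO ⟨s, T.leP hs⟩ u) = μ u := fun u s hs =>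
    Units.ext (hL.conjugate (H.S_le hs) (H.core_le u.2))
  -- invariance of `φ₁`, `φ₂`
  have hinv : ∀ φ : coreC t →* ℂˣ, (∀ {u u' : coreC t}, (u' : G) = v * u * v⁻¹ → φ u' = φ u) →
      ∀ a : Subgroup.centralizer ({t} : Set G), φ.comp (T.conjO a) = φ := by
    intro φ hφ a
    obtain ⟨o, ho, s, hs, e⟩ := centralizer_eq_core_mul H.hyp.dihedral S H.ht H.htZ
      (Subgroup.mem_centralizer_singleton_iff.1 a.2)
    rw [show a = ⟨o, T.le ho⟩ * ⟨s, T.leP hs⟩ from Subtype.ext e, T.conjO_core φ ho]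
    refine MonoidHom.ext fun u => ?_
    rw [MonoidHom.comp_apply]
    rcases hel s hs with rfl | rfl | rfl | rfl
    · exact congrArg φ (Subtype.ext (show (1 : G) * u * 1⁻¹ = u by group))
    · exact congrArg φ (Subtype.ext (show s * (u : G) * s⁻¹ = u by
        rw [← hct u u.2, mul_inv_cancel_right]))
    · exact hφ rfl
    · refine hφ (show t * v * (u : G) * (t * v)⁻¹ = v * u * v⁻¹ from ?_)
      rw [show t * v * (u : G) * (t * v)⁻¹ = t * (v * u * v⁻¹) * t⁻¹ by group,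
        ← hct _ (H.core_conj (H.S_le hv) u.2), mul_inv_cancel_right]
  have hi₁ := hinv φ₁ fun h => H.phi_conj hv hvv hyN' μ h
  have hi₂ := hinv φ₂ fun h => H.phi_conj hv hvv hyyN' μ h
  have hiμ := hinv μ fun {u u'} h => Units.ext (by
    rw [hμ, hμ, h]; exact hL.conjugate (H.S_le hv) (H.core_le u.2))
  -- they are different
  have hev₁ : ∀ u : coreC t, (u : G) * v = v * u → (φ₁ u : ℂ) = L (y * u * y⁻¹) := fun u hu => by
    rw [hφ₁, H.phi_apply hv hvv hyN' μ hu]; rfl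
  have hev₂ : ∀ u : coreC t, (u : G) * v = v * u → (φ₂ u : ℂ) = L (y * y * u * (y * y)⁻¹) := fun u hu => by
    rw [hφ₂, H.phi_apply hv hvv hyyN' μ hu]; rfl
  have hfix : ∀ {g : G}, g ∈ Subgroup.normalizer ((Subgroup.closure ({t, v} : Set G) : Subgroup G) : Set G) →
      ∀ u ∈ coreC t, u * v = v * u → g * u * g⁻¹ ∈ coreC t ∧ g * u * g⁻¹ * v = v * (g * u * g⁻¹) :=
    fun hg u hu huv => H.conj_fix hg hu huv
  have hcube : ∀ u ∈ coreC t, L (y * (y * y * u * (y * y)⁻¹) * y⁻¹) = L u := fun u hu => by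
    rw [show y * (y * y * u * (y * y)⁻¹) * y⁻¹ = y ^ 3 * u * (y ^ 3)⁻¹ by simp [pow_three, mul_assoc]]
    exact hL.conjugate hy3 (H.core_le hu)
  obtain ⟨u₀, hu₀, hu₀v, hu₀L⟩ := hmove
  have h1μ : φ₁ ≠ μ := fun e => hu₀L (by rw [← hev₁ ⟨u₀, hu₀⟩ hu₀v, e, hμ])
  have h2μ : φ₂ ≠ μ := fun e => hu₀L (by
    obtain ⟨hm, hmv⟩ := hfix hyN' u₀ hu₀ hu₀v
    have h := hev₂ ⟨_, hm⟩ hmv
    rw [e, hμ] at h
    rw [h, show y * y * (y * u₀ * y⁻¹) * (y * y)⁻¹ = y * (y * y * u₀ * (y * y)⁻¹) * y⁻¹ by group]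
    exact hcube u₀ hu₀)
  have h12 : φ₁ ≠ φ₂ := fun e => hu₀L (by
    obtain ⟨hm, hmv⟩ := hfix (inv_mem hyN') u₀ hu₀ hu₀v
    rw [inv_inv] at hm hmv
    have h := hev₂ ⟨_, hm⟩ hmv
    rw [← e, hev₁ ⟨_, hm⟩ hmv, show y * (y⁻¹ * u₀ * y) * y⁻¹ = u₀ by group,
      show y * y * (y⁻¹ * u₀ * y) * (y * y)⁻¹ = y * u₀ * y⁻¹ by group] at h
    exact h.symm)
  have hμ1 : μ ≠ 1 := fun e => hu₀L (by
    have h0 : ∀ u ∈ coreC t, L u = 1 := fun u hu => by
      rw [← hμ ⟨u, hu⟩, e]; rfl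
    rw [h0 _ (hfix hyN' u₀ hu₀ hu₀v).1, h0 _ hu₀])
  -- degrees
  obtain ⟨x, hxt, hxo, hxS, hxm⟩ := H.exists_mover hne
  have hKn : ∀ c ∈ centI t, c ∈ Subgroup.normalizer (H.Kc : Set G) := fun c hc =>
    Subgroup.mem_normalizer_iff.2 fun k => ⟨fun hk => H.Kc_conj hc hk, fun hk => by
      simpa [mul_assoc] using H.Kc_conj (inv_mem hc) hk⟩
  have hbig : ∀ χ : IrrCharacter G, χ ≠ oneIrr G → 12 ≤ degZ χ + |tval t χ| := fun χ hχ =>
    twelve_le (K := H.Kc) (P := (S : Subgroup G)) H.hyp.noncomm H.tt H.ne_one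
      (fun a ha b hb => H.Kc_abelian ha hb) (fun k hk => hct k (H.Kc_le hk))
      (H.card_odd.of_dvd_nat (Subgroup.card_dvd_of_le H.Kc_le)) S.isPGroup' H.htZ
      (fun s hs => hKn s (H.S_le hs))
      (fun k hk h => H.Kc_fixed hk fun s hs => (comm_of_conj_eq (h s hs)).symm) hxt
      (hKn x (Subgroup.mem_centralizer_singleton_iff.2 hxt)) hxo hxS hxm hχ (degZ_spec χ) (tval_spec H.tt χ)
  have hone : ∀ w ∈ (S : Subgroup G), w ≠ 1 → IsConj t w := fun w hw hw1 => by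
    rcases hel w hw with rfl | rfl | rfl | rfl
    · exact absurd rfl hw1
    · exact IsConj.refl _
    · exact isConj_iff.2 ⟨y, hyt⟩
    · exact isConj_iff.2 ⟨y * y, hy2t⟩
  have hcong := H.four_cong hS hone
  have htS' : t ∈ Subgroup.centralizer ({t} : Set G) := Subgroup.mem_centralizer_singleton_iff.2 rfl
  have hgt : ∀ g : G, g * t * g⁻¹ ∈ (S : Subgroup G) →
      g * t * g⁻¹ = t ∨ g * t * g⁻¹ = v ∨ g * t * g⁻¹ = t * v := fun g hg =>
    (hel _ hg).resolve_left fun e => H.ne_one (conj_eq_one_iff.1 e)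
  -- the principal block
  obtain ⟨B₁, D₁⟩ := exists_overCtx hM T H.htS (linOn_one (H := Subgroup.centralizer ({t} : Set G))) fun _ _ => rfl
  have h11 : ∀ u : coreC t, (((1 : coreC t →* ℂˣ) u : ℂˣ) : ℂ) = 1 := fun u => rfl
  have hall₁ : ∀ b : Set (IrrCharacter (cz t)), IsPBlock M b → IsInducedBlock M (cz t) b B₁ →
      ∃ i : Fin 1, ∃ ψ ∈ b, rc T (fun u => (((fun _ => (1 : coreC t →* ℂˣ)) i) u : ℂ)) (ψ : cz t → ℂ) ≠ 0 := by
    intro b hb hov
    have hcases : ∀ g : G, g * t * g⁻¹ ∈ (S : Subgroup G) → GoodAt S t (fun _ => (1 : ℂ)) g := fun g hg => by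
      rcases hgt g hg with e | e | e
      · exact Or.inl (Subgroup.mem_centralizer_singleton_iff.2 (mul_inv_eq_iff_eq_mul.1 e))
      · exact Or.inr ⟨y, (S : Subgroup G), le_rfl, H.htS, hg, hyt.trans e.symm, hyN, fun _ _ => rfl⟩
      · exact Or.inr ⟨y * y, (S : Subgroup G), le_rfl, H.htS, hg, hy2t.trans e.symm, mul_mem hyN hyN, fun _ _ => rfl⟩
    rcases D₁.cover_all (ι := Fin 0) Fin.elim0 Fin.elim0 h11 (fun i => i.elim0) (fun i => i.elim0)
      (fun i => i.elim0) (fun g hg => Or.inl (hcases g hg)) b hb hov with h | ⟨i, _⟩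
    · exact ⟨0, h⟩
    · exact i.elim0
  have hT₁ : ∀ χ ∈ B₁, tval t χ = coefZ t (1 : coreC t →* ℂˣ) χ := fun χ hχ => by
    rw [D₁.tval_eq (ι := Fin 1) (fun _ => (1 : coreC t →* ℂˣ)) (fun i j _ => Subsingleton.elim i j)
      (fun i a => ⟨i, MonoidHom.one_comp _⟩) hall₁ hχ, Fin.sum_univ_one]
  have hout₁ : ∀ χ : IrrCharacter G, coefZ t (1 : coreC t →* ℂˣ) χ ≠ 0 → χ ∈ B₁ := fun χ h =>
    by_contra fun hn => h (D₁.coefZ_out (D₁.cov_mu H.htS h11) hn)
  have hself : ∀ φ : coreC t →* ℂˣ, (∀ a, φ.comp (T.conjO a) = φ) → T.fusCount φ φ = 4 := fun φ h => by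
    rw [T.fusCount_self fun s hs => h _, hS]
  have hnorm : ∀ φ : coreC t →* ℂˣ, (∀ a, φ.comp (T.conjO a) = φ) →
      ∑ χ : IrrCharacter G, coefZ t φ χ * coefZ t φ χ = 4 := fun φ h => by
    rw [T.coefZ_orth, hself φ h]; rfl
  have horth : ∀ φ ψ : coreC t →* ℂˣ, (∀ a, ψ.comp (T.conjO a) = ψ) → ψ ≠ φ →
      ∑ χ : IrrCharacter G, coefZ t φ χ * coefZ t ψ χ = 0 := fun φ ψ h hne => by
    rw [T.coefZ_orth, T.fusCount_eq_zero fun s hs => by rw [h]; exact hne]; rfl
  obtain ⟨a₁, a₂, a₃, ha, hsum, hab, he₁⟩ := Combin.four_principal (degZ_pos (G := G))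
    (c := coefZ t (1 : coreC t →* ℂˣ)) (hnorm 1 fun a => MonoidHom.one_comp _) (T.coefZ_degree 1) (o := oneIrr G)
    ⟨Int.cast_injective (α := ℂ) (by rw [← degZ_spec]; simp [oneIrr]), by rw [coefZ_oneIrr T, if_pos rfl]⟩
    (fun χ h => by rw [← hT₁ χ (hout₁ χ h)]; exact hcong χ)
    (fun χ hne h => by rw [← hT₁ χ (hout₁ χ h)]; exact hbig χ hne)
  -- the twisted block
  obtain ⟨B, D⟩ := exists_overCtx hM T H.htS hL h2
  have hcy : ∀ (g w : G) (hw : w ∈ (S : Subgroup G)) (φ : coreC t →* ℂˣ), w * w = 1 → g * t * g⁻¹ = w →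
      g ∈ Subgroup.normalizer ((Subgroup.closure ({t, v} : Set G) : Subgroup G) : Set G) →
      (∀ u ∈ coreC t, u * w = w * u ↔ u * v = v * u) →
      (∀ a, φ.comp (T.conjO a) = φ) → (∀ u : coreC t, (u : G) * v = v * u → (φ u : ℂ) = L (g * u * g⁻¹)) →
      ∀ χ : IrrCharacter G, 2 ∣ coefZ t φ χ - coefZ t μ χ := by
    intro g w hw φ hww hgw hgN hiff hφ hev χ
    refine T.coefZ_parity χ hw hww hgw (fun u hu huw => ?_) (fun u => DFunLike.congr_fun (hφ _) u)
      (fun u => hμv u w hw) fun u huw h => Units.ext ((hev u ((hiff u u.2).1 huw)).trans (hμ ⟨_, h⟩).symm)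
    obtain ⟨hm, hmv⟩ := hfix hgN u hu ((hiff u hu).1 huw)
    exact ⟨hm, (hiff _ hm).2 hmv⟩
  have hpar₁ := hcy y v hv φ₁ hvv hyt hyN' (fun u _ => Iff.rfl) hi₁ hev₁
  have hpar₂ := hcy (y * y) (t * v) (mul_mem H.htS hv) φ₂
    (by rw [← mul_assoc, mul_assoc t v t, H.htZ v hv, ← mul_assoc, H.tt, one_mul, hvv]) hy2t hyyN' htv hi₂ hev₂
  have hcov₁ := D.cov_of_parity H.htS hμ hpar₁ (hself _ hi₁)
  have hcov₂ := D.cov_of_parity H.htS hμ hpar₂ (hself _ hi₂)
  set f : Fin 3 → coreC t →* ℂˣ := ![μ, φ₁, φ₂] with hf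
  have hall : ∀ b : Set (IrrCharacter (cz t)), IsPBlock M b → IsInducedBlock M (cz t) b B →
      ∃ i : Fin 3, ∃ ψ ∈ b, rc T (fun u => ((f i) u : ℂ)) (ψ : cz t → ℂ) ≠ 0 := by
    intro b hb hov
    rcases D.cover_all (ι := Fin 2) ![φ₁, φ₂] ![v, t * v] hμ (fun i => by fin_cases i <;> assumption)
      (fun i => by fin_cases i <;> assumption)
      (fun i j a h => by
        fin_cases i <;> fin_cases j <;> first
          | rfl
          | exact absurd ((hi₁ a).symm.trans h) h12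
          | exact absurd ((hi₂ a).symm.trans h) h12.symm)
      (fun g hg => by
        rcases hgt g hg with e | e | e
        · exact Or.inl (Or.inl (Subgroup.mem_centralizer_singleton_iff.2 (mul_inv_eq_iff_eq_mul.1 e)))
        · exact Or.inr ⟨0, 1, one_mem _, by rw [e]; simp⟩
        · exact Or.inr ⟨1, 1, one_mem _, by rw [e]; simp⟩) b hb hov with h | ⟨i, h⟩
    · exact ⟨0, h⟩
    · fin_cases i
      · exact ⟨1, h⟩
      · exact ⟨2, h⟩
  have hT : ∀ χ ∈ B, tval t χ = coefZ t μ χ + coefZ t φ₁ χ + coefZ t φ₂ χ := fun χ hχ => by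
    rw [D.tval_eq f ?_ ?_ hall hχ, Fin.sum_univ_three]
    · rfl
    · intro i j h
      fin_cases i <;> fin_cases j <;>
        first | rfl | exact absurd h h1μ | exact absurd h h1μ.symm | exact absurd h h2μ |
          exact absurd h h2μ.symm | exact absurd h h12 | exact absurd h h12.symm
    · intro i a
      refine ⟨i, ?_⟩
      fin_cases i
      · exact hiμ a
      · exact hi₁ a
      · exact hi₂ a
  have hout : ∀ χ : IrrCharacter G, coefZ t μ χ ≠ 0 → χ ∈ B := fun χ h =>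
    by_contra fun hn => h (D.coefZ_out (D.cov_mu H.htS hμ) hn)
  refine Combin.four_moved (degZ_pos (G := G)) (c := coefZ t μ) (w := coefZ t φ₁) (w' := coefZ t φ₂)
    (hnorm _ hiμ) (hnorm _ hi₁) (hnorm _ hi₂) (T.coefZ_degree μ) (T.coefZ_degree φ₁) (T.coefZ_degree φ₂)
    (horth _ _ hi₁ h1μ) (horth _ _ hi₂ h2μ) (horth _ _ hi₂ h12.symm) hpar₁ hpar₂
    (fun χ h => by rw [← hT χ (hout χ h)]; exact hcong χ)
    (fun χ h => by
      rw [← hT χ (hout χ h)]
      exact hbig χ fun e => h (by rw [e, coefZ_oneIrr T, if_neg hμ1])) ha hsum hab ?_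
  rw [← he₁]
  have hcongr : ∀ (T' : IrrCharacter G → ℤ) (c : IrrCharacter G → ℤ), (∀ χ, c χ ≠ 0 → tval t χ = T' χ) →
      Combin.wsum (degZ (G := G)) T' c = Combin.wsum (degZ (G := G)) (tval t) c := fun T' c h =>
    Finset.sum_congr rfl fun χ _ => by
      by_cases h0 : c χ = 0
      · simp [h0]
      · rw [h χ h0]
  rw [hcongr _ _ fun χ h => hT χ (hout χ h), hcongr _ _ fun χ h => hT₁ χ (hout₁ χ h)]
  exact T.wsum_coef hL (h2 t H.htS) hμ

/-- For a four group every linear character of `C(t)` trivial on `S` is fixed, unless the core is `[O(C(t)), S]`. -/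
theorem fixed_four (hS : Nat.card (S : Subgroup G) = 4) (hne : H.Kc ≠ coreC t) {L : G → ℂ} (hL : LinOn (centI t) L)
    (h2 : ∀ s ∈ (S : Subgroup G), L s = 1) {w : G} (hw : w ∈ (S : Subgroup G)) (hw1 : w ≠ 1) (hwt : w ≠ t) :
    FixAt t L w := by
  classical
  letI : Fintype G := Fintype.ofFinite G
  obtain ⟨v, y, hv, hv2, hvt, hyt, hyv, hcl, hcl', hyN, hel, hy3⟩ := H.four_frame hS
  by_cases hfx : ∀ u ∈ coreC t, u * v = v * u → L (y * u * y⁻¹) = L u
  swap
  · push Not at hfx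
    exact (H.four_moved hS hne hv hv2 hvt hyt hyv hcl hyN hel hy3 hL h2 hfx).elim
  have hvv : v * v = 1 := Involutions.mul_self_eq_one_of_orderOf hv2
  rcases hel w hw with rfl | rfl | rfl | rfl
  · exact absurd rfl hw1
  · exact absurd rfl hwt
  · exact H.fixAt_of_core hL h2 hv hv2 hvt hyt (by rw [hcl]; exact hyN) hfx
  · have hy2t : y * y * t * (y * y)⁻¹ = t * v := by
      rw [show y * y * t * (y * y)⁻¹ = y * (y * t * y⁻¹) * y⁻¹ by group, hyt, hyv]
    have htv2 : orderOf (t * v) = 2 := orderOf_eq_prime (by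
      rw [pow_two, ← mul_assoc, mul_assoc t v t, H.htZ v hv, ← mul_assoc, H.tt, one_mul, hvv]) hw1
    refine H.fixAt_of_core hL h2 hw htv2 hwt hy2t (by rw [hcl']; exact mul_mem hyN hyN) fun u hu huw => ?_
    have huv : u * v = v * u := by
      rw [← mul_assoc, ((mem_coreC H.hyp.dihedral H.ht).1 hu).1, mul_assoc, mul_assoc, mul_right_inj] at huw
      exact huw
    obtain ⟨hm, hmv⟩ := H.conj_fix (by rw [hcl]; exact hyN) hu huv
    rw [show y * y * u * (y * y)⁻¹ = y * (y * u * y⁻¹) * y⁻¹ by group, hfx _ hm hmv, hfx u hu huv]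

set_option maxHeartbeats 1000000 in
/-- For a four group the core is `[O(C(t)), S]`. -/
theorem core_four (hS : Nat.card (S : Subgroup G) = 4) : H.Kc = coreC t := by
  classical
  by_contra hne
  letI : Fintype G := Fintype.ofFinite G
  haveI := H.hyp.simple
  haveI : Fact (Nat.Prime 2) := ⟨Nat.prime_two⟩
  refine hne (core_eq_commutator_of_hom H.hyp.dihedral S H.ht H.htZ fun f hf x hx => ?_)
  obtain ⟨v, y, hv, hv2, hvt, hyt, hyv, hcl, hcl', hyN, hel, hy3⟩ := H.four_frame hS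
  let L : G → ℂ := fun g => if hg : g ∈ centI t then (f ⟨g, hg⟩ : ℂ) else 1
  have hLv : ∀ g (hg : g ∈ centI t), L g = (f ⟨g, hg⟩ : ℂ) := fun g hg => dif_pos hg
  have hlin : LinOn (centI t) L := by
    refine ⟨?_, fun a ha b hb => ?_⟩
    · rw [hLv 1 (one_mem _), show (⟨1, one_mem _⟩ : centI t) = 1 from rfl, map_one, Units.val_one]
    · rw [hLv _ ha, hLv _ hb, hLv _ (mul_mem ha hb), ← Units.val_mul, ← map_mul]; rfl
  have h2 : ∀ s ∈ (S : Subgroup G), L s = 1 := fun s hs => by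
    rw [hLv s (H.S_le hs), hf ⟨s, H.S_le hs⟩ hs, Units.val_one]
  obtain ⟨M, hM⟩ := CfsgLib.Blocks.exists_isPModular Nat.prime_two
  have hy2t : y * y * t * (y * y)⁻¹ = t * v := by
    rw [show y * y * t * (y * y)⁻¹ = y * (y * t * y⁻¹) * y⁻¹ by group, hyt, hyv]
  have hF : Twist.FixedFour S t L := by
    refine ⟨hlin, h2, fun w hw hw1 hwt => ?_⟩
    obtain ⟨g, hg, hgN, hgL⟩ := H.fixed_four hS hne hlin h2 hw hw1 hwt
    have hclw : Subgroup.closure ({t, w} : Set G) = (S : Subgroup G) := by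
      rcases hel w hw with rfl | rfl | rfl | rfl
      · exact absurd rfl hw1
      · exact absurd rfl hwt
      · exact hcl
      · exact hcl'
    rw [hclw] at hgN
    exact ⟨g, hg, hgN, fun k hk => hgL k (Subgroup.mem_centralizer_iff.1 hk t H.htS).symm
      (Subgroup.mem_centralizer_iff.1 hk w hw).symm⟩
  have hone : ∀ w ∈ (S : Subgroup G), w ≠ 1 → IsConj t w := fun w hw hw1 => by
    rcases hel w hw with rfl | rfl | rfl | rfl
    · exact absurd rfl hw1
    · exact IsConj.refl _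
    · exact isConj_iff.2 ⟨y, hyt⟩
    · exact isConj_iff.2 ⟨y * y, hy2t⟩
  have hsq : ∀ w ∈ (S : Subgroup G), w * w = 1 := fun w hw => by
    have hvv : v * v = 1 := Involutions.mul_self_eq_one_of_orderOf hv2
    rcases hel w hw with rfl | rfl | rfl | rfl
    · exact one_mul 1
    · exact H.tt
    · exact hvv
    · rw [← mul_assoc, mul_assoc t v t, H.htZ v hv, ← mul_assoc, H.tt, one_mul, hvv]
  have h := Twist.lchar_four (M := M) (P := S) (z := t) (K := coreC t)
    ⟨hM, hS, hsq, H.htS, H.ne_one, H.tsec.core, hone⟩ H.hyp.noncomm hF hx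
  rw [hLv _ x.2] at h
  exact Units.ext h

end SplitHyp

end CfsgLib.GW
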