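import Cfsg.Agent.Lib.GW.LChar.EightCase
import Cfsg.Agent.Lib.GW.LChar.Four
import Cfsg.Agent.Lib.GW.LChar.Final
import Cfsg.Agent.Lib.GW.LChar

/-!
# The maximal case: the core is `[O(C(t)), S]`, and the final hypotheses of the classification
-/

set_option autoImplicit false
set_option linter.unusedSectionVars false
set_option linter.style.haveILetI false

namespace CfsgLib.GW

open Cfsg
open CfsgLib.Blocks.Dihedral
open CfsgLib.GW.Twist (cz LinOn)

universe u

variable {G : Type u} [Group G] [Finite G]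

namespace SplitHyp

variable {S : Sylow 2 G} {t : G} (H : SplitHyp S t)

include H

/-- For a dihedral Sylow subgroup of order at least eight every fusion fixes every twist. -/
theorem fixAt_dih {σ : G} {k : ℕ} (hh : Dih S σ k) (hσt : σ ^ k = t) (hne : H.Kc ≠ coreC t) {L : G → ℂ}
    (hL : LinOn (centI t) L) (h2 : ∀ s ∈ (S : Subgroup G), L s = 1) {v : G} (hv : v ∈ (S : Subgroup G))
    (hv2 : orderOf v = 2) (hvt : v ≠ t) : FixAt t L v := by
  classical
  by_cases h4 : 4 ∣ k
  · exact H.fix_big hh hσt h4 hL h2 hv hv2 hvt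
  obtain rfl : k = 2 := by
    obtain ⟨a, ha⟩ := hh.hpow
    rcases a with _ | a
    · exact ha
    · exact absurd ⟨2 ^ a, by rw [ha, pow_succ, pow_succ]; ring⟩ h4
  haveI := Fintype.ofFinite G
  haveI := Fintype.ofFinite (coreC t)
  haveI := Fintype.ofFinite (cz t)
  obtain ⟨M, hM⟩ := CfsgLib.Blocks.exists_isPModular Nat.prime_two
  by_contra hnf
  have hvn := H.not_rot hh hσt hv2 hvt
  have hun : σ * v ∉ Subgroup.zpowers σ := fun e => hvn (by
    simpa using mul_mem (inv_mem (Subgroup.mem_zpowers σ)) e)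
  have huS : σ * v ∈ (S : Subgroup G) := mul_mem hh.mem hv
  have hu2 : orderOf (σ * v) = 2 :=
    orderOf_eq_prime (by rw [pow_two]; exact (hh.out huS hun).1) fun e => hun (e ▸ one_mem _)
  have hut : σ * v ≠ t := fun e => hun (by rw [e, ← hσt]; exact Subgroup.npow_mem_zpowers σ 2)
  by_cases hfx : FixAt t L (σ * v)
  · exact H.not_one_moved hh hσt hM hne hL h2 hv hv2 hvt hnf hfx
  · exact H.not_two_moved hh hσt hM hne hL h2 hv hv2 hvt hnf hu2 hut hfx

/-- The core is `[O(C(t)), S]`. -/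
theorem core_eq : H.Kc = coreC t := by
  classical
  by_cases hS : Nat.card (S : Subgroup G) = 4
  · exact H.core_four hS
  by_contra hne
  haveI := Fintype.ofFinite G
  obtain ⟨σ, k, hh, hσt⟩ := exists_dih H.hyp.dihedral S hS H.ht H.htS H.htZ
  obtain ⟨M, hM⟩ := CfsgLib.Blocks.exists_isPModular Nat.prime_two
  haveI := H.hyp.simple
  set C := Subgroup.centralizer ({t} : Set G)
  refine hne (core_eq_commutator_of_hom H.hyp.dihedral S H.ht H.htZ fun f hf x hx => ?_)
  let L : G → ℂ := fun g => if hg : g ∈ C then (f ⟨g, hg⟩ : ℂ) else 1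
  have hL : ∀ g (hg : g ∈ C), L g = (f ⟨g, hg⟩ : ℂ) := fun g hg => dif_pos hg
  have hlin : LinOn C L := by
    refine ⟨?_, fun a ha b hb => ?_⟩
    · rw [hL 1 (one_mem C), show (⟨1, one_mem C⟩ : C) = 1 from rfl, map_one, Units.val_one]
    · rw [hL _ (mul_mem ha hb), hL a ha, hL b hb, ← Units.val_mul, ← map_mul]; rfl
  have htwo : ∀ s ∈ (S : Subgroup G), L s = 1 := fun s hs => by
    rw [hL s (H.S_le hs), hf ⟨s, H.S_le hs⟩ hs, Units.val_one]
  have hF : Twist.Fixed S σ k L := by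
    refine ⟨?_, htwo, fun v hv hvv hvn _ => ?_⟩
    · rw [← hσt]
      exact hlin
    have hv2 : orderOf v = 2 := orderOf_eq_prime (by rw [pow_two]; exact hvv) fun e => hvn (e ▸ one_mem _)
    have hvt : v ≠ t := fun e => hvn (by rw [e, hσt]; exact Subgroup.npow_mem_zpowers σ k)
    obtain ⟨y, h1, h3, h5⟩ := H.fixAt_dih hh hσt.symm hne hlin htwo hv hv2 hvt
    rw [← hσt]
    exact ⟨y, h1, h3, h5⟩
  have hone : ∀ v ∈ (S : Subgroup G), v * v = 1 → v ≠ 1 → IsConj (σ ^ k) v := fun v _ hvv hv1 => by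
    rw [← hσt]
    exact H.hyp.all_conj _ _ H.ht (orderOf_eq_prime (by rw [sq, hvv]) hv1)
  obtain ⟨hxc, hxo⟩ := (mem_coreC H.hyp.dihedral H.ht).1 hx
  have hres := Twist.lchar H.hyp.noncomm hM hh hone hF (w := (x : G)) (by rw [← hσt]; exact hxc) hxo
  rw [hL _ x.2] at hres
  exact Units.ext hres

end SplitHyp

/-- **The maximal case.** -/
theorem GWHyp.finalHyp (h : GWHyp G) (S : Sylow 2 G) (t : G) (ht : orderOf t = 2) (htS : t ∈ (S : Subgroup G))
    (htZ : ∀ s ∈ (S : Subgroup G), s * t = t * s) (hmax : IsCoatom (Subgroup.centralizer ({t} : Set G)))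
    (noIIb : ∀ (v : G) (p : ℕ), IIb S t v p → False) : FinalHyp S t :=
  have H : SplitHyp S t := ⟨h, ht, htS, htZ, hmax, noIIb⟩
  H.finalHyp_of_core H.core_eq

end CfsgLib.GW
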