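import Cfsg.Agent.Lib.GW.CoreFix
import Cfsg.Agent.Lib.CoprimeAbelian

/-!
# The core when every noncentral involution centralises or inverts each primary part

`K = [O, S]` is abelian, and for an involution `v` the core splits as the part of `K` inverted by `v`
times the centraliser of `v`.
-/

set_option autoImplicit false
set_option linter.unusedSectionVars false

namespace CfsgLib.GW

open Cfsg DihedralGroup
open CfsgLib.DihedralFusion
open CfsgLib.BenderMax (OO)
open scoped commutatorElement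

universe u

variable {G : Type u} [Group G] [Finite G]

/-- `C(t)` is maximal and no configuration (IIb) occurs. -/
structure SplitHyp (S : Sylow 2 G) (t : G) : Prop where
  hyp : GWHyp G
  ht : orderOf t = 2
  htS : t ∈ (S : Subgroup G)
  htZ : ∀ s ∈ (S : Subgroup G), s * t = t * s
  maxC : IsCoatom (centI t)
  noIIb : ∀ (v : G) (p : ℕ), IIb S t v p → False

namespace SplitHyp

variable {S : Sylow 2 G} {t : G} (H : SplitHyp S t)

include H

theorem tt : t * t = 1 := Involutions.mul_self_eq_one_of_orderOf H.ht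

theorem ne_one : t ≠ 1 := fun e => by have := H.ht; rw [e, orderOf_one] at this; omega

theorem S_le : (S : Subgroup G) ≤ centI t := fun s hs => Subgroup.mem_centralizer_singleton_iff.2 (H.htZ s hs)

theorem core_le : coreC t ≤ centI t := fun x hx =>
  Subgroup.mem_centralizer_singleton_iff.2 ((mem_coreC H.hyp.dihedral H.ht).1 hx).1

theorem core_conj {c x : G} (hc : c ∈ centI t) (hx : x ∈ coreC t) : c * x * c⁻¹ ∈ coreC t := by
  refine (mem_coreC H.hyp.dihedral H.ht).2 ⟨?_, by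
    rw [show orderOf (c * x * c⁻¹) = orderOf x from MulEquiv.orderOf_eq (MulAut.conj c) x]
    exact ((mem_coreC H.hyp.dihedral H.ht).1 hx).2⟩
  exact Subgroup.mem_centralizer_singleton_iff.1 (mul_mem (mul_mem hc (H.core_le hx)) (inv_mem hc))

theorem card_odd : Odd (Nat.card (coreC t)) := by
  rw [coreC, Subgroup.card_map_of_injective (Subgroup.centralizer ({t} : Set G)).subtype_injective]
  exact CfsgLib.odd_card_oddCore

theorem eq_one_of_inv {x : G} (hx : x ∈ coreC t) (h : x = x⁻¹) : x = 1 := by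
  have h2 : x ^ 2 = 1 := by rw [pow_two]; nth_rewrite 1 [h]; exact inv_mul_cancel x
  exact orderOf_eq_one_iff.1 (Nat.eq_one_of_dvd_coprimes
    (Nat.coprime_two_left.2 ((mem_coreC H.hyp.dihedral H.ht).1 hx).2) (orderOf_dvd_of_pow_eq_one h2) dvd_rfl)

theorem invol_act {v : G} (hv : v ∈ (S : Subgroup G)) (hv2 : orderOf v = 2) {r : ℕ} (hr : r.Prime) (hr2 : r ≠ 2) :
    (∀ x ∈ OO r (centI t), v * x * v⁻¹ = x) ∨ (∀ x ∈ OO r (centI t), v * x * v⁻¹ = x⁻¹) := by
  by_cases hvt : v = t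
  · subst hvt
    exact Or.inl fun x hx => conj_eq_of_comm
      (Subgroup.mem_centralizer_singleton_iff.1 (Subgroup.map_subtype_le _ hx)).symm
  by_cases hm : ∃ x ∈ OO r (centI t), x * v ≠ v * x
  · right
    refine inverts_of_inf_centI (Involutions.mul_self_eq_one_of_orderOf hv2)
      (fun x hx => BenderMax.conj_OO (H.S_le hv) hx) ?_
    rw [eq_bot_iff]
    intro x hx
    by_contra h1
    exact H.noIIb v r ⟨H.hyp, H.ht, H.htS, H.htZ, hv2, hv, hvt, H.maxC, hr, hr2,
      ⟨x, hx.1, fun e => h1 (e ▸ one_mem _), Subgroup.mem_centralizer_singleton_iff.1 hx.2⟩, hm⟩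
  · push Not at hm
    exact Or.inl fun x hx => conj_eq_of_comm (hm x hx).symm

/-- Every element of the Sylow subgroup acts on each primary part by a sign. -/
theorem act {s : G} (hs : s ∈ (S : Subgroup G)) {r : ℕ} (hr : r.Prime) (hr2 : r ≠ 2) :
    (∀ x ∈ OO r (centI t), s * x * s⁻¹ = x) ∨ (∀ x ∈ OO r (centI t), s * x * s⁻¹ = x⁻¹) := by
  obtain ⟨n, hn, ⟨eS⟩⟩ := H.hyp.dihedral.shape S
  haveI : NeZero n := ⟨by omega⟩
  have ho : ∀ j : ZMod n, orderOf (pt eS (sr j)) = 2 := fun j =>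
    orderOf_pt eS (fun e => by rw [one_def] at e; cases e) (sr_mul_self j)
  rcases hi : eS ⟨s, hs⟩ with i | i
  · have e : s = pt eS (sr 0) * pt eS (sr i) := by
      rw [← pt_mul, sr_mul_sr, sub_zero, ← hi, pt_eq]
    have hc : ∀ x : G, s * x * s⁻¹ = pt eS (sr 0) * (pt eS (sr i) * x * (pt eS (sr i))⁻¹) * (pt eS (sr 0))⁻¹ :=
      fun x => by rw [e]; group
    rcases H.invol_act (pt_mem eS (sr 0)) (ho 0) hr hr2 with a | a <;>
      rcases H.invol_act (pt_mem eS (sr i)) (ho i) hr hr2 with b | b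
    · exact Or.inl fun x hx => by rw [hc, b x hx, a x hx]
    · exact Or.inr fun x hx => by rw [hc, b x hx, a _ (inv_mem hx)]
    · exact Or.inr fun x hx => by rw [hc, b x hx, a x hx]
    · exact Or.inl fun x hx => by rw [hc, b x hx, a _ (inv_mem hx), inv_inv]
  · exact H.invol_act hs (by rw [← pt_eq eS hs, hi]; exact ho i) hr hr2

/-- Squares centralise the core. -/
theorem sq_comm {s : G} (hs : s ∈ (S : Subgroup G)) : ∀ x ∈ coreC t, x * (s * s) = s * s * x := by
  haveI : Fact (Nat.Prime 2) := ⟨Nat.prime_two⟩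
  obtain ⟨k, hk⟩ := S.isPGroup' ⟨s * s, mul_mem hs hs⟩
  refine core_comm_of_two_element (H.S_le (mul_mem hs hs)) ⟨k, congrArg Subtype.val hk⟩ fun r hr hr2 x hx => ?_
  refine (comm_of_conj_eq ?_).symm
  rw [show s * s * x * (s * s)⁻¹ = s * (s * x * s⁻¹) * s⁻¹ by group]
  rcases H.act hs hr hr2 with a | a
  · rw [a x hx, a x hx]
  · rw [a x hx, a _ (inv_mem hx), inv_inv]

/-- `[O, S]`. -/
noncomputable def Kc (_H : SplitHyp S t) : Subgroup G := ⁅coreC t, (S : Subgroup G)⁆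

theorem S_norm : (S : Subgroup G) ≤ Subgroup.normalizer (coreC t : Set G) := fun s hs =>
  Subgroup.mem_normalizer_iff.2 fun x => ⟨fun hx => H.core_conj (H.S_le hs) hx, fun hx => by
    simpa [mul_assoc] using H.core_conj (inv_mem (H.S_le hs)) hx⟩

theorem coprime_sub {A : Subgroup G} (hA : A ≤ (S : Subgroup G)) :
    (Nat.card A).Coprime (Nat.card (coreC t)) := by
  haveI : Fact (Nat.Prime 2) := ⟨Nat.prime_two⟩
  obtain ⟨k, hk⟩ := IsPGroup.iff_card.1 (S.isPGroup'.to_le hA)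
  rw [hk]
  exact (Nat.coprime_two_left.2 H.card_odd).pow_left k

theorem solv : Group.IsSolvable (coreC t) := CfsgLib.OddOrder.feitThompson H.card_odd

theorem Kc_le : H.Kc ≤ coreC t := commutator_le_of_le_normalizer H.S_norm

theorem Kc_comm_OO {k : G} (hk : k ∈ H.Kc) : ∀ r : ℕ, r.Prime → r ≠ 2 → ∀ f ∈ OO r (centI t), f * k = k * f := by
  intro r hr hr2 f hf
  have hle : H.Kc ≤ Subgroup.centralizer ({f} : Set G) := by
    rw [Kc, Subgroup.commutator_le]
    intro o ho s hs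
    refine Subgroup.mem_centralizer_singleton_iff.2 (comm_of_conj_eq ?_)
    have ho' := H.core_le ho
    have hf' : o⁻¹ * f * o ∈ OO r (centI t) := by
      simpa using BenderMax.conj_OO (inv_mem ho') hf
    rw [commutatorElement_def]
    rcases H.act hs hr hr2 with a | a
    · have e : s⁻¹ * f * s = f := by
        have := a f hf
        nth_rewrite 1 [← this]
        group
      rw [show o * s * o⁻¹ * s⁻¹ * f * (o * s * o⁻¹ * s⁻¹)⁻¹ = o * (s * (o⁻¹ * (s⁻¹ * f * s) * o) * s⁻¹) * o⁻¹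
        by group, e, a _ hf']
      group
    · have e : s⁻¹ * f * s = f⁻¹ := by
        have := a f⁻¹ (inv_mem hf)
        rw [inv_inv] at this
        nth_rewrite 1 [← this]
        group
      rw [show o * s * o⁻¹ * s⁻¹ * f * (o * s * o⁻¹ * s⁻¹)⁻¹ = o * (s * (o⁻¹ * (s⁻¹ * f * s) * o) * s⁻¹) * o⁻¹
        by group, e, show o⁻¹ * f⁻¹ * o = (o⁻¹ * f * o)⁻¹ by group, a _ (inv_mem hf'), inv_inv]
      group
  exact (Subgroup.mem_centralizer_singleton_iff.1 (hle hk)).symm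

theorem Kc_abelian {a b : G} (ha : a ∈ H.Kc) (hb : b ∈ H.Kc) : a * b = b * a :=
  core_comm_of_comm_OO (H.Kc_le ha) (H.Kc_le hb) (H.Kc_comm_OO ha) (H.Kc_comm_OO hb)

theorem Kc_conj {c k : G} (hc : c ∈ centI t) (hk : k ∈ H.Kc) : c * k * c⁻¹ ∈ H.Kc := by
  obtain ⟨o, ho, s, hs, rfl⟩ := centralizer_eq_core_mul H.hyp.dihedral S H.ht H.htZ
    (Subgroup.mem_centralizer_singleton_iff.1 hc)
  have h1 : s * k * s⁻¹ ∈ H.Kc :=
    (Subgroup.mem_normalizer_iff.1 (right_le_normalizer_commutator (S : Subgroup G) (coreC t) hs) k).1 hk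
  have h2 := (Subgroup.mem_normalizer_iff.1 (left_le_normalizer_commutator (S : Subgroup G) (coreC t) ho) _).1 h1
  simpa [Kc, mul_assoc] using h2

/-- Only the identity of `[O, S]` is fixed by `S`. -/
theorem Kc_fixed {k : G} (hk : k ∈ H.Kc) (h : ∀ s ∈ (S : Subgroup G), k * s = s * k) : k = 1 := by
  haveI : IsMulCommutative H.Kc := ⟨⟨fun a b => Subtype.ext (H.Kc_abelian a.2 b.2)⟩⟩
  have hn : (S : Subgroup G) ≤ Subgroup.normalizer (H.Kc : Set G) :=
    right_le_normalizer_commutator (S : Subgroup G) (coreC t)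
  have h1 := coprime_abelian_disjoint (S : Subgroup G) H.Kc hn
    ((H.coprime_sub le_rfl).coprime_dvd_right (Subgroup.card_dvd_of_le H.Kc_le))
  have h2 : ⁅H.Kc, (S : Subgroup G)⁆ = H.Kc :=
    coprime_commutator_commutator H.S_norm (H.coprime_sub le_rfl) (Or.inr H.solv)
  rw [h2] at h1
  have : k ∈ (H.Kc ⊓ Subgroup.centralizer ((S : Subgroup G) : Set G)) ⊓ H.Kc :=
    ⟨⟨hk, Subgroup.mem_centralizer_iff.2 fun s hs => (h s hs).symm⟩, hk⟩
  rw [h1] at this
  exact Subgroup.mem_bot.1 this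

theorem split {v : G} (hv : v ∈ (S : Subgroup G)) (hv2 : v * v = 1) {o : G} (ho : o ∈ coreC t) :
    ∃ c ∈ coreC t, c * v = v * c ∧ o * c⁻¹ ∈ H.Kc ∧ v * (o * c⁻¹) * v⁻¹ = (o * c⁻¹)⁻¹ := by
  have hA : Subgroup.zpowers v ≤ (S : Subgroup G) := Subgroup.zpowers_le.2 hv
  obtain ⟨x, hx, c, hc, rfl⟩ := coprime_decomp (hA.trans H.S_norm) (H.coprime_sub hA) (Or.inr H.solv) ho
  refine ⟨c, hc.1, (hc.2 v (Subgroup.mem_zpowers v)).symm, ?_⟩
  rw [mul_inv_cancel_right]
  let N : Subgroup G :=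
    { carrier := {a | a ∈ H.Kc ∧ v * a * v⁻¹ = a⁻¹}
      one_mem' := ⟨one_mem _, by group⟩
      mul_mem' := fun {a b} ha hb => ⟨mul_mem ha.1 hb.1, by
        rw [show v * (a * b) * v⁻¹ = v * a * v⁻¹ * (v * b * v⁻¹) by group, ha.2, hb.2, ← mul_inv_rev,
          H.Kc_abelian hb.1 ha.1]⟩
      inv_mem' := fun {a} ha => ⟨inv_mem ha.1, by
        rw [show v * a⁻¹ * v⁻¹ = (v * a * v⁻¹)⁻¹ by group, ha.2]⟩ }
  suffices ⁅coreC t, Subgroup.zpowers v⁆ ≤ N from this hx
  rw [Subgroup.commutator_le]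
  intro b hb s hs
  refine ⟨Subgroup.commutator_mem_commutator hb (hA hs), ?_⟩
  have hsv : s = 1 ∨ s = v := by
    obtain ⟨j, rfl⟩ := hs
    rcases Int.even_or_odd' j with ⟨i, rfl | rfl⟩
    · left; show v ^ (2 * i) = 1; rw [zpow_mul, zpow_two, hv2, one_zpow]
    · right; show v ^ (2 * i + 1) = v; rw [zpow_add, zpow_mul, zpow_two, hv2, one_zpow, one_mul, zpow_one]
  have hvi : v⁻¹ = v := inv_eq_of_mul_eq_one_right hv2
  rcases hsv with rfl | rfl
  · simp
  · simp only [commutatorElement_def, mul_inv_rev, inv_inv, hvi]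
    simp only [mul_assoc, hv2, mul_one]

theorem split_unique {v a a' c c' : G} (ha : a ∈ H.Kc) (ha' : a' ∈ H.Kc) (hai : v * a * v⁻¹ = a⁻¹)
    (hai' : v * a' * v⁻¹ = a'⁻¹) (hc : c * v = v * c) (hc' : c' * v = v * c') (e : a * c = a' * c') : c = c' := by
  have h1 : a'⁻¹ * a = c' * c⁻¹ := by rw [eq_mul_inv_iff_mul_eq, mul_assoc, e, inv_mul_cancel_left]
  have h2 : v * (c' * c⁻¹) * v⁻¹ = c' * c⁻¹ :=
    conj_eq_of_comm (((show Commute c' v from hc').mul_left (show Commute c v from hc).inv_left).eq).symm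
  rw [← h1, show v * (a'⁻¹ * a) * v⁻¹ = (v * a' * v⁻¹)⁻¹ * (v * a * v⁻¹) by group, hai, hai', inv_inv] at h2
  have h3 : a'⁻¹ * a = (a'⁻¹ * a)⁻¹ := by
    rw [mul_inv_rev, inv_inv]
    nth_rewrite 1 [← h2]
    rw [H.Kc_abelian ha' (inv_mem ha)]
  have h4 := H.eq_one_of_inv (H.Kc_le (mul_mem (inv_mem ha') ha)) h3
  rw [h1, mul_inv_eq_one] at h4
  exact h4.symm

/-- The projection of the core on the centraliser of the involution. -/
noncomputable def proj {v : G} (hv : v ∈ (S : Subgroup G)) (hv2 : v * v = 1) : coreC t →* coreC t where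
  toFun o := ⟨(H.split hv hv2 o.2).choose, (H.split hv hv2 o.2).choose_spec.1⟩
  map_one' := by
    obtain ⟨-, hc, hK, hi⟩ := (H.split hv hv2 (1 : coreC t).2).choose_spec
    exact Subtype.ext (H.split_unique hK (one_mem _) hi (by group) hc
      (show (1 : G) * v = v * 1 by group) (by rw [inv_mul_cancel_right]; simp))
  map_mul' x y := by
    obtain ⟨-, hc, hK, hi⟩ := (H.split hv hv2 (x * y).2).choose_spec
    obtain ⟨hcx', hcx, hKx, hix⟩ := (H.split hv hv2 x.2).choose_spec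
    obtain ⟨-, hcy, hKy, hiy⟩ := (H.split hv hv2 y.2).choose_spec
    refine Subtype.ext ?_
    set cx := (H.split hv hv2 x.2).choose
    set cy := (H.split hv hv2 y.2).choose
    set ax := (x : G) * cx⁻¹ with hax
    set ay := (y : G) * cy⁻¹ with hay
    have hayK : cx * ay * cx⁻¹ ∈ H.Kc := H.Kc_conj (H.core_le hcx') hKy
    refine H.split_unique hK (mul_mem hKx hayK) hi ?_ hc
      (show cx * cy * v = v * (cx * cy) from
        ((show Commute cx v from hcx).mul_left (show Commute cy v from hcy)).eq) ?_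
    · have e1 : v * cx * v⁻¹ = cx := conj_eq_of_comm hcx.symm
      rw [show v * (ax * (cx * ay * cx⁻¹)) * v⁻¹ =
        v * ax * v⁻¹ * (v * cx * v⁻¹ * (v * ay * v⁻¹) * (v * cx * v⁻¹)⁻¹) by group, e1, hix, hiy,
        show cx * ay⁻¹ * cx⁻¹ = (cx * ay * cx⁻¹)⁻¹ by group, ← mul_inv_rev, H.Kc_abelian hayK hKx]
    · simp only [Subgroup.coe_mul, inv_mul_cancel_right, hax, hay]
      show (x : G) * y = (x : G) * cx⁻¹ * (cx * ((y : G) * cy⁻¹) * cx⁻¹) * (cx * cy)
      group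

theorem proj_comm {v : G} (hv : v ∈ (S : Subgroup G)) (hv2 : v * v = 1) (o : coreC t) :
    (H.proj hv hv2 o : G) * v = v * H.proj hv hv2 o :=
  (H.split hv hv2 o.2).choose_spec.2.1

theorem proj_of_comm {v : G} (hv : v ∈ (S : Subgroup G)) (hv2 : v * v = 1) {o : coreC t}
    (h : (o : G) * v = v * o) : H.proj hv hv2 o = o := by
  obtain ⟨-, hc, hK, hi⟩ := (H.split hv hv2 o.2).choose_spec
  exact Subtype.ext (H.split_unique hK (one_mem _) hi (by group) hc h ((inv_mul_cancel_right _ _).trans (one_mul _).symm))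

theorem proj_conj {v : G} (hv : v ∈ (S : Subgroup G)) (hv2 : v * v = 1) {o o' : coreC t}
    (h : (o' : G) = v * o * v⁻¹) : H.proj hv hv2 o' = H.proj hv hv2 o := by
  obtain ⟨-, hc, hK, hi⟩ := (H.split hv hv2 o'.2).choose_spec
  obtain ⟨-, hc', hK', hi'⟩ := (H.split hv hv2 o.2).choose_spec
  set c := (H.split hv hv2 o.2).choose with hcd
  refine Subtype.ext (H.split_unique hK (inv_mem hK') hi ?_ hc hc' ?_)
  · rw [show v * ((o : G) * c⁻¹)⁻¹ * v⁻¹ = (v * ((o : G) * c⁻¹) * v⁻¹)⁻¹ by group, hi']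
  · refine (inv_mul_cancel_right _ _).trans ?_
    show (o' : G) = ((o : G) * c⁻¹)⁻¹ * c
    rw [h, show v * (o : G) * v⁻¹ = v * ((o : G) * c⁻¹) * v⁻¹ * (v * c * v⁻¹) by group,
      hi', conj_eq_of_comm hc'.symm]

end SplitHyp

end CfsgLib.GW
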