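import Mathlib

/-!
# The arithmetic of moved twists

The two column sums of a moved twisted block cannot be those of a principal block all of whose
nontrivial characters have a large eigenspace at the involution.
-/

namespace CfsgLib.GW.MovedArith

set_option linter.unusedVariables false

/-- The signed degrees of a principal block, dihedral group of order eight. -/
structure Prin (y b c : ℤ) : Prop where
  hy : 8 ∣ y - 1
  hb : 8 ∣ b - 3
  hc : 8 ∣ c - 3
  sum : 1 + y + b + c = 0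
  y11 : 11 ≤ |y|
  b11 : 11 ≤ |b|
  c11 : 11 ≤ |c|

/-- The column at the rotations. -/
def eA (y b c : ℤ) : ℚ := 1 + 1 / (y : ℚ) + 1 / (b : ℚ) + 1 / (c : ℚ)

/-- The column at the involution. -/
def eC (y b c : ℤ) : ℚ := 1 + 1 / (y : ℚ) - 1 / (b : ℚ) - 1 / (c : ℚ) - 8 / ((1 + y : ℤ) : ℚ)

variable {y b c : ℤ}

theorem Prin.eA_low (h : Prin y b c) : 11 / 13 ≤ eA y b c := by
  obtain ⟨hy, hb, hc, hs, y11, b11, c11⟩ := h
  rw [le_abs] at y11 b11 c11
  have key : ∀ x : ℤ, (11 ≤ x ∨ x ≤ -13) →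
      -(1 / 13) ≤ (1 : ℚ) / x ∧ (0 < x → 0 ≤ (1 : ℚ) / x) := by
    intro x hx
    rcases hx with h | h
    · have : (0 : ℚ) < x := by exact_mod_cast (show 0 < x by omega)
      have h0 : 0 ≤ (1 : ℚ) / x := by positivity
      exact ⟨by linarith, fun _ => h0⟩
    · refine ⟨?_, fun hp => by omega⟩
      have hq : (x : ℚ) ≤ -13 := by exact_mod_cast h
      rw [← one_div_neg_eq_neg_one_div, one_div_le_one_div_of_neg (by norm_num) (by linarith)]
      exact hq
  obtain ⟨y1, y2⟩ := key y (by omega)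
  obtain ⟨b1, b2⟩ := key b (by omega)
  obtain ⟨c1, c2⟩ := key c (by omega)
  unfold eA
  have : 0 < y ∨ 0 < b ∨ 0 < c := by omega
  rcases this with h | h | h
  · linarith [y2 h]
  · linarith [b2 h]
  · linarith [c2 h]

/-- The sum of the two columns. -/
theorem Prin.add_eq (h : Prin y b c) :
    eA y b c + eC y b c = 2 * (((y : ℚ) - 1) ^ 2 / ((y : ℚ) * (y + 1))) := by
  obtain ⟨hy, hb, hc, hs, y11, b11, c11⟩ := h
  rw [le_abs] at y11
  have h1 : (y : ℚ) ≠ 0 := by exact_mod_cast (show y ≠ 0 by omega)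
  have h2 : (y : ℚ) + 1 ≠ 0 := by exact_mod_cast (show y + 1 ≠ 0 by omega)
  unfold eA eC
  push_cast
  rw [add_comm (1 : ℚ) (y : ℚ)]
  field_simp
  ring

theorem Prin.add_pos (h : Prin y b c) : 0 < eA y b c + eC y b c := by
  have y11 := h.y11
  rw [le_abs] at y11
  rw [h.add_eq]
  have h1 : 0 < (y : ℚ) * (y + 1) := by
    rcases y11 with e | e
    · have : (11 : ℚ) ≤ y := by exact_mod_cast e
      positivity
    · have : (y : ℚ) ≤ -11 := by exact_mod_cast (show y ≤ -11 by omega)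
      exact mul_pos_of_neg_of_neg (by linarith) (by linarith)
  have h2 : 0 < ((y : ℚ) - 1) ^ 2 := by
    have : (y : ℚ) - 1 ≠ 0 := by exact_mod_cast (show y - 1 ≠ 0 by omega)
    positivity
  positivity

/-- One moved class. -/
theorem one_moved (h : Prin y b c) {A B : ℤ} (hA : 8 ∣ A - 7) (hB : 8 ∣ B - 3) (A11 : 11 ≤ |A|)
    (B11 : 11 ≤ |B|) (hAB : 10 ≤ |A + B|) (h1 : eA y b c = 8 / (A : ℚ) - 8 / (B : ℚ))
    (h2 : eC y b c = 10 / (A : ℚ) + 10 / (B : ℚ) - 8 / ((A + B : ℤ) : ℚ)) : False := by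
  have hlow := h.eA_low
  have hpos := h.add_pos
  rw [h1] at hlow hpos
  rw [h2] at hpos
  rw [le_abs] at A11 B11
  have hA0 : 0 < A := by
    by_contra hc
    have hq : (A : ℚ) ≤ -9 := by exact_mod_cast (show A ≤ -9 by omega)
    have q1 : 8 / (A : ℚ) ≤ 0 := div_nonpos_of_nonneg_of_nonpos (by norm_num) (by linarith)
    rcases B11 with e | e
    · have : (11 : ℚ) ≤ B := by exact_mod_cast e
      have : 0 ≤ 8 / (B : ℚ) := by positivity
      linarith
    · have hb : (B : ℚ) ≤ -13 := by exact_mod_cast (show B ≤ -13 by omega)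
      have : -(8 / (B : ℚ)) ≤ 8 / 13 := by
        rw [← div_neg]
        exact div_le_div_of_nonneg_left (by norm_num) (by norm_num) (by linarith)
      linarith
  have hA15 : 15 ≤ A := by omega
  have qA : (15 : ℚ) ≤ A := by exact_mod_cast hA15
  have q1 : 8 / (A : ℚ) ≤ 8 / 15 := div_le_div_of_nonneg_left (by norm_num) (by norm_num) qA
  have hB0 : B = -13 ∨ B = -21 := by
    by_contra hc
    rcases B11 with e | e
    · have : (11 : ℚ) ≤ B := by exact_mod_cast e
      have : 0 ≤ 8 / (B : ℚ) := by positivity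
      linarith
    · have hb : (B : ℚ) ≤ -29 := by exact_mod_cast (show B ≤ -29 by omega)
      have : -(8 / (B : ℚ)) ≤ 8 / 29 := by
        rw [← div_neg]
        exact div_le_div_of_nonneg_left (by norm_num) (by norm_num) (by linarith)
      linarith
  have hA34 : A ≤ 34 := by
    by_contra hc
    have qA' : (35 : ℚ) ≤ A := by exact_mod_cast (show 35 ≤ A by omega)
    have : 8 / (A : ℚ) ≤ 8 / 35 := div_le_div_of_nonneg_left (by norm_num) (by norm_num) qA'
    rcases hB0 with rfl | rfl <;> norm_num at hlow <;> linarith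
  have hcase : A = 15 ∨ A = 23 ∨ A = 31 := by omega
  rcases hB0 with rfl | rfl <;> rcases hcase with rfl | rfl | rfl <;>
    first
      | (norm_num at hlow; done)
      | (norm_num at hAB; done)
      | (norm_num at hpos; done)

/-- Two moved classes, first arrangement. -/
theorem two_moved (h : Prin y b c) {a : ℤ} (ha : 8 ∣ a - 5) (h1 : eA y b c = 32 / (a : ℚ))
    (h2 : eC y b c = 32 / (a : ℚ)) : False := by
  obtain ⟨hy, hb, hc, hs, y11, b11, c11⟩ := id h
  rw [le_abs] at y11 b11 c11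
  have ha0 : (a : ℚ) ≠ 0 := by exact_mod_cast (show a ≠ 0 by omega)
  have h3 : ((y : ℚ) - 1) ^ 2 / ((y : ℚ) * (y + 1)) = 32 / (a : ℚ) := by
    linarith [h.add_eq]
  have hy0 : (y : ℚ) ≠ 0 := by exact_mod_cast (show y ≠ 0 by omega)
  have hy1 : (y : ℚ) + 1 ≠ 0 := by exact_mod_cast (show y + 1 ≠ 0 by omega)
  rw [div_eq_div_iff (mul_ne_zero hy0 hy1) ha0] at h3
  have h4 : (y - 1) ^ 2 * a = 32 * (y * (y + 1)) := by exact_mod_cast h3
  obtain ⟨k, hk⟩ := hy
  obtain rfl : y = 8 * k + 1 := by omega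
  have h5 : k * k * a = (8 * k + 1) * (4 * k + 1) := by linarith
  have h6 : k ∣ 1 := ⟨k * a - 32 * k - 12, by linarith⟩
  rcases Int.isUnit_iff.1 (isUnit_of_dvd_one h6) with rfl | rfl <;> omega

/-- Two moved classes, second arrangement. -/
theorem two_moved' (h : Prin y b c) {a : ℤ} (h1 : eA y b c = -(32 / (a : ℚ)))
    (h2 : eC y b c = 32 / (a : ℚ)) : False := by
  linarith [h.add_pos]

/-- Sylow four groups. -/
theorem four_moved {l a₁ a₂ a₃ : ℤ} (hl : 4 ∣ l - 3) (l11 : 11 ≤ |l|) (h1 : 4 ∣ a₁ - 1) (h2 : 4 ∣ a₂ - 1)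
    (h3 : 4 ∣ a₃ - 1) (hs : 1 + a₁ + a₂ + a₃ = 0) (b1 : 11 ≤ |a₁|) (b2 : 11 ≤ |a₂|) (b3 : 11 ≤ |a₃|)
    (he : 1 + 1 / (a₁ : ℚ) + 1 / (a₂ : ℚ) + 1 / (a₃ : ℚ) = 8 / (l : ℚ)) : False := by
  rw [le_abs] at l11 b1 b2 b3
  have key : ∀ x : ℤ, (11 ≤ x ∨ x ≤ -11) →
      -(1 / 11) ≤ (1 : ℚ) / x ∧ (0 < x → 0 ≤ (1 : ℚ) / x) := by
    intro x hx
    rcases hx with h | h
    · have : (0 : ℚ) < x := by exact_mod_cast (show 0 < x by omega)
      have h0 : 0 ≤ (1 : ℚ) / x := by positivity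
      exact ⟨by linarith, fun _ => h0⟩
    · refine ⟨?_, fun hp => by omega⟩
      have hq : (x : ℚ) ≤ -11 := by exact_mod_cast h
      rw [← one_div_neg_eq_neg_one_div, one_div_le_one_div_of_neg (by norm_num) (by linarith)]
      exact hq
  obtain ⟨u1, v1⟩ := key a₁ (by omega)
  obtain ⟨u2, v2⟩ := key a₂ (by omega)
  obtain ⟨u3, v3⟩ := key a₃ (by omega)
  have hup : 8 / (l : ℚ) ≤ 8 / 11 := by
    rcases l11 with e | e
    · exact div_le_div_of_nonneg_left (by norm_num) (by norm_num) (by exact_mod_cast e)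
    · have hq : (l : ℚ) ≤ -11 := by exact_mod_cast (show l ≤ -11 by omega)
      exact (div_nonpos_of_nonneg_of_nonpos (by norm_num) (by linarith)).trans (by norm_num)
  have : 0 < a₁ ∨ 0 < a₂ ∨ 0 < a₃ := by omega
  rcases this with h | h | h
  · linarith [v1 h]
  · linarith [v2 h]
  · linarith [v3 h]

end CfsgLib.GW.MovedArith
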