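import Cfsg.Agent.Lib.GW.LChar.Pairs
import Cfsg.Agent.Lib.GW.LChar.CombinMore

/-!
# The integral columns at the involution
-/

namespace CfsgLib.GW

open Cfsg CfsgLib.CharTheory CfsgLib.Blocks CfsgLib.Blocks.AbelianFree CfsgLib.Blocks.Dihedral CfsgLib.KleinCent
open CfsgLib.GW.Twist (cz cz_eq LinOn IsLin linPair)
open scoped ComplexConjugate

set_option linter.unusedVariables false
set_option linter.style.haveILetI false
set_option linter.unusedSectionVars false

universe u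

variable {G : Type u} [Group G] [Fintype G] {P : Sylow 2 G} {t : G} {O : Subgroup G} [Fintype O]
  {M : Ideal AlgInt} {L : G → ℂ} {B : Set (IrrCharacter G)}

/-- The value at an involution. -/
noncomputable def tval (t : G) (χ : IrrCharacter G) : ℤ :=
  open Classical in if h : ∃ z : ℤ, (χ : G → ℂ) t = z then h.choose else 0

theorem tval_spec (h2 : t * t = 1) (χ : IrrCharacter G) : (χ : G → ℂ) t = tval t χ := by
  have h := involution_value (isCharacter_of_irr χ.2) h2
  rw [tval, dif_pos h]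
  exact h.choose_spec

/-- The coefficient, as an integer. -/
noncomputable def coefZ (t : G) (f : O →* ℂˣ) (χ : IrrCharacter G) : ℤ :=
  open Classical in if h : ∃ z : ℤ, coef t f (χ : G → ℂ) = z then h.choose else 0

/-- The degree. -/
noncomputable def degZ (χ : IrrCharacter G) : ℤ := (charDegree (χ : G → ℂ) : ℤ)

theorem degZ_spec (χ : IrrCharacter G) : (χ : G → ℂ) 1 = degZ χ := by
  rw [degZ, Int.cast_natCast, irr_charDegree_cast]

theorem degZ_pos (χ : IrrCharacter G) : 0 < degZ χ := Int.natCast_pos.2 (irr_charDegree_pos χ)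

theorem TSec.coefZ_spec (T : TSec P t O) (f : O →* ℂˣ) (χ : IrrCharacter G) :
    coef t f (χ : G → ℂ) = coefZ t f χ := by
  have h := T.coef_int (isCharacter_of_irr χ.2) f
  rw [coefZ, dif_pos h]
  exact h.choose_spec

/-- The number of elements of the Sylow subgroup carrying `g` to `f`. -/
noncomputable def TSec.fusCount (T : TSec P t O) (f g : O →* ℂˣ) : ℕ :=
  Nat.card {s : (P : Subgroup G) // g.comp (T.conjO ⟨s, T.leP s.2⟩) = f}

theorem TSec.coefZ_orth (T : TSec P t O) (f g : O →* ℂˣ) :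
    ∑ χ : IrrCharacter G, coefZ t f χ * coefZ t g χ = T.fusCount f g := by
  haveI := Fintype.ofFinite (P : Subgroup G)
  refine Int.cast_injective (α := ℂ) ?_
  push_cast
  rw [TSec.fusCount, ← T.coef_orth]
  exact Finset.sum_congr rfl fun χ _ => by rw [T.coefZ_spec, T.coefZ_spec, map_intCast]

theorem TSec.coefZ_degree (T : TSec P t O) (f : O →* ℂˣ) :
    ∑ χ : IrrCharacter G, coefZ t f χ * degZ χ = 0 := by
  refine Int.cast_injective (α := ℂ) ?_
  push_cast
  rw [← T.coef_degree f]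
  exact Finset.sum_congr rfl fun χ _ => by rw [T.coefZ_spec, degZ_spec]

theorem TSec.fusCount_self (T : TSec P t O) {f : O →* ℂˣ}
    (h : ∀ s (hs : s ∈ (P : Subgroup G)), f.comp (T.conjO ⟨s, T.leP hs⟩) = f) :
    T.fusCount f f = Nat.card (P : Subgroup G) :=
  Nat.card_congr (Equiv.subtypeUnivEquiv fun s => h s s.2)

theorem TSec.fusCount_eq_zero (T : TSec P t O) {f g : O →* ℂˣ}
    (h : ∀ s (hs : s ∈ (P : Subgroup G)), g.comp (T.conjO ⟨s, T.leP hs⟩) ≠ f) : T.fusCount f g = 0 := by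
  haveI : IsEmpty {s : (P : Subgroup G) // g.comp (T.conjO ⟨s, T.leP s.2⟩) = f} :=
    ⟨fun s => h s.1 s.1.2 s.2⟩
  exact Nat.card_of_isEmpty

theorem TSec.coef_conjO (T : TSec P t O) (f : O →* ℂˣ) (a : Subgroup.centralizer ({t} : Set G))
    (χ : IrrCharacter G) : coef t (f.comp (T.conjO a)) (χ : G → ℂ) = coef t f (χ : G → ℂ) := by
  simp only [coef, classInner]
  congr 1
  have hinj : Function.Injective (T.conjO a) := fun p q h => Subtype.ext
    (mul_left_cancel (mul_right_cancel (congrArg Subtype.val h)))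
  refine Fintype.sum_bijective (T.conjO a) (Finite.injective_iff_bijective.1 hinj) _ _ fun u => ?_
  show (χ : G → ℂ) (t * u) * conj (f (T.conjO a u) : ℂ) =
    (χ : G → ℂ) (t * ((a : G) * u * (a : G)⁻¹)) * conj (f (T.conjO a u) : ℂ)
  rw [show t * ((a : G) * u * (a : G)⁻¹) = (a : G) * (t * u) * (a : G)⁻¹ by
    rw [← mul_assoc, ← mul_assoc, ← Subgroup.mem_centralizer_singleton_iff.1 a.2]; group,
    isClassFunction_irr χ.2]

/-- The parity of fused coefficients, on integers. -/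
theorem TSec.coefZ_parity (T : TSec P t O) (χ : IrrCharacter G) {f g : O →* ℂˣ} {v y : G}
    (hv : v ∈ (P : Subgroup G)) (hv2 : v * v = 1) (hy : y * t * y⁻¹ = v)
    (hyX : ∀ u ∈ O, u * v = v * u → y * u * y⁻¹ ∈ O ∧ (y * u * y⁻¹) * v = v * (y * u * y⁻¹))
    (hf : ∀ u : O, f (T.conjO ⟨v, T.leP hv⟩ u) = f u)
    (hg : ∀ u : O, g (T.conjO ⟨v, T.leP hv⟩ u) = g u)
    (hfg : ∀ u : O, (u : G) * v = v * u → ∀ h : y * (u : G) * y⁻¹ ∈ O, f u = g ⟨_, h⟩) :
    2 ∣ coefZ t f χ - coefZ t g χ := by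
  refine modTwo_int.1 ?_
  rw [← T.coefZ_spec, ← T.coefZ_spec]
  exact T.coef_parity χ hv hv2 hy hyX hf hg hfg

/-- Pairs of involutions see the twist trivially. -/
theorem TSec.pair_one (T : TSec P t O) (hL : LinOn (Subgroup.centralizer ({t} : Set G)) L) (hLt : L t = 1)
    {u : G} (hu : u ∈ O) (hne : pairCount t t (t * u) ≠ 0) : L u = 1 := by
  classical
  obtain ⟨⟨a, ha1, ha2⟩⟩ := (Nat.card_ne_zero.1 hne).1
  have hsq : ∀ b, IsConj t b → b * b = 1 := by
    intro b hb
    obtain ⟨g, rfl⟩ := isConj_iff.1 hb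
    rw [show g * t * g⁻¹ * (g * t * g⁻¹) = g * (t * t) * g⁻¹ by group, T.sq]
    group
  have hinv : a * (t * u) * a⁻¹ = (t * u)⁻¹ := by
    refine eq_inv_of_mul_eq_one_left ?_
    rw [show a * (t * u) * a⁻¹ * (t * u) = a * (t * u) * (a⁻¹ * (t * u)) by group]
    nth_rewrite 1 [← inv_eq_of_mul_eq_one_left (hsq a ha1)]
    exact hsq _ ha2
  have hui : u⁻¹ ∈ O := inv_mem hu
  have hinv' : a * (t * u) * a⁻¹ = t * u⁻¹ := by
    rw [hinv, mul_inv_rev, inv_eq_of_mul_eq_one_left T.sq, (T.core.comm _ hui).eq]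
  have haH := T.conj_mem hu hui hinv'
  have htH : t ∈ Subgroup.centralizer ({t} : Set G) := Subgroup.mem_centralizer_singleton_iff.2 rfl
  have e := hL.conjugate haH (mul_mem htH (T.le hu))
  rw [hinv', hL.mul _ htH _ (T.le hui), hL.mul _ htH _ (T.le hu), hLt, one_mul, one_mul,
    hL.map_inv (T.le hu)] at e
  have hu0 := hL.ne_zero (T.le hu)
  have hsq2 : L u ^ 2 = 1 := by
    field_simp at e
    linear_combination -e
  obtain ⟨q, hq⟩ := T.odd_order hu
  have hodd : L u ^ orderOf u = 1 := by rw [← hL.pow (T.le hu), pow_orderOf_eq_one, hL.one]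
  rwa [hq, pow_succ, pow_mul, hsq2, one_pow, one_mul] at hodd

/-- The weighted sum of a coefficient column does not see the twist. -/
theorem TSec.wsum_coef (T : TSec P t O) (hL : LinOn (Subgroup.centralizer ({t} : Set G)) L) (hLt : L t = 1)
    {μ : O →* ℂˣ} (hμ : ∀ u : O, (μ u : ℂ) = L u) :
    Combin.wsum (degZ (G := G)) (tval t) (coefZ t μ) =
      Combin.wsum (degZ (G := G)) (tval t) (coefZ t (1 : O →* ℂˣ)) := by
  classical
  refine Rat.cast_injective (α := ℂ) ?_
  simp only [Combin.wsum, Rat.cast_sum, Rat.cast_div, Rat.cast_mul, Rat.cast_pow, Rat.cast_intCast]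
  have hI : ((Subgroup.centralizer ({t} : Set G)).index : ℂ) ≠ 0 :=
    Nat.cast_ne_zero.2 Subgroup.index_ne_zero_of_finite
  have hW : ∀ u : O, (∑ χ : IrrCharacter G, (χ : G → ℂ) t ^ 2 / (χ : G → ℂ) 1 * conj ((χ : G → ℂ) (t * u))) *
      (μ u : ℂ) = ∑ χ : IrrCharacter G, (χ : G → ℂ) t ^ 2 / (χ : G → ℂ) 1 * conj ((χ : G → ℂ) (t * u)) := by
    intro u
    set W := ∑ χ : IrrCharacter G, (χ : G → ℂ) t ^ 2 / (χ : G → ℂ) 1 * conj ((χ : G → ℂ) (t * u))
    have hpc : (pairCount t t (t * (u : G)) : ℂ) * (Nat.card (Subgroup.centralizer ({t} : Set G)) : ℂ) =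
        ((Subgroup.centralizer ({t} : Set G)).index : ℂ) * W := by
      rw [pairCount_mul, Finset.mul_sum]
      refine Finset.sum_congr rfl fun χ _ => ?_
      rw [clv, centralChar]
      ring
    by_cases h0 : pairCount t t (t * (u : G)) = 0
    · rw [h0, Nat.cast_zero, zero_mul, eq_comm, mul_eq_zero] at hpc
      rw [hpc.resolve_left hI, zero_mul]
    · rw [hμ, T.pair_one hL hLt u.2 h0, mul_one]
  have key : ∀ f : O →* ℂˣ, (∑ χ : IrrCharacter G,
      (tval t χ : ℂ) ^ 2 * (coefZ t f χ : ℂ) / (degZ χ : ℂ)) = (Nat.card O : ℂ)⁻¹ *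
        ∑ u : O, (∑ χ : IrrCharacter G, (χ : G → ℂ) t ^ 2 / (χ : G → ℂ) 1 * conj ((χ : G → ℂ) (t * u))) *
          (f u : ℂ) := by
    intro f
    simp only [Finset.sum_mul]
    rw [Finset.sum_comm, Finset.mul_sum]
    refine Finset.sum_congr rfl fun χ _ => ?_
    have hr : conj (coef t f (χ : G → ℂ)) = coefZ t f χ := by rw [T.coefZ_spec, map_intCast]
    rw [← hr, ← tval_spec T.sq, ← degZ_spec, coef, classInner, map_mul, map_inv₀, map_natCast, map_sum,
      Finset.mul_sum, Finset.mul_sum, Finset.sum_div, Finset.mul_sum]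
    refine Finset.sum_congr rfl fun u _ => ?_
    rw [map_mul, Complex.conj_conj]
    ring
  rw [key μ, key 1, Finset.sum_congr rfl fun u _ => hW u]
  congr 1
  exact Finset.sum_congr rfl fun u _ => by rw [MonoidHom.one_apply, Units.val_one, mul_one]

variable (D : OverCtx M P t O L B)

include D

theorem OverCtx.cov_mu [Fintype (cz t)] (htP : t ∈ (P : Subgroup G)) {μ : O →* ℂˣ}
    (hμ : ∀ u : O, (μ u : ℂ) = L u) : CovOver D.sect M B fun u => (μ u : ℂ) := by
  haveI : Fact (Nat.Prime 2) := ⟨Nat.prime_two⟩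
  obtain ⟨hCP, hmax⟩ := D.maxl
  have hzH : cz t ≤ Subgroup.centralizer ({t} : Set G) := (cz_eq t).ge
  have hle := Twist.linPair_subpair D.hM D.lin P.isPGroup' (Subgroup.zpowers_le.2 htP) hzH
    (fun s hs => D.sect.leP hs)
  have hind : IsInducedBlock M (cz t) (linPair M D.lin (Subgroup.zpowers t) hzH).2 B :=
    (induced_centralizer_iff D.hM (isPGroup_zpowers Nat.prime_two D.pord)).2
      ((pairOf_subpair_iff D.hM hle B).2 hmax.1)
  obtain ⟨ξ, hξ, h1⟩ := D.lin_cov (b := (linPair M D.lin (Subgroup.zpowers t) hzH).2)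
    (Twist.linPair_lin D.hM D.lin hzH) hμ
  refine ⟨ξ, ?_, by rw [h1]; exact one_ne_zero⟩
  show IsInducedBlock M (cz t) (blockOf M (ξ : cz t → ℂ)) B
  have e := eq_blockOf (G := cz t) D.hM (Twist.linPair_block D.hM D.lin hzH) hξ
  exact e ▸ hind

/-- A column congruent to that of the twist is covered, and lives in `B`. -/
theorem OverCtx.cov_of_parity [Fintype (cz t)] (htP : t ∈ (P : Subgroup G)) {μ f : O →* ℂˣ}
    (hμ : ∀ u : O, (μ u : ℂ) = L u) (hpar : ∀ χ : IrrCharacter G, 2 ∣ coefZ t f χ - coefZ t μ χ)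
    (hn : D.sect.fusCount f f = 4) : CovOver D.sect M B fun u => (f u : ℂ) := by
  classical
  obtain ⟨T, hT, hpm, -⟩ := Combin.norm_four (degZ_pos (G := G))
    (show ∑ χ : IrrCharacter G, coefZ t f χ * coefZ t f χ = 4 by rw [D.sect.coefZ_orth, hn]; rfl)
    (D.sect.coefZ_degree f)
  obtain ⟨χ, hχ⟩ := Finset.card_pos.1 (show 0 < T.card by omega)
  have hodd := hpar χ
  have hμ0 : coefZ t μ χ ≠ 0 := fun e => by
    rw [e] at hodd
    rcases hpm χ hχ with q | q <;> rw [q] at hodd <;> omega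
  have hχB : χ ∈ B := by
    by_contra hc
    have := D.sect.coef_eq_zero_of_covOver D.hM D.blk (D.cov_mu htP hμ) hc
    rw [D.sect.coefZ_spec] at this
    exact hμ0 (by exact_mod_cast this)
  refine D.sect.covOver_of_coef_lin D.hM D.blk hχB ?_
  rw [D.sect.coefZ_spec]
  rcases hpm χ hχ with q | q <;> rw [q] <;> norm_num

theorem OverCtx.coefZ_out [Fintype (cz t)] {f : O →* ℂˣ} (h : CovOver D.sect M B fun u => (f u : ℂ))
    {χ : IrrCharacter G} (hχ : χ ∉ B) : coefZ t f χ = 0 := by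
  have := D.sect.coef_eq_zero_of_covOver D.hM D.blk h hχ
  rw [D.sect.coefZ_spec] at this
  exact_mod_cast this

/-- The value at the involution. -/
theorem OverCtx.tval_eq [Fintype (cz t)] {ι : Type*} [Fintype ι] (f : ι → O →* ℂˣ)
    (hinj : Function.Injective f)
    (hcl : ∀ (i : ι) (a : Subgroup.centralizer ({t} : Set G)), ∃ j, (f i).comp (D.sect.conjO a) = f j)
    (hall : ∀ b : Set (IrrCharacter (cz t)), IsPBlock M b → IsInducedBlock M (cz t) b B →
      ∃ i, ∃ ψ ∈ b, rc D.sect (fun u => (f i u : ℂ)) (ψ : cz t → ℂ) ≠ 0)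
    {χ : IrrCharacter G} (hχ : χ ∈ B) : tval t χ = ∑ i, coefZ t (f i) χ := by
  have h := D.sect.value D.hM D.blk f hinj hcl hall hχ 1
  rw [OneMemClass.coe_one, mul_one, tval_spec D.sect.sq] at h
  refine Int.cast_injective (α := ℂ) ?_
  push_cast
  rw [h]
  exact Finset.sum_congr rfl fun i _ => by rw [map_one, Units.val_one, mul_one, D.sect.coefZ_spec]

omit D in
theorem coefZ_oneIrr (T : TSec P t O) (μ : O →* ℂˣ) [Decidable (μ = 1)] :
    coefZ t μ (oneIrr G) = if μ = 1 then 1 else 0 := by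
  refine Int.cast_injective (α := ℂ) ?_
  rw [← T.coefZ_spec, coef, classInner]
  haveI : Decidable ((1 : O →* ℂˣ) = μ) := decidable_of_iff _ eq_comm
  have := MinNonCA.orth_hom μ (1 : O →* ℂˣ)
  rw [Finset.sum_congr rfl fun (u : O) _ => show (((oneIrr G : IrrCharacter G) : G → ℂ) (t * u)) * conj (μ u : ℂ) =
    ((1 : O →* ℂˣ) u : ℂ) * conj (μ u : ℂ) by simp [oneIrr]]
  rw [MinNonCA.orth_hom]
  by_cases h : μ = 1
  · rw [if_pos h, if_pos h.symm, inv_mul_cancel₀ (Nat.cast_ne_zero.2 Nat.card_pos.ne'), Int.cast_one]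
  · rw [if_neg h, if_neg fun e => h e.symm, mul_zero, Int.cast_zero]

end CfsgLib.GW
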