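import Cfsg.Agent.Lib.GW.LChar.Arith

/-!
# Columns of integers of small norm

The shapes of the columns at a twisted block: the norms, orthogonality and parities leave a few
sign patterns, whose weighted sums are the rational expressions of `MovedArith`.
-/

namespace CfsgLib.GW.Combin

set_option linter.unusedVariables false
set_option linter.unusedSectionVars false

open Finset

variable {ι : Type*} [Fintype ι] [DecidableEq ι]

/-- The weighted sum of a column. -/
def wsum (d T c : ι → ℤ) : ℚ := ∑ i, (T i : ℚ) ^ 2 * (c i : ℚ) / (d i : ℚ)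

theorem unit_of_sq {x : ℤ} (h : x * x = 1) : x = 1 ∨ x = -1 := mul_self_eq_one_iff.1 h

/-- A column of norm four orthogonal to positive degrees has four entries `±1`. -/
theorem norm_four {d f : ι → ℤ} (hd : ∀ i, 0 < d i) (hn : ∑ i, f i * f i = 4) (hfd : ∑ i, f i * d i = 0) :
    ∃ T : Finset ι, T.card = 4 ∧ (∀ i ∈ T, f i = 1 ∨ f i = -1) ∧ ∀ i ∉ T, f i = 0 := by
  have hbd : ∀ i, f i * f i ≤ 4 := fun i => hn ▸ single_le_sum (f := fun j => f j * f j)
    (fun j _ => mul_self_nonneg (f j)) (mem_univ i)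
  have h1 : ∀ i, f i ≠ 0 → f i = 1 ∨ f i = -1 := by
    intro i hi
    by_contra hc
    have h2 : f i * f i = 4 := by
      have hb := hbd i
      have : -2 ≤ f i ∧ f i ≤ 2 := ⟨by nlinarith, by nlinarith⟩
      rcases (show f i = 2 ∨ f i = -2 by omega) with e | e <;> rw [e] <;> norm_num
    have h3 := hn
    rw [← add_sum_erase _ _ (mem_univ i), h2, add_eq_left] at h3
    have h0 := (sum_eq_zero_iff_of_nonneg fun j _ => mul_self_nonneg (f j)).1 h3
    rw [← add_sum_erase _ _ (mem_univ i), sum_eq_zero fun j hj => by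
      rw [mul_self_eq_zero.1 (h0 j hj), zero_mul], add_zero] at hfd
    exact mul_ne_zero hi (hd i).ne' hfd
  refine ⟨univ.filter fun i => f i ≠ 0, ?_, fun i hi => h1 i (mem_filter.1 hi).2, fun i hi => by simpa using hi⟩
  rw [← sum_filter_of_ne (p := fun i => f i ≠ 0) (fun i _ h h0 => h (by rw [h0, mul_zero])),
    sum_congr rfl fun i hi => show f i * f i = 1 by
      rcases h1 i (mem_filter.1 hi).2 with e | e <;> rw [e] <;> norm_num,
    sum_const, nsmul_eq_mul, mul_one] at hn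
  exact_mod_cast hn

/-- A column odd at four places with norm four vanishes elsewhere. -/
theorem odd_four {T : Finset ι} (hT : T.card = 4) {f : ι → ℤ} (hodd : ∀ i ∈ T, ¬ 2 ∣ f i)
    (hn : ∑ i, f i * f i = 4) : (∀ i ∈ T, f i = 1 ∨ f i = -1) ∧ ∀ i ∉ T, f i = 0 := by
  rw [← sum_add_sum_compl T] at hn
  have hge : ∀ i ∈ T, 1 ≤ f i * f i := fun i hi => by
    have : f i ≠ 0 := fun e => hodd i hi (e ▸ dvd_zero _)
    have := mul_self_pos.2 this
    omega
  have h4 : (4 : ℤ) ≤ ∑ i ∈ T, f i * f i := by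
    calc (4 : ℤ) = ∑ i ∈ T, 1 := by simp [hT]
      _ ≤ _ := sum_le_sum hge
  have h0 : (0 : ℤ) ≤ ∑ i ∈ Tᶜ, f i * f i := sum_nonneg fun j _ => mul_self_nonneg _
  have hz : ∑ i ∈ Tᶜ, f i * f i = 0 := by linarith
  refine ⟨fun i hi => unit_of_sq ?_, fun i hi =>
    mul_self_eq_zero.1 ((sum_eq_zero_iff_of_nonneg fun j _ => mul_self_nonneg (f j)).1 hz i (mem_compl.2 hi))⟩
  have : ∑ j ∈ T, (f j * f j - 1) = 0 := by rw [sum_sub_distrib]; simp [hT]; linarith
  have := (sum_eq_zero_iff_of_nonneg fun j hj => by linarith [hge j hj]).1 this i hi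
  linarith

/-- Three orthogonal sign vectors on four points name the points. -/
theorem four_signs {T : Finset ι} (hT : T.card = 4) {α β : ι → ℤ} (hα : ∀ i ∈ T, α i = 1 ∨ α i = -1)
    (hβ : ∀ i ∈ T, β i = 1 ∨ β i = -1) (a0 : ∑ i ∈ T, α i = 0) (b0 : ∑ i ∈ T, β i = 0)
    (ab : ∑ i ∈ T, α i * β i = 0) :
    ∃ p q r s : ι, (p ∈ T ∧ q ∈ T ∧ r ∈ T ∧ s ∈ T) ∧
      (α p = 1 ∧ β p = 1) ∧ (α q = 1 ∧ β q = -1) ∧ (α r = -1 ∧ β r = 1) ∧ (α s = -1 ∧ β s = -1) ∧
      T = {p, q, r, s} := by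
  have key : ∀ u v : ℤ, (u = 1 ∨ u = -1) → (v = 1 ∨ v = -1) → ∃ i ∈ T, α i = u ∧ β i = v := by
    intro u v hu hv
    by_contra hc
    have : ∑ i ∈ T, (1 + u * α i) * (1 + v * β i) = 0 := sum_eq_zero fun i hi => by
      by_cases h1 : α i = u
      · have h2 : v * β i = -1 := by
          have : β i ≠ v := fun e => hc ⟨i, hi, h1, e⟩
          rcases hv with e | e <;> rcases hβ i hi with e' | e' <;> rw [e, e'] at this ⊢ <;> omega
        rw [h2]; ring
      · have h2 : u * α i = -1 := by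
          rcases hu with e | e <;> rcases hα i hi with e' | e' <;> rw [e, e'] at h1 ⊢ <;> omega
        rw [h2]; ring
    have e : ∀ i ∈ T, (1 + u * α i) * (1 + v * β i) = 1 + u * α i + v * β i + u * v * (α i * β i) :=
      fun i _ => by ring
    rw [sum_congr rfl e, sum_add_distrib, sum_add_distrib, sum_add_distrib, ← mul_sum, ← mul_sum,
      ← mul_sum, a0, b0, ab] at this
    simp [hT] at this
  obtain ⟨p, hp, p1, p2⟩ := key 1 1 (Or.inl rfl) (Or.inl rfl)
  obtain ⟨q, hq, q1, q2⟩ := key 1 (-1) (Or.inl rfl) (Or.inr rfl)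
  obtain ⟨r, hr, r1, r2⟩ := key (-1) 1 (Or.inr rfl) (Or.inl rfl)
  obtain ⟨s, hs, s1, s2⟩ := key (-1) (-1) (Or.inr rfl) (Or.inr rfl)
  refine ⟨p, q, r, s, ⟨hp, hq, hr, hs⟩, ⟨p1, p2⟩, ⟨q1, q2⟩, ⟨r1, r2⟩, ⟨s1, s2⟩, (eq_of_subset_of_card_le ?_ ?_).symm⟩
  · intro i hi
    simp only [mem_insert, mem_singleton] at hi
    rcases hi with rfl | rfl | rfl | rfl <;> assumption
  · rw [hT, card_insert_of_notMem, card_insert_of_notMem, card_pair]
    · intro e; subst e; omega
    · simp only [mem_insert, mem_singleton]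
      rintro (rfl | rfl) <;> omega
    · simp only [mem_insert, mem_singleton]
      rintro (rfl | rfl | rfl) <;> omega

theorem sum_four {M : Type*} [AddCommMonoid M] {T : Finset ι} {p q r s : ι} (hT : T.card = 4)
    (e : T = {p, q, r, s}) (F : ι → M) : ∑ i ∈ T, F i = F p + F q + F r + F s := by
  subst e
  have h1 : p ∉ ({q, r, s} : Finset ι) := fun h => by
    rw [insert_eq_of_mem h] at hT
    exact absurd hT (by
      have : ({q, r, s} : Finset ι).card ≤ 3 := card_le_three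
      omega)
  have h2 : q ∉ ({r, s} : Finset ι) := fun h => by
    rw [card_insert_of_notMem h1, insert_eq_of_mem h] at hT
    have : ({r, s} : Finset ι).card ≤ 2 := card_le_two
    omega
  have h3 : r ≠ s := fun h => by
    subst h
    rw [card_insert_of_notMem h1, card_insert_of_notMem h2, pair_eq_singleton, card_singleton] at hT
    omega
  rw [sum_insert h1, sum_insert h2, sum_pair h3]
  simp only [add_assoc]

/-- The two columns of a twisted block with dihedral group of order eight. -/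
structure Cols (d A c : ι → ℤ) : Prop where
  dpos : ∀ i, 0 < d i
  nA : ∑ i, A i * A i = 4
  nC : ∑ i, c i * c i = 8
  AC : ∑ i, A i * c i = 0
  Ad : ∑ i, A i * d i = 0
  Cd : ∑ i, c i * d i = 0
  par : ∀ i, 2 ∣ A i - c i

variable {d A c : ι → ℤ}

/-- The shape of the two columns. -/
structure Shape (A c : ι → ℤ) (T : Finset ι) (s : ι) (e : ℤ) : Prop where
  card : T.card = 4
  hA : ∀ i ∈ T, A i = 1 ∨ A i = -1
  hc : ∀ i ∈ T, c i = 1 ∨ c i = -1
  sT : s ∉ T
  he : e = 1 ∨ e = -1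
  cs : c s = 2 * e
  A0 : ∀ i ∉ T, A i = 0
  c0 : ∀ i ∉ T, i ≠ s → c i = 0

theorem Cols.shape (K : Cols d A c) : ∃ T s e, Shape A c T s e := by
  obtain ⟨T, hT, hA, A0⟩ := norm_four K.dpos K.nA K.Ad
  have hcT : ∀ i ∈ T, c i = 1 ∨ c i = -1 := by
    intro i hi
    have h1 := K.par i
    have hb : c i * c i ≤ 8 := K.nC ▸ single_le_sum (f := fun j => c j * c j)
      (fun j _ => mul_self_nonneg (c j)) (mem_univ i)
    have : -2 ≤ c i ∧ c i ≤ 2 := ⟨by nlinarith, by nlinarith⟩
    rcases hA i hi with e | e <;> rw [e] at h1 <;> omega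
  have hsplit := K.nC
  rw [← sum_add_sum_compl T, sum_congr rfl fun i hi => show c i * c i = 1 by
    rcases hcT i hi with e | e <;> rw [e] <;> norm_num] at hsplit
  simp [hT] at hsplit
  obtain ⟨s, hs, hs0⟩ : ∃ s ∈ Tᶜ, c s ≠ 0 := by
    by_contra hc
    push Not at hc
    rw [sum_eq_zero fun i hi => by rw [hc i hi, zero_mul]] at hsplit
    norm_num at hsplit
  have hs' : s ∉ T := mem_compl.1 hs
  obtain ⟨e, he⟩ : 2 ∣ c s := by
    have := K.par s
    rw [A0 s hs'] at this
    omega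
  have hrest : c s * c s + ∑ i ∈ Tᶜ.erase s, c i * c i = 4 := by
    rw [add_sum_erase _ (fun i => c i * c i) hs]; linarith
  have hnn : (0 : ℤ) ≤ ∑ i ∈ Tᶜ.erase s, c i * c i := sum_nonneg fun j _ => mul_self_nonneg _
  have he1 : e = 1 ∨ e = -1 := by
    have : e ≠ 0 := fun q => hs0 (by rw [he, q, mul_zero])
    rw [he] at hrest
    have : -1 ≤ e ∧ e ≤ 1 := ⟨by nlinarith, by nlinarith⟩
    omega
  have hz : ∑ i ∈ Tᶜ.erase s, c i * c i = 0 := by
    rcases he1 with rfl | rfl <;> rw [he] at hrest <;> linarith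
  exact ⟨T, s, e, hT, hA, hcT, hs', he1, he, A0, fun i hi hne => mul_self_eq_zero.1
    ((sum_eq_zero_iff_of_nonneg fun j _ => mul_self_nonneg (c j)).1 hz i (mem_erase.2 ⟨hne, mem_compl.2 hi⟩))⟩

theorem Shape.sum_A {T : Finset ι} {s : ι} {e : ℤ} (S : Shape A c T s e) {M : Type*} [AddCommMonoid M]
    (F : ι → M) (hF : ∀ i, A i = 0 → F i = 0) : ∑ i, F i = ∑ i ∈ T, F i :=
  (sum_subset (subset_univ T) fun i _ hi => hF i (S.A0 i hi)).symm

theorem Shape.sum_c {T : Finset ι} {s : ι} {e : ℤ} (S : Shape A c T s e) {M : Type*} [AddCommMonoid M]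
    (F : ι → M) (hF : ∀ i, c i = 0 → F i = 0) : ∑ i, F i = (∑ i ∈ T, F i) + F s := by
  rw [add_comm, ← sum_insert S.sT]
  refine (sum_subset (subset_univ _) fun i _ hi => hF i (S.c0 i ?_ ?_)).symm
  · exact fun h => hi (mem_insert_of_mem h)
  · exact fun h => hi (mem_insert.2 (Or.inl h))

/-- The principal block. -/
theorem Cols.principal (K : Cols d A c) {o : ι} (ho : d o = 1 ∧ A o = 1 ∧ c o = 1)
    (cong : ∀ i, A i ≠ 0 → 8 ∣ d i + 2 * A i + 5 * c i)
    (big : ∀ i, i ≠ o → c i ≠ 0 → 12 ≤ d i + |c i|) :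
    ∃ y b g : ℤ, MovedArith.Prin y b g ∧ wsum d c A = MovedArith.eA y b g ∧
      wsum d c c = MovedArith.eC y b g := by
  obtain ⟨hod, hoA, hoc⟩ := ho
  obtain ⟨T, s, e, S⟩ := K.shape
  have hoT : o ∈ T := by
    by_contra h
    have := S.A0 o h
    omega
  set α : ι → ℤ := fun i => A i * c i with hαd
  have hα : ∀ i ∈ T, α i = 1 ∨ α i = -1 := fun i hi => by
    rcases S.hA i hi with a | a <;> rcases S.hc i hi with b | b <;> simp [hαd, a, b]
  have α0 : ∑ i ∈ T, α i = 0 := by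
    rw [← S.sum_A (fun i => A i * c i) fun i h => by rw [h, zero_mul]]; exact K.AC
  have hαo : α o = 1 := by simp [hαd, hoA, hoc]
  have hplus : (T.filter fun i => α i = 1).card = 2 := by
    have h1 : ∑ i ∈ T, (1 + α i) = 4 := by rw [sum_add_distrib, α0]; simp [S.card]
    rw [sum_congr rfl fun i hi => show 1 + α i = if α i = 1 then 2 else 0 by
      rcases hα i hi with q | q <;> simp [q], ← sum_filter] at h1
    simp at h1
    omega
  have hminus : (T.filter fun i => ¬ α i = 1).card = 2 := by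
    have := card_filter_add_card_filter_not (s := T) (fun i => α i = 1)
    rw [hplus, S.card] at this
    omega
  obtain ⟨p, hp, hpo⟩ : ∃ p ∈ T.filter (fun i => α i = 1), p ≠ o := exists_mem_ne (by omega) o
  obtain ⟨u, v, huv, hm⟩ := card_eq_two.1 hminus
  have hu : u ∈ T ∧ α u = -1 := by
    have := mem_filter.1 (show u ∈ T.filter fun i => ¬ α i = 1 by rw [hm]; simp)
    exact ⟨this.1, (hα u this.1).resolve_left this.2⟩
  have hv : v ∈ T ∧ α v = -1 := by
    have := mem_filter.1 (show v ∈ T.filter fun i => ¬ α i = 1 by rw [hm]; simp)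
    exact ⟨this.1, (hα v this.1).resolve_left this.2⟩
  obtain ⟨hpT, hpα⟩ := mem_filter.1 hp
  have hT : T = {o, p, u, v} := by
    refine (eq_of_subset_of_card_le ?_ ?_).symm
    · intro i hi
      simp only [mem_insert, mem_singleton] at hi
      rcases hi with rfl | rfl | rfl | rfl
      exacts [hoT, hpT, hu.1, hv.1]
    · rw [S.card, card_insert_of_notMem, card_insert_of_notMem, card_pair huv]
      · simp only [mem_insert, mem_singleton]
        rintro (rfl | rfl)
        · omega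
        · omega
      · simp only [mem_insert, mem_singleton]
        rintro (rfl | rfl | rfl)
        · exact hpo rfl
        · omega
        · omega
  set δ : ι → ℤ := fun i => c i * d i with hδ
  have hsumT : ∀ {M : Type} [AddCommMonoid M] (F : ι → M), ∑ i ∈ T, F i = _ := fun F => sum_four S.card hT F
  have eAd : ∑ i ∈ T, α i * δ i = 0 := by
    rw [← K.Ad, S.sum_A (fun i => A i * d i) fun i h => by rw [h, zero_mul]]
    refine sum_congr rfl fun i hi => ?_
    rcases S.hc i hi with b | b <;> simp [hαd, hδ, b]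
  have ecd : (∑ i ∈ T, δ i) + 2 * e * d s = 0 := by
    rw [← K.Cd, S.sum_c (fun i => c i * d i) fun i h => by rw [h, zero_mul], S.cs]
  rw [hsumT] at eAd ecd
  rw [hαo, hpα, hu.2, hv.2] at eAd
  have hδo : δ o = 1 := by simp [hδ, hod, hoc]
  have hres : ∀ i ∈ T, i ≠ o → (8 : ℤ) ∣ δ i + 2 * α i + 5 ∧ 11 ≤ |δ i| := by
    intro i hi hio
    have hA0 : A i ≠ 0 := by rcases S.hA i hi with q | q <;> omega
    have h1 := dvd_mul_of_dvd_right (cong i hA0) (c i)
    have h2 := big i hio (by rcases S.hc i hi with q | q <;> omega)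
    have h3 := K.dpos i
    refine ⟨?_, ?_⟩
    · rw [hαd, hδ]
      rcases S.hc i hi with q | q <;> simp only [q] at h1 ⊢ <;> omega
    · rw [le_abs, hδ]
      rcases S.hc i hi with q | q <;> simp only [q] at h2 ⊢ <;> norm_num at h2 <;> omega
  obtain ⟨p1, p2⟩ := hres p hpT hpo
  obtain ⟨u1, u2⟩ := hres u hu.1 (by rintro rfl; omega)
  obtain ⟨v1, v2⟩ := hres v hv.1 (by rintro rfl; omega)
  rw [hpα] at p1
  rw [hu.2] at u1
  rw [hv.2] at v1
  refine ⟨δ p, -δ u, -δ v, ⟨by omega, by omega, by omega, by omega, p2, by rwa [abs_neg], by rwa [abs_neg]⟩, ?_, ?_⟩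
  · have hterm : ∀ i ∈ T, (c i : ℚ) ^ 2 * (A i : ℚ) / (d i : ℚ) = (α i : ℚ) / (δ i : ℚ) := by
      intro i hi
      rcases S.hc i hi with q | q <;> simp [hαd, hδ, q, div_neg, neg_div]
    rw [wsum, S.sum_A _ (fun i h => by rw [h]; simp), sum_congr rfl hterm, hsumT, hαo, hpα, hu.2, hv.2, hδo]
    unfold MovedArith.eA
    push_cast
    simp only [one_div, neg_div, inv_neg]
    ring
  · have hterm : ∀ i ∈ T, (c i : ℚ) ^ 2 * (c i : ℚ) / (d i : ℚ) = 1 / (δ i : ℚ) := by
      intro i hi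
      rcases S.hc i hi with q | q <;> simp [hδ, q, div_neg, neg_div]
    rw [wsum, S.sum_c _ (fun i h => by rw [h]; simp), sum_congr rfl hterm, hsumT, hδo, S.cs]
    have hds : (d s : ℚ) ≠ 0 := Int.cast_ne_zero.2 (K.dpos s).ne'
    have hyd : (1 + δ p : ℤ) = -(e * d s) := by linarith
    unfold MovedArith.eC
    rw [hyd]
    push_cast
    rcases S.he with rfl | rfl <;> (push_cast; field_simp; ring)

/-- One moved class. -/
theorem Cols.one_moved (K : Cols d A c) {w : ι → ℤ} (nw : ∑ i, w i * w i = 4) (Aw : ∑ i, A i * w i = 0)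
    (cw : ∑ i, c i * w i = 0) (wd : ∑ i, w i * d i = 0) (parw : ∀ i, 2 ∣ w i - c i)
    (cong : ∀ i, A i ≠ 0 → 8 ∣ d i + 2 * A i + 5 * (c i + 2 * w i))
    (big : ∀ i, c i ≠ 0 → 12 ≤ d i + |c i + 2 * w i|)
    {y b g : ℤ} (P : MovedArith.Prin y b g) (eA : wsum d (fun i => c i + 2 * w i) A = MovedArith.eA y b g)
    (eC : wsum d (fun i => c i + 2 * w i) c = MovedArith.eC y b g) : False := by
  obtain ⟨T, s, e, S⟩ := K.shape
  obtain ⟨hw, w0⟩ := odd_four S.card (f := w) (fun i hi => by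
    have := parw i
    rcases S.hc i hi with q | q <;> rw [q] at this <;> omega) nw
  set α : ι → ℤ := fun i => A i * w i with hαd
  set β : ι → ℤ := fun i => c i * w i with hβd
  set δ : ι → ℤ := fun i => w i * d i with hδ
  have hα : ∀ i ∈ T, α i = 1 ∨ α i = -1 := fun i hi => by
    rcases S.hA i hi with a | a <;> rcases hw i hi with b | b <;> simp [hαd, a, b]
  have hβ : ∀ i ∈ T, β i = 1 ∨ β i = -1 := fun i hi => by
    rcases S.hc i hi with a | a <;> rcases hw i hi with b | b <;> simp [hβd, a, b]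
  have a0 : ∑ i ∈ T, α i = 0 := by
    rw [← S.sum_A (fun i => A i * w i) fun i h => by rw [h, zero_mul]]; exact Aw
  have b0 : ∑ i ∈ T, β i = 0 := by
    have h := cw
    rw [S.sum_c (fun i => c i * w i) (fun i h => by rw [h, zero_mul]), w0 s S.sT, mul_zero, add_zero] at h
    exact h
  have ab : ∑ i ∈ T, α i * β i = 0 := by
    rw [← K.AC, S.sum_A (fun i => A i * c i) fun i h => by rw [h, zero_mul]]
    refine sum_congr rfl fun i hi => ?_
    rcases hw i hi with q | q <;> simp [hαd, hβd, q]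
  obtain ⟨p, q, r, u, ⟨hp, hq, hr, hu⟩, ⟨pα, pβ⟩, ⟨qα, qβ⟩, ⟨rα, rβ⟩, ⟨uα, uβ⟩, hT⟩ :=
    four_signs S.card hα hβ a0 b0 ab
  have hsumT : ∀ {M : Type} [AddCommMonoid M] (F : ι → M), ∑ i ∈ T, F i = _ := fun F => sum_four S.card hT F
  have ewd : ∑ i ∈ T, δ i = 0 := by
    rw [← wd]
    exact sum_subset (subset_univ T) fun i _ hi => by simp [hδ, w0 i hi]
  have eAd : ∑ i ∈ T, α i * δ i = 0 := by
    rw [← K.Ad, S.sum_A (fun i => A i * d i) fun i h => by rw [h, zero_mul]]
    refine sum_congr rfl fun i hi => ?_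
    rcases hw i hi with z | z <;> simp [hαd, hδ, z]
  have ecd : (∑ i ∈ T, β i * δ i) + 2 * e * d s = 0 := by
    rw [← K.Cd, S.sum_c (fun i => c i * d i) fun i h => by rw [h, zero_mul], S.cs]
    congr 1
    refine sum_congr rfl fun i hi => ?_
    rcases hw i hi with z | z <;> simp [hβd, hδ, z]
  rw [hsumT] at ewd eAd ecd
  rw [pα, qα, rα, uα] at eAd
  rw [pβ, qβ, rβ, uβ] at ecd
  have hres : ∀ i ∈ T, (8 : ℤ) ∣ δ i + 2 * α i + 5 * (β i + 2) ∧ 12 ≤ |δ i| + |β i + 2| := by
    intro i hi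
    have hA0 : A i ≠ 0 := by rcases S.hA i hi with q | q <;> omega
    have hc0 : c i ≠ 0 := by rcases S.hc i hi with q | q <;> omega
    have h1 := dvd_mul_of_dvd_right (cong i hA0) (w i)
    have h2 := big i hc0
    have hdp := abs_of_pos (K.dpos i)
    refine ⟨?_, ?_⟩
    · rw [hαd, hβd, hδ]
      rcases hw i hi with z | z <;> simp only [z] at h1 ⊢ <;> omega
    · rw [hβd, hδ]
      rcases hw i hi with z | z <;> simp only [z] at h2 ⊢ <;>
        rcases S.hc i hi with z' | z' <;> simp only [z'] at h2 ⊢ <;> norm_num at h2 ⊢ <;> omega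
  obtain ⟨q1, q2⟩ := hres q hq
  obtain ⟨u1, u2⟩ := hres u hu
  rw [qα, qβ] at q1
  rw [uα, uβ] at u1
  rw [qβ] at q2
  rw [uβ] at u2
  norm_num at q2 u2
  have hs2 := big s (by rcases S.he with rfl | rfl <;> rw [S.cs] <;> norm_num)
  rw [w0 s S.sT, S.cs] at hs2
  have hAB : δ p + δ r = -(e * d s) := by linarith
  refine MovedArith.one_moved P (A := δ p) (B := δ r) (by omega) (by omega)
    (by rw [show δ p = -δ q by linarith, abs_neg]; omega) (by rw [show δ r = -δ u by linarith, abs_neg]; omega) ?_ ?_ ?_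
  · rw [hAB, abs_neg]
    rcases S.he with rfl | rfl <;> norm_num at hs2 ⊢ <;> rw [le_abs] <;> omega
  · rw [← eA, wsum, S.sum_A _ (fun i h => by rw [h]; simp)]
    have hterm : ∀ i ∈ T, ((c i + 2 * w i : ℤ) : ℚ) ^ 2 * (A i : ℚ) / (d i : ℚ) =
        ((β i : ℚ) + 2) ^ 2 * (α i : ℚ) / (δ i : ℚ) := by
      intro i hi
      rcases hw i hi with z | z <;> simp [hαd, hβd, hδ, z, div_neg, neg_div]
      ring
    rw [sum_congr rfl hterm, hsumT, pα, qα, rα, uα, pβ, qβ, rβ, uβ,
      show δ q = -δ p by linarith, show δ u = -δ r by linarith]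
    push_cast
    simp only [div_neg]
    ring
  · rw [← eC, wsum, S.sum_c _ (fun i h => by rw [h]; simp), w0 s S.sT, S.cs]
    have hterm : ∀ i ∈ T, ((c i + 2 * w i : ℤ) : ℚ) ^ 2 * (c i : ℚ) / (d i : ℚ) =
        ((β i : ℚ) + 2) ^ 2 * (β i : ℚ) / (δ i : ℚ) := by
      intro i hi
      rcases hw i hi with z | z <;> simp [hβd, hδ, z, div_neg, neg_div]
      ring
    rw [sum_congr rfl hterm, hsumT, pβ, qβ, rβ, uβ,
      show δ q = -δ p by linarith, show δ u = -δ r by linarith, hAB]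
    have hds : (d s : ℚ) ≠ 0 := Int.cast_ne_zero.2 (K.dpos s).ne'
    rcases S.he with rfl | rfl <;> push_cast <;> simp only [div_neg, neg_div] <;> ring

end CfsgLib.GW.Combin
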