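import Cfsg.Agent.Lib.GW.LChar.Columns
import Mathlib.GroupTheory.FiniteAbelian.Duality

/-!
# The column at the rotation of order four of a dihedral group of order eight
-/

namespace CfsgLib.GW

open Cfsg CfsgLib.CharTheory CfsgLib.Blocks CfsgLib.Blocks.AbelianFree CfsgLib.Blocks.Dihedral CfsgLib.KleinCent
open CfsgLib.GW.Twist (cz cz_eq LinOn IsLin linPair SecData dihCyc rot_le rot_size)
open scoped ComplexConjugate

set_option linter.unusedVariables false
set_option linter.style.haveILetI false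
set_option linter.unusedSectionVars false

universe u

variable {G : Type u} [Group G] [Fintype G] {P : Sylow 2 G} {t σ : G} {O : Subgroup G} [Fintype O]
  {M : Ideal AlgInt} {L : G → ℂ} {B : Set (IrrCharacter G)}

/-- The twisted block for a dihedral group of order eight. -/
structure Eight (M : Ideal AlgInt) (P : Sylow 2 G) (t σ : G) (O : Subgroup G) (L : G → ℂ)
    (B : Set (IrrCharacter G)) : Prop where
  ctx : OverCtx M P t O L B
  dih : Dih P σ 2
  eqt : σ ^ 2 = t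
  one : ∀ v ∈ (P : Subgroup G), v ∉ Subgroup.zpowers σ → IsConj t v

/-- The value at the rotation on the block. -/
noncomputable def sval (B : Set (IrrCharacter G)) (σ : G) (χ : IrrCharacter G) : ℤ :=
  open Classical in if χ ∈ B then
    (if h : ∃ z : ℤ, (χ : G → ℂ) σ = z then h.choose else 0) else 0

variable (E : Eight M P t σ O L B)

include E

theorem Eight.sigma_ne : σ ≠ 1 ∧ σ * σ ≠ 1 := by
  refine ⟨fun e => ?_, fun e => E.ctx.sect.ne (by rw [← E.eqt, pow_two, e])⟩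
  exact E.ctx.sect.ne (by rw [← E.eqt, e, one_pow])

theorem Eight.exists_sec : SecData (H := Subgroup.centralizer ({t} : Set G)) 2 M L B σ := by
  have hh := E.dih
  obtain ⟨hCP, hmax⟩ := E.ctx.maxl
  have hle : cz σ ≤ Subgroup.centralizer ({t} : Set G) := by
    have := rot_le hh (l := 1) one_pos (by norm_num)
    rwa [pow_one, E.eqt] at this
  refine Twist.secData E.ctx.hM E.ctx.lin P.isPGroup' (fun s hs => E.ctx.sect.leP hs) hCP hmax hh.mem hle
    (fun g hg => Or.inl ?_) ?_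
  · have hz : g * σ * g⁻¹ ∈ Subgroup.zpowers σ := by
      by_contra hz
      have h2 := (hh.out hg hz).1
      have h3 : g * (σ * σ) * g⁻¹ = 1 := by rw [← h2]; group
      exact E.sigma_ne.2 (conj_eq_one_iff.1 h3)
    have := (dihCyc hh).conj_z (Subgroup.mem_zpowers σ) E.sigma_ne.1 hz rfl
    rw [E.eqt] at this
    exact Subgroup.mem_centralizer_singleton_iff.2 (mul_inv_eq_iff_eq_mul.1 this)
  · obtain ⟨K, a, b, c⟩ := rot_size hh (l := 1) one_pos (by norm_num)
    rw [if_neg (by norm_num)] at c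
    revert K
    rw [pow_one]
    exact fun K a b c => ⟨K, a, b, 2, c⟩

theorem Eight.conj_sigma (χ : IrrCharacter G) : conj ((χ : G → ℂ) σ) = (χ : G → ℂ) σ := by
  have := E.dih.value_real χ 1
  rwa [pow_one] at this

theorem Eight.sigma_data (χ : IrrCharacter G) :
    ∃ a : ℤ, (χ : G → ℂ) σ = a ∧ 8 ∣ degZ χ + 2 * a + 5 * tval t χ ∧ 4 ∣ degZ χ - tval t χ := by
  classical
  have hh := E.dih
  haveI := Fintype.ofFinite (P : Subgroup G)
  set R := Subgroup.zpowers σ
  haveI := Fintype.ofFinite R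
  have ht := tval_spec E.ctx.sect.sq χ
  have ho : orderOf σ = 4 := E.dih.ord
  have h4 : Nat.card R = 4 := by rw [Nat.card_zpowers, ho]
  have hsum : ∀ F : G → ℂ, ∑ x : R, F x = F 1 + F σ + F (σ ^ 2) + F (σ ^ 3) := by
    intro F
    let e : Fin 4 → R := fun m => ⟨σ ^ (m : ℕ), Subgroup.npow_mem_zpowers σ m⟩
    have he : Function.Bijective e := (Fintype.bijective_iff_injective_and_card e).2 ⟨fun a b h =>
      Fin.ext (pow_injOn_Iio_orderOf (by simp [ho]) (by simp [ho]) (congrArg Subtype.val h)),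
      by rw [Fintype.card_fin, ← Nat.card_eq_fintype_card, h4]⟩
    rw [← Fintype.sum_bijective e he _ _ fun _ => rfl, Fin.sum_univ_four]
    simp [e]
  have h3 : (χ : G → ℂ) (σ ^ 3) = (χ : G → ℂ) σ := by
    have h := hh.value_inv χ 1
    rw [pow_one] at h
    rw [← h, show σ ^ 3 = σ⁻¹ from eq_inv_of_mul_eq_one_left (by
      rw [← pow_succ, show (3 + 1 : ℕ) = orderOf σ by rw [ho], pow_orderOf_eq_one])]
  haveI : IsCyclic R := inferInstance
  letI : CommGroup R := IsCyclic.commGroup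
  obtain ⟨f, hf⟩ := CommGroup.exists_apply_ne_one_of_hasEnoughRootsOfUnity (G := R) ℂ
    (a := ⟨σ ^ 2, Subgroup.npow_mem_zpowers σ 2⟩) (fun e => E.ctx.sect.ne (by
      rw [← E.eqt]; exact congrArg Subtype.val e))
  set z : ℂ := (f ⟨σ, Subgroup.mem_zpowers σ⟩ : ℂ) with hz
  have hzp : ∀ m : ℕ, (f ⟨σ ^ m, Subgroup.npow_mem_zpowers σ m⟩ : ℂ) = z ^ m := fun m => by
    rw [hz, ← Units.val_pow_eq_pow_val, ← map_pow]
    rfl
  have hz4 : z ^ 4 = 1 := by
    rw [← hzp 4, show (⟨σ ^ 4, Subgroup.npow_mem_zpowers σ 4⟩ : R) = 1 from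
      Subtype.ext (by show σ ^ 4 = (1 : G); rw [← ho, pow_orderOf_eq_one]), map_one, Units.val_one]
  have hz2 : z ^ 2 = -1 := by
    have : (z ^ 2 - 1) * (z ^ 2 + 1) = 0 := by linear_combination hz4
    rcases mul_eq_zero.1 this with e | e
    · exact absurd (Units.ext (by rw [hzp 2, Units.val_one]; exact sub_eq_zero.1 e)) hf
    · exact eq_neg_of_add_eq_zero_left e
  have hzc : conj z = -z := by
    have hn := Complex.norm_eq_one_of_pow_eq_one hz4 (by norm_num)
    have h1 : conj z * z = 1 := by rw [mul_comm, Complex.mul_conj', hn]; norm_num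
    have hz0 : z ≠ 0 := fun e => by rw [e] at hz4; norm_num at hz4
    exact mul_right_cancel₀ hz0 (by rw [h1]; linear_combination hz2)
  obtain ⟨q, hq⟩ := classInner_char_nat (isCharacter_restrict_irr R χ) (isCharacter_of_irr (isIrrCharacter_linear f))
  obtain ⟨q', hq'⟩ := classInner_char_nat (isCharacter_restrict_irr R χ) (isCharacter_of_irr (oneIrr ↥R).2)
  rw [classInner, h4] at hq hq'
  have hT : (χ : G → ℂ) (σ ^ 2) = tval t χ := by rw [E.eqt]; exact ht
  have hfval : ∀ x : G, ∀ hx : x ∈ R, ((fun k : R => (f k : ℂ)) ⟨x, hx⟩) = (f ⟨x, hx⟩ : ℂ) := fun _ _ => rfl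
  rw [show ∑ x : R, (χ : G → ℂ) x * conj (f x : ℂ) = ∑ x : R,
    (fun g : G => (χ : G → ℂ) g * (if hg : g ∈ R then conj (f ⟨g, hg⟩ : ℂ) else 0)) x from
      Finset.sum_congr rfl fun x _ => by simp,
    hsum fun g : G => (χ : G → ℂ) g * (if hg : g ∈ R then conj (f ⟨g, hg⟩ : ℂ) else 0)] at hq
  have hσR : σ ∈ R := Subgroup.mem_zpowers σ
  have hσ2R : σ ^ 2 ∈ R := Subgroup.npow_mem_zpowers σ 2
  have hσ3R : σ ^ 3 ∈ R := Subgroup.npow_mem_zpowers σ 3
  simp only [dif_pos (one_mem R), dif_pos hσR, dif_pos hσ2R, dif_pos hσ3R, hzp] at hq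
  rw [show ((⟨1, one_mem R⟩ : R)) = 1 from rfl, map_one, Units.val_one, map_one, ← hz, map_pow, map_pow,
    hzc, hT, h3, degZ_spec] at hq
  have hq1 : ((degZ χ - tval t χ : ℤ) : ℂ) = ((4 * (q : ℤ) : ℤ) : ℂ) := by
    push_cast
    rw [inv_mul_eq_iff_eq_mul₀ (by norm_num)] at hq
    push_cast at hq
    linear_combination hq - ((tval t χ : ℂ) - z * (χ : G → ℂ) σ) * hz2
  rw [show ∑ x : R, (χ : G → ℂ) x * conj (((oneIrr ↥R : IrrCharacter ↥R) : R → ℂ) x) = ∑ x : R, (χ : G → ℂ) x from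
    Finset.sum_congr rfl fun x _ => by simp [oneIrr], hsum, hT, h3, degZ_spec] at hq'
  have hdvd : (4 : ℤ) ∣ degZ χ - tval t χ := ⟨q, Int.cast_injective (α := ℂ) hq1⟩
  rw [inv_mul_eq_iff_eq_mul₀ (by norm_num)] at hq'
  obtain ⟨j, hj⟩ := hdvd
  have hj' : (degZ χ : ℂ) - (tval t χ : ℂ) = 4 * (j : ℂ) := by
    have := congrArg (Int.cast : ℤ → ℂ) hj
    push_cast at this
    exact this
  have ha : (χ : G → ℂ) σ = ((2 * (q' : ℤ) - tval t χ - 2 * j : ℤ) : ℂ) := by
    push_cast at hq' ⊢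
    linear_combination (1 / 2 : ℂ) * hq' - (1 / 2 : ℂ) * hj'
  refine ⟨_, ha, ?_, ⟨j, hj⟩⟩
  obtain ⟨τ, hτ, hτn⟩ := hh.exists_out
  have hp : DihPair P σ τ 2 := ⟨hh, hτ, hτn⟩
  let e : Fin 4 ⊕ Fin 4 → (P : Subgroup G) := Sum.elim
    (fun m : Fin 4 => ⟨σ ^ (m : ℕ), pow_mem hh.mem _⟩)
    (fun m : Fin 4 => ⟨σ ^ (m : ℕ) * τ, hp.refl_mem m⟩)
  have hsurj : Function.Surjective e := by
    rintro ⟨x, hx⟩
    rcases hp.shape hx with ⟨m, hm, rfl⟩ | ⟨m, hm, rfl⟩
    · exact ⟨.inl ⟨m, hm⟩, rfl⟩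
    · exact ⟨.inr ⟨m, hm⟩, rfl⟩
  have hbij : Function.Bijective e := (Fintype.bijective_iff_surjective_and_card e).2 ⟨hsurj, by
    rw [Fintype.card_sum, Fintype.card_fin, ← Nat.card_eq_fintype_card, hh.card]⟩
  obtain ⟨r, hr⟩ := classInner_char_nat (isCharacter_restrict_irr (P : Subgroup G) χ)
    (isCharacter_of_irr (oneIrr ↥(P : Subgroup G)).2)
  rw [classInner, hh.card] at hr
  simp only [oneIrr, map_one, mul_one] at hr
  rw [
    ← Fintype.sum_bijective e hbij (fun i => (χ : G → ℂ) (e i)) _ fun _ => rfl, Fintype.sum_sum_type] at hr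
  simp only [e, Sum.elim_inl, Sum.elim_inr] at hr
  have hrefl : ∀ m : Fin 4, (χ : G → ℂ) (σ ^ (m : ℕ) * τ) = tval t χ := fun m => by
    obtain ⟨g, hg⟩ := isConj_iff.1 (E.one _ (hp.refl_mem m) (hp.refl_not m))
    rw [← hg, isClassFunction_irr χ.2, ht]
  rw [Finset.sum_congr rfl fun m _ => hrefl m, Fin.sum_univ_four, Fin.sum_univ_four] at hr
  simp only [Fin.val_zero, Fin.val_one, Fin.val_two, pow_zero, pow_one] at hr
  rw [show ((3 : Fin 4) : ℕ) = 3 from rfl, hT, h3, degZ_spec, inv_mul_eq_iff_eq_mul₀ (by norm_num), ha] at hr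
  refine ⟨(r : ℤ), Int.cast_injective (α := ℂ) ?_⟩
  push_cast at hr ⊢
  linear_combination hr

theorem Eight.sval_spec {χ : IrrCharacter G} (hχ : χ ∈ B) : (χ : G → ℂ) σ = sval B σ χ := by
  obtain ⟨a, ha, -⟩ := E.sigma_data χ
  rw [sval, if_pos hχ, dif_pos ⟨a, ha⟩]
  exact Exists.choose_spec (p := fun z : ℤ => (χ : G → ℂ) σ = z) ⟨a, ha⟩

theorem Eight.sval_congr {χ : IrrCharacter G} (hχ : χ ∈ B) :
    8 ∣ degZ χ + 2 * sval B σ χ + 5 * tval t χ ∧ 2 ∣ sval B σ χ - tval t χ := by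
  obtain ⟨a, ha, h8, h4⟩ := E.sigma_data χ
  have : sval B σ χ = a := Int.cast_injective (α := ℂ) ((E.sval_spec hχ).symm.trans ha)
  rw [this]
  omega

omit E in
theorem sval_out {χ : IrrCharacter G} (hχ : χ ∉ B) : sval B σ χ = 0 := if_neg hχ

theorem Eight.sval_sum (F : IrrCharacter G → ℂ) :
    ∑ χ : IrrCharacter G, (sval B σ χ : ℂ) * F χ = ∑ χ ∈ bset B, (χ : G → ℂ) σ * F χ := by
  classical
  rw [← Finset.sum_subset (Finset.subset_univ (bset B)) fun χ _ hχ => by
    rw [sval_out fun h => hχ (mem_bset.2 h), Int.cast_zero, zero_mul]]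
  exact Finset.sum_congr rfl fun χ hχ => by rw [E.sval_spec (mem_bset.1 hχ)]

theorem Eight.sval_degree : ∑ χ : IrrCharacter G, sval B σ χ * degZ χ = 0 := by
  refine Int.cast_injective (α := ℂ) ?_
  push_cast
  rw [E.sval_sum]
  have hne : ¬ IsConj σ (1 : G) := fun e => E.sigma_ne.1 (isConj_one_left.1 e)
  have := block_orth (g := σ) (h := 1) E.ctx.hM E.ctx.blk
    ⟨1, mul_one _, Commute.one_right _, ⟨2, E.dih.ord⟩, by simp⟩
    ⟨1, one_mul _, Commute.one_left _, ⟨0, by simp⟩, by simp⟩ hne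
  simp only [inv_one] at this
  rw [← this]
  exact Finset.sum_congr rfl fun χ _ => by rw [degZ_spec]

theorem Eight.sval_norm : ∑ χ : IrrCharacter G, sval B σ χ * sval B σ χ = 4 := by
  classical
  refine Int.cast_injective (α := ℂ) ?_
  push_cast
  rw [E.sval_sum, Finset.sum_congr rfl fun (χ : IrrCharacter G) hχ => show (χ : G → ℂ) σ * (sval B σ χ : ℂ) =
    (χ : G → ℂ) σ * conj ((χ : G → ℂ) σ) by rw [E.conj_sigma, ← E.sval_spec (mem_bset.1 hχ)]]
  obtain ⟨K, a, b, c⟩ := rot_size E.dih (l := 1) one_pos (by norm_num)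
  rw [if_neg (by norm_num)] at c
  revert K
  rw [pow_one]
  intro K a b c
  haveI := a
  haveI := Fintype.ofFinite K
  have hreg : (regC 2 σ).card = Nat.card K := by
    have := Twist.sum_regC_image (x := σ) (k := 2) Nat.prime_two b c (fun _ => (1 : ℂ))
    simp only [Finset.sum_const, nsmul_eq_mul, mul_one, Finset.card_univ, ← Nat.card_eq_fintype_card] at this
    exact_mod_cast this
  rw [E.exists_sec.norm E.ctx.hM, hreg, ← K.index_mul_card, c, Nat.cast_mul, mul_div_assoc,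
    div_self (Nat.cast_ne_zero.2 Nat.card_pos.ne'), mul_one]
  norm_num

theorem Eight.sigma_not_conj (u : O) : ¬ IsConj (t * (u : G)) σ := by
  rintro h
  obtain ⟨g, hg⟩ := isConj_iff.1 h
  have h1 := congrArg (fun x : G => x ^ Nat.card O * x ^ Nat.card O) hg
  simp only [conj_pow, E.ctx.sect.pow_tu u.2] at h1
  rw [show g * t * g⁻¹ * (g * t * g⁻¹) = g * (t * t) * g⁻¹ by group, E.ctx.sect.sq, mul_one, mul_inv_cancel,
    ← pow_add, eq_comm, ← orderOf_dvd_iff_pow_eq_one, E.dih.ord] at h1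
  have := E.ctx.sect.core.odd
  omega

/-- The column at the rotation is orthogonal to the covered columns. -/
theorem Eight.sval_coef [Fintype (cz t)] {f : O →* ℂˣ}
    (hf : CovOver E.ctx.sect M B fun u => (f u : ℂ)) :
    ∑ χ : IrrCharacter G, sval B σ χ * coefZ t f χ = 0 := by
  classical
  refine Int.cast_injective (α := ℂ) ?_
  push_cast
  rw [← E.ctx.sect.coef_outside f E.sigma_not_conj, E.sval_sum,
    ← Finset.sum_subset (Finset.subset_univ (bset B)) fun χ _ hχ => by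
      rw [E.ctx.sect.coef_eq_zero_of_covOver E.ctx.hM E.ctx.blk hf fun h => hχ (mem_bset.2 h), zero_mul]]
  exact Finset.sum_congr rfl fun χ _ => by rw [E.conj_sigma, E.ctx.sect.coefZ_spec]; ring

theorem Eight.pair_one_sigma {w : G} (hw : w ∈ regC 2 σ) (hne : pairCount t t (σ * w) ≠ 0) : L w = 1 := by
  classical
  have hh := E.dih
  have T := E.ctx.sect
  obtain ⟨⟨a, ha1, ha2⟩⟩ := (Nat.card_ne_zero.1 hne).1
  obtain ⟨hwc, hwr⟩ := mem_regC.1 hw
  have hsq : ∀ b, IsConj t b → b * b = 1 := by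
    intro b hb
    obtain ⟨g, rfl⟩ := isConj_iff.1 hb
    rw [show g * t * g⁻¹ * (g * t * g⁻¹) = g * (t * t) * g⁻¹ by group, T.sq]
    group
  have hinv : a * (σ * w) * a⁻¹ = (σ * w)⁻¹ := by
    refine eq_inv_of_mul_eq_one_left ?_
    rw [show a * (σ * w) * a⁻¹ * (σ * w) = a * (σ * w) * (a⁻¹ * (σ * w)) by group]
    nth_rewrite 1 [← inv_eq_of_mul_eq_one_left (hsq a ha1)]
    exact hsq _ ha2
  obtain ⟨q, hq⟩ : Odd (orderOf w) := Nat.odd_iff.2 (by omega)
  have hgm : (σ * w) ^ (2 * orderOf w) = t := by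
    rw [hwc.symm.mul_pow, mul_comm 2, pow_mul w, pow_orderOf_eq_one, one_pow, mul_one, mul_comm, pow_mul,
      E.eqt, hq, pow_succ, pow_mul, pow_two, T.sq, one_pow, one_mul]
  have haz : a * t * a⁻¹ = t := by
    conv_lhs => rw [← hgm]
    rw [← conj_pow, hinv, inv_pow, hgm]
    exact inv_eq_of_mul_eq_one_left T.sq
  set H := Subgroup.centralizer ({t} : Set G)
  have haH : a ∈ H := Subgroup.mem_centralizer_singleton_iff.2 (mul_inv_eq_iff_eq_mul.1 haz)
  have hσH : σ ∈ H := T.leP hh.mem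
  have hwH : w ∈ H := E.exists_sec.regC_mem hw
  have e := E.ctx.lin.conjugate haH (mul_mem hσH hwH)
  rw [hinv, E.ctx.lin.map_inv (mul_mem hσH hwH), E.ctx.lin.mul _ hσH _ hwH, E.ctx.two σ hh.mem, one_mul] at e
  have hw0 := E.ctx.lin.ne_zero hwH
  have hsq2 : L w ^ 2 = 1 := by
    field_simp at e
    linear_combination -e
  have hodd : L w ^ orderOf w = 1 := by rw [← E.ctx.lin.pow hwH, pow_orderOf_eq_one, E.ctx.lin.one]
  rwa [hq, pow_succ, pow_mul, hsq2, one_pow, one_mul] at hodd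

theorem Eight.wsum_count :
    ((Subgroup.centralizer ({t} : Set G)).index : ℂ) * ((regC 2 σ).card : ℂ) *
        ((Combin.wsum (degZ (G := G)) (tval t) (sval B σ) : ℚ) : ℂ) =
      ∑ w ∈ regC 2 σ, (pairCount t t (σ * w) : ℂ) *
        (Nat.card (Subgroup.centralizer ({t} : Set G)) : ℂ) := by
  classical
  let wt : IrrCharacter G → ℂ := fun χ => (χ : G → ℂ) t ^ 2 / (χ : G → ℂ) 1
  have e : ∀ w ∈ regC 2 σ, (pairCount t t (σ * w) : ℂ) *
      (Nat.card (Subgroup.centralizer ({t} : Set G)) : ℂ) =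
      ((Subgroup.centralizer ({t} : Set G)).index : ℂ) *
        ∑ χ : IrrCharacter G, wt χ * (conj ((χ : G → ℂ) (σ * w)) * L w) := by
    intro w hw
    have e0 : (pairCount t t (σ * w) : ℂ) = (pairCount t t (σ * w) : ℂ) * L w := by
      by_cases h0 : pairCount t t (σ * w) = 0
      · simp [h0]
      · rw [E.pair_one_sigma hw h0, mul_one]
    rw [e0, mul_right_comm, pairCount_mul, Finset.sum_mul, Finset.mul_sum]
    refine Finset.sum_congr rfl fun χ _ => ?_
    simp only [wt, clv, centralChar]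
    ring
  rw [Finset.sum_congr rfl e, ← Finset.mul_sum, Finset.sum_comm, mul_assoc]
  congr 1
  have e2 : ∀ χ : IrrCharacter G, ∑ w ∈ regC 2 σ, wt χ * (conj ((χ : G → ℂ) (σ * w)) * L w) =
      ((regC 2 σ).card : ℂ) * (ind B χ * (wt χ * (χ : G → ℂ) σ)) := by
    intro χ
    have := congrArg (starRingEnd ℂ) (E.exists_sec.average E.ctx.hM χ)
    simp only [map_sum, map_mul, map_natCast, Complex.conj_conj, E.conj_sigma] at this
    rw [← Finset.mul_sum, this]
    have hi : conj (ind B χ) = ind B χ := by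
      by_cases hm : χ ∈ B
      · rw [ind_of_mem hm, map_one]
      · rw [ind_of_notMem hm, map_zero]
    rw [hi]; ring
  rw [Finset.sum_congr rfl fun χ _ => e2 χ, ← Finset.mul_sum, sum_ind_mul]
  congr 1
  have h1 : ((Combin.wsum (degZ (G := G)) (tval t) (sval B σ) : ℚ) : ℂ) =
      ∑ χ : IrrCharacter G, (sval B σ χ : ℂ) * wt χ := by
    simp only [Combin.wsum, Rat.cast_sum, Rat.cast_div, Rat.cast_mul, Rat.cast_pow, Rat.cast_intCast]
    refine Finset.sum_congr rfl fun χ _ => ?_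
    simp only [wt]
    rw [tval_spec E.ctx.sect.sq, degZ_spec]
    ring
  rw [h1, E.sval_sum]
  exact Finset.sum_congr rfl fun χ _ => mul_comm _ _

/-- The weighted sum of the column at the rotation does not see the twist. -/
theorem Eight.wsum_indep {L' : G → ℂ} {B' : Set (IrrCharacter G)} (E' : Eight M P t σ O L' B') :
    Combin.wsum (degZ (G := G)) (tval t) (sval B σ) = Combin.wsum (degZ (G := G)) (tval t) (sval B' σ) :=
  Rat.cast_injective (α := ℂ) (mul_left_cancel₀ (mul_ne_zero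
    (Nat.cast_ne_zero.2 Subgroup.index_ne_zero_of_finite) (E.exists_sec.card_ne E.ctx.hM))
    (E.wsum_count.trans E'.wsum_count.symm))

end CfsgLib.GW
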