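import Cfsg.Agent.Lib.GW.LChar.EightOrbit
import Cfsg.Agent.Lib.GW.LChar.CombinMore
import Cfsg.Agent.Lib.GW.LChar.Degree

/-!
# Dihedral Sylow subgroups of order eight: every fusion fixes every twist

A moved twist forces columns that contradict those of the principal block.
-/

set_option autoImplicit false
set_option linter.unusedSectionVars false
set_option linter.unusedVariables false
set_option linter.style.haveILetI false

namespace CfsgLib.GW

open Cfsg CfsgLib.CharTheory CfsgLib.Blocks CfsgLib.Blocks.AbelianFree CfsgLib.Blocks.Dihedral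
open CfsgLib.GW.Twist (cz cz_eq LinOn)

universe u

theorem wsum_congr {ι : Type*} [Fintype ι] {d T T' c : ι → ℤ} (h : ∀ i, c i ≠ 0 → T i = T' i) :
    Combin.wsum d T c = Combin.wsum d T' c :=
  Finset.sum_congr rfl fun i _ => by
    by_cases h0 : c i = 0
    · simp [h0]
    · rw [h i h0]

variable {G : Type u} [Group G] [Fintype G] {S : Sylow 2 G} {t σ : G} [Fintype (coreC t)]
  [Fintype (cz t)] {M : Ideal AlgInt} {L : G → ℂ} {B : Set (IrrCharacter G)}

variable (H : SplitHyp S t) (hh : Dih S σ 2) (hσt : σ ^ 2 = t)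

include H hh hσt

/-- The value at `t` on the block is the column of the twist plus twice those of the moved characters. -/
theorem SplitHyp.tval_moved (E : Eight M S t σ (coreC t) L B) (hL : LinOn (centI t) L)
    {ι : Type} [Fintype ι] (vs : ι → G) (φ : ι → coreC t →* ℂˣ)
    (hN : ∀ i, MovedChar H σ hh.mem (hL.hom H.core_le) (vs i) (φ i))
    (hsep : ∀ (i j : ι) (s : G) (hs : s ∈ (S : Subgroup G)), H.cj (H.S_le hs) (φ i) = φ j → i = j)
    (hcases : ∀ g : G, g * t * g⁻¹ ∈ (S : Subgroup G) → GoodAt S t L g ∨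
      ∃ i, ∃ s ∈ (S : Subgroup G), s * vs i * s⁻¹ = g * t * g⁻¹)
    {χ : IrrCharacter G} (hχ : χ ∈ B) :
    tval t χ = coefZ t (hL.hom H.core_le) χ + ∑ i, 2 * coefZ t (φ i) χ := by
  classical
  set μ := hL.hom H.core_le with hμd
  have hμ : ∀ u : coreC t, (μ u : ℂ) = L u := fun u => rfl
  have hμinv : ∀ a (ha : a ∈ centI t), H.cj ha μ = μ := fun a ha => H.cj_mu hL ha
  have hsep' : ∀ (i j : ι) (a : Subgroup.centralizer ({t} : Set G)),
      (φ i).comp (E.ctx.sect.conjO a) = φ j → i = j := fun i j a e => by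
    obtain ⟨s, hs, hf⟩ := H.cj_exists a
    exact hsep i j s hs ((hf _).symm.trans e)
  have hall := E.ctx.cover_all φ vs hμ (fun i => E.cov_of_parity hμ (hN i).par) (fun i => (hN i).ne) hsep' hcases
  let F : Option (ι × Bool) → coreC t →* ℂˣ :=
    fun o => o.elim μ fun p => cond p.2 (H.cj (H.S_le hh.mem) (φ p.1)) (φ p.1)
  have hstep : ∀ (i : ι) (s : G) (hs : s ∈ (S : Subgroup G)),
      ∃ j, H.cj (H.S_le hs) (φ i) = F j := fun i s hs => by
    rcases (hN i).orbit H hh hσt hs with e | e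
    · exact ⟨some (i, false), e⟩
    · exact ⟨some (i, true), e⟩
  have hcl : ∀ (o : Option (ι × Bool)) (a : Subgroup.centralizer ({t} : Set G)),
      ∃ j, (F o).comp (E.ctx.sect.conjO a) = F j := by
    intro o a
    obtain ⟨s, hs, hf⟩ := H.cj_exists a
    match o with
    | none => exact ⟨none, (hf μ).trans (hμinv s (H.S_le hs))⟩
    | some (i, false) =>
      obtain ⟨j, hj⟩ := hstep i s hs
      exact ⟨j, (hf _).trans hj⟩
    | some (i, true) =>
      obtain ⟨j, hj⟩ := hstep i (σ * s) (mul_mem hh.mem hs)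
      refine ⟨j, ?_⟩
      rw [← hj, H.cj_mul (H.S_le hh.mem) (H.S_le hs)]
      exact hf _
  have h1 : ∀ i j : ι, φ i = φ j → i = j := fun i j e => hsep i j 1 (one_mem _) (by rw [H.cj_one]; exact e)
  have h2 : ∀ i j : ι, φ i ≠ H.cj (H.S_le hh.mem) (φ j) := fun i j e => by
    obtain rfl : j = i := hsep j i σ hh.mem e.symm
    exact (hN j).moved e.symm
  have h3 : ∀ i : ι, φ i ≠ μ ∧ H.cj (H.S_le hh.mem) (φ i) ≠ μ := fun i =>
    ⟨(hN i).ne, (hN i).ne_mu H hh.mem hμinv (H.S_le hh.mem)⟩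
  have hinj : Function.Injective F := by
    intro a b e
    rcases a with _ | ⟨i, _ | _⟩ <;> rcases b with _ | ⟨j, _ | _⟩
    · rfl
    · exact absurd e.symm (h3 j).1
    · exact absurd e.symm (h3 j).2
    · exact absurd e (h3 i).1
    · rw [h1 i j e]
    · exact absurd e (h2 i j)
    · exact absurd e (h3 i).2
    · exact absurd e.symm (h2 j i)
    · rw [h1 i j (H.cj_inj _ e)]
  have h := E.ctx.tval_eq F hinj hcl (fun b hb hov => by
    rcases hall b hb hov with h | ⟨i, h⟩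
    · exact ⟨none, h⟩
    · exact ⟨some (i, false), h⟩) hχ
  rw [h, Fintype.sum_option, Fintype.sum_prod_type]
  congr 1
  refine Finset.sum_congr rfl fun i _ => ?_
  rw [Fintype.sum_bool]
  show coefZ t (H.cj (H.S_le hh.mem) (φ i)) χ + coefZ t (φ i) χ = _
  rw [show coefZ t (H.cj (H.S_le hh.mem) (φ i)) χ = coefZ t (φ i) χ from Int.cast_injective (α := ℂ) (by
    rw [← H.tsec.coefZ_spec, ← H.tsec.coefZ_spec]
    exact H.tsec.coef_conjO (φ i) ⟨σ, H.S_le hh.mem⟩ χ)]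
  ring

theorem SplitHyp.cols (E : Eight M S t σ (coreC t) L B) (hL : LinOn (centI t) L) :
    Combin.Cols (degZ (G := G)) (sval B σ) (coefZ t (hL.hom H.core_le)) where
  dpos := degZ_pos
  nA := E.sval_norm
  nC := by
    rw [H.tsec.coefZ_orth, H.tsec.fusCount_self (fun s hs => H.cj_mu hL (H.S_le hs))]
    exact_mod_cast hh.card
  AC := E.sval_coef (E.ctx.cov_mu H.htS fun u => rfl)
  Ad := E.sval_degree
  Cd := H.tsec.coefZ_degree _
  par := fun χ => E.coef_par (fun u => rfl) χ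

theorem SplitHyp.cong8 (E : Eight M S t σ (coreC t) L B) {χ : IrrCharacter G} (hχ : sval B σ χ ≠ 0) :
    χ ∈ B ∧ 8 ∣ degZ χ + 2 * sval B σ χ + 5 * tval t χ :=
  have hm : χ ∈ B := by_contra fun h => hχ (sval_out h)
  ⟨hm, (E.sval_congr hm).1⟩

omit hh hσt in
theorem SplitHyp.big_deg (hne : H.Kc ≠ coreC t) {χ : IrrCharacter G} (hχ : χ ≠ oneIrr G) :
    12 ≤ degZ χ + |tval t χ| := by
  haveI := H.hyp.simple
  obtain ⟨x, hxt, hxo, hxS, hmove⟩ := H.exists_mover hne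
  have hxK : x ∈ Subgroup.normalizer (H.Kc : Set G) := by
    have hxC : x ∈ centI t := Subgroup.mem_centralizer_singleton_iff.2 hxt
    refine Subgroup.mem_normalizer_iff.2 fun k => ⟨H.Kc_conj hxC, fun hk => ?_⟩
    have := H.Kc_conj (inv_mem hxC) hk
    rwa [show x⁻¹ * (x * k * x⁻¹) * x⁻¹⁻¹ = k by group] at this
  exact twelve_le H.hyp.noncomm H.tt H.ne_one (fun a ha b hb => H.Kc_abelian ha hb)
    (fun k hk => ((mem_coreC H.hyp.dihedral H.ht).1 (H.Kc_le hk)).1)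
    (Odd.of_dvd_nat H.card_odd (Subgroup.card_dvd_of_le H.Kc_le)) S.isPGroup' H.htZ
    (right_le_normalizer_commutator (S : Subgroup G) (coreC t))
    (fun k hk h => H.Kc_fixed hk fun s hs => (comm_of_conj_eq (h s hs)).symm)
    hxt hxK hxo hxS hmove hχ (degZ_spec χ) (tval_spec H.tt χ)

/-- The columns of the principal block. -/
theorem SplitHyp.principal_data (hM : IsPModular 2 M) (hne : H.Kc ≠ coreC t) :
    ∃ (y b g : ℤ) (B₁ : Set (IrrCharacter G)), MovedArith.Prin y b g ∧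
      Eight M S t σ (coreC t) (fun _ => (1 : ℂ)) B₁ ∧
      Combin.wsum (degZ (G := G)) (tval t) (sval B₁ σ) = MovedArith.eA y b g ∧
      Combin.wsum (degZ (G := G)) (tval t) (coefZ t (1 : coreC t →* ℂˣ)) = MovedArith.eC y b g := by
  classical
  have hL : LinOn (centI t) (fun _ : G => (1 : ℂ)) := ⟨rfl, fun _ _ _ _ => (one_mul _).symm⟩
  obtain ⟨B₁, E⟩ := H.exists_eight hh hσt hM hL (fun _ _ => rfl)
  have hμ1 : hL.hom H.core_le = 1 := MonoidHom.ext fun u => Units.ext rfl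
  have hT : ∀ χ ∈ B₁, tval t χ = coefZ t (1 : coreC t →* ℂˣ) χ := fun χ hχ => by
    rw [H.tval_moved hh hσt E hL (ι := Fin 0) (fun i => i.elim0) (fun i => i.elim0) (fun i => i.elim0)
      (fun i => i.elim0) (fun g hg => Or.inl ?_) hχ, Finset.univ_eq_empty, Finset.sum_empty, add_zero, hμ1]
    by_cases e : g * t * g⁻¹ = t
    · exact H.goodAt hg (Or.inl e)
    · have ho : orderOf (g * t * g⁻¹) = 2 := by
        rw [show orderOf (g * t * g⁻¹) = orderOf t from MulEquiv.orderOf_eq (MulAut.conj g) t]; exact H.ht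
      obtain ⟨y, hyN, hy⟩ := H.exists_rot hg ho e
      exact H.goodAt hg (Or.inr ⟨y, hy, hyN, fun _ _ _ => rfl⟩)
  have hcov := E.ctx.cov_mu H.htS (μ := (1 : coreC t →* ℂˣ)) fun u => rfl
  have hcB : ∀ χ, coefZ t (1 : coreC t →* ℂˣ) χ ≠ 0 → χ ∈ B₁ := fun χ h =>
    by_contra fun hc => h (E.ctx.coefZ_out hcov hc)
  have hcone : coefZ t (1 : coreC t →* ℂˣ) (oneIrr G) = 1 := by rw [coefZ_oneIrr H.tsec, if_pos rfl]
  have hone : oneIrr G ∈ B₁ := hcB _ (by rw [hcone]; norm_num)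
  have hdone : degZ (oneIrr G) = 1 := Int.cast_injective (α := ℂ) (by
    rw [← degZ_spec, Int.cast_one]; rfl)
  have hsone : sval B₁ σ (oneIrr G) = 1 := Int.cast_injective (α := ℂ) (by
    rw [← E.sval_spec hone, Int.cast_one]; rfl)
  have K := H.cols hh hσt E hL
  rw [hμ1] at K
  obtain ⟨y, b, g, hP, eA, eC⟩ := K.principal (o := oneIrr G) ⟨hdone, hsone, hcone⟩
    (fun χ hχ => by
      obtain ⟨hm, h8⟩ := H.cong8 hh hσt E hχ
      rwa [hT χ hm] at h8)
    (fun χ hχ hc => by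
      rw [← hT χ (hcB χ hc)]
      exact H.big_deg hne hχ)
  refine ⟨y, b, g, B₁, hP, E, ?_, ?_⟩
  · rw [← eA]
    exact wsum_congr fun χ hχ => hT χ (H.cong8 hh hσt E hχ).1
  · rw [← eC]
    exact wsum_congr fun χ hχ => hT χ (hcB χ hχ)

/-- One class moved. -/
theorem SplitHyp.not_one_moved (hM : IsPModular 2 M) (hne : H.Kc ≠ coreC t) (hL : LinOn (centI t) L)
    (h2 : ∀ s ∈ (S : Subgroup G), L s = 1) {v : G} (hv : v ∈ (S : Subgroup G)) (hv2 : orderOf v = 2)
    (hvt : v ≠ t) (hnf : ¬ FixAt t L v) (hfx : FixAt t L (σ * v)) : False := by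
  classical
  obtain ⟨hμ1, φ, N⟩ := H.exists_moved hh hσt hM hL h2 hv hv2 hvt hnf
  set μ := hL.hom H.core_le with hμd
  obtain ⟨B, E⟩ := H.exists_eight hh hσt hM hL h2
  obtain ⟨y, b, g, B₁, hP, E₁, eA, eC⟩ := H.principal_data hh hσt hM hne
  have hT : ∀ χ ∈ B, tval t χ = coefZ t μ χ + 2 * coefZ t φ χ := fun χ hχ => by
    rw [H.tval_moved hh hσt E hL (fun _ : Unit => v) (fun _ => φ) (fun _ => N) (fun _ _ _ _ _ => rfl)
      (fun g hg => ?_) hχ, Fintype.sum_unique]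
    by_cases e : g * t * g⁻¹ = t
    · exact Or.inl (H.goodAt hg (Or.inl e))
    have ho : orderOf (g * t * g⁻¹) = 2 := by
      rw [show orderOf (g * t * g⁻¹) = orderOf t from MulEquiv.orderOf_eq (MulAut.conj g) t]; exact H.ht
    obtain ⟨s, hs, h | h⟩ := H.classes_eight hh hσt hv hv2 hvt hg ho e
    · exact Or.inr ⟨(), s, hs, h⟩
    · exact Or.inl (H.goodAt hg (Or.inr (h ▸ H.fixAt_conj hL hs hfx)))
  have hcovμ := E.ctx.cov_mu H.htS (μ := μ) fun u => rfl
  have hcB : ∀ χ, coefZ t μ χ ≠ 0 → χ ∈ B := fun χ h => by_contra fun hc => h (E.ctx.coefZ_out hcovμ hc)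
  have hone : coefZ t μ (oneIrr G) = 0 := by rw [coefZ_oneIrr H.tsec, if_neg hμ1]
  refine (H.cols hh hσt E hL).one_moved (w := coefZ t φ) ?_ (E.sval_coef (E.cov_of_parity (fun u => rfl) N.par))
    ?_ (H.tsec.coefZ_degree φ) N.par (fun χ hχ => ?_) (fun χ hχ => ?_) hP ?_ ?_
  · rw [H.tsec.coefZ_orth, N.fus_self H hh hσt]; rfl
  · rw [H.tsec.coefZ_orth, H.tsec.fusCount_eq_zero fun s hs =>
      N.ne_mu H hh.mem (fun a ha => H.cj_mu hL ha) (H.S_le hs)]
    rfl
  · obtain ⟨hm, h8⟩ := H.cong8 hh hσt E hχ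
    rwa [hT χ hm] at h8
  · rw [← hT χ (hcB χ hχ)]
    exact H.big_deg hne fun e => hχ (e ▸ hone)
  · rw [← eA, ← E.wsum_indep E₁]
    exact wsum_congr fun χ hχ => (hT χ (H.cong8 hh hσt E hχ).1).symm
  · rw [← eC, ← H.tsec.wsum_coef hL (h2 t H.htS) (μ := μ) fun u => rfl]
    exact wsum_congr fun χ hχ => (hT χ (hcB χ hχ)).symm

/-- Both classes moved. -/
theorem SplitHyp.not_two_moved (hM : IsPModular 2 M) (hne : H.Kc ≠ coreC t) (hL : LinOn (centI t) L)
    (h2 : ∀ s ∈ (S : Subgroup G), L s = 1) {v : G} (hv : v ∈ (S : Subgroup G)) (hv2 : orderOf v = 2)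
    (hvt : v ≠ t) (hnf : ¬ FixAt t L v) (hu2 : orderOf (σ * v) = 2) (hut : σ * v ≠ t)
    (hnf' : ¬ FixAt t L (σ * v)) : False := by
  classical
  obtain ⟨hμ1, φ, N⟩ := H.exists_moved hh hσt hM hL h2 hv hv2 hvt hnf
  obtain ⟨-, φ', N'⟩ := H.exists_moved hh hσt hM hL h2 (mul_mem hh.mem hv) hu2 hut hnf'
  set μ := hL.hom H.core_le with hμd
  obtain ⟨B, E⟩ := H.exists_eight hh hσt hM hL h2
  obtain ⟨y, b, g, B₁, hP, E₁, eA, eC⟩ := H.principal_data hh hσt hM hne
  have hap : ∀ s (hs : s ∈ (S : Subgroup G)), H.cj (H.S_le hs) φ' ≠ φ := fun s hs => N.apart H hh hσt N' hs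
  have hap' : ∀ s (hs : s ∈ (S : Subgroup G)), H.cj (H.S_le hs) φ ≠ φ' := fun s hs e => by
    refine hap s⁻¹ (inv_mem hs) ?_
    rw [← e, ← H.cj_mul, H.cj_eq _ (one_mem _) (mul_inv_cancel s), H.cj_one]
  have hT : ∀ χ ∈ B, tval t χ = coefZ t μ χ + 2 * coefZ t φ χ + 2 * coefZ t φ' χ := fun χ hχ => by
    rw [H.tval_moved hh hσt E hL ![v, σ * v] ![φ, φ'] (fun i => ?_) (fun i j s hs => ?_) (fun g hg => ?_) hχ,
      Fin.sum_univ_two]
    · simp [add_assoc, hμd]
    · fin_cases i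
      · exact N
      · exact N'
    · fin_cases i <;> fin_cases j <;> intro e
      · rfl
      · exact absurd e (hap' s hs)
      · exact absurd e (hap s hs)
      · rfl
    by_cases e : g * t * g⁻¹ = t
    · exact Or.inl (H.goodAt hg (Or.inl e))
    have ho : orderOf (g * t * g⁻¹) = 2 := by
      rw [show orderOf (g * t * g⁻¹) = orderOf t from MulEquiv.orderOf_eq (MulAut.conj g) t]; exact H.ht
    obtain ⟨s, hs, h | h⟩ := H.classes_eight hh hσt hv hv2 hvt hg ho e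
    · exact Or.inr ⟨0, s, hs, h⟩
    · exact Or.inr ⟨1, s, hs, h⟩
  have hcovμ := E.ctx.cov_mu H.htS (μ := μ) fun u => rfl
  have hcB : ∀ χ, coefZ t μ χ ≠ 0 → χ ∈ B := fun χ h => by_contra fun hc => h (E.ctx.coefZ_out hcovμ hc)
  have hz : ∀ {ψ : coreC t →* ℂˣ} {w : G}, MovedChar H σ hh.mem μ w ψ →
      ∑ χ : IrrCharacter G, coefZ t μ χ * coefZ t ψ χ = 0 := fun N => by
    rw [H.tsec.coefZ_orth, H.tsec.fusCount_eq_zero fun s hs =>
      N.ne_mu H hh.mem (fun a ha => H.cj_mu hL ha) (H.S_le hs)]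
    rfl
  refine (H.cols hh hσt E hL).two_moved (w := coefZ t φ) (w' := coefZ t φ')
    (by rw [H.tsec.coefZ_orth, N.fus_self H hh hσt]; rfl)
    (by rw [H.tsec.coefZ_orth, N'.fus_self H hh hσt]; rfl)
    (E.sval_coef (E.cov_of_parity (fun u => rfl) N.par)) (E.sval_coef (E.cov_of_parity (fun u => rfl) N'.par))
    (hz N) (hz N') ?_ (H.tsec.coefZ_degree φ) (H.tsec.coefZ_degree φ') N.par N'.par
    (fun χ hχ => ?_) hP ?_ ?_
  · rw [H.tsec.coefZ_orth, H.tsec.fusCount_eq_zero fun s hs => hap s hs]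
    rfl
  · obtain ⟨hm, h8⟩ := H.cong8 hh hσt E hχ
    rwa [hT χ hm] at h8
  · rw [← eA, ← E.wsum_indep E₁]
    exact wsum_congr fun χ hχ => (hT χ (H.cong8 hh hσt E hχ).1).symm
  · rw [← eC, ← H.tsec.wsum_coef hL (h2 t H.htS) (μ := μ) fun u => rfl]
    exact wsum_congr fun χ hχ => (hT χ (hcB χ hχ)).symm

end CfsgLib.GW
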