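import Cfsg.Agent.Lib.GW.LChar.Partner

/-!
# The dihedral case: fixed fusions for order at least sixteen, classes, extensions

For `|S| ≥ 16` the element of order four of the cyclic part is a square and centralises the core, so
every fusion fixes every twist.  For `|S| = 8`: the two classes of noncentral involutions and the
extension to `C(t)` of a character of the core invariant under `S`.
-/

set_option autoImplicit false
set_option linter.unusedSectionVars false
set_option linter.style.haveILetI false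

namespace CfsgLib.GW

open Cfsg
open CfsgLib.Blocks.Dihedral
open CfsgLib.GW.Twist (LinOn)

universe u

variable {G : Type u} [Group G] [Finite G]

theorem mem_norm_closure {a b s : G} (h1 : s * a * s⁻¹ ∈ Subgroup.closure ({a, b} : Set G))
    (h2 : s * b * s⁻¹ ∈ Subgroup.closure ({a, b} : Set G)) :
    s ∈ Subgroup.normalizer ((Subgroup.closure ({a, b} : Set G) : Subgroup G) : Set G) := by
  set V := Subgroup.closure ({a, b} : Set G) with hV
  have hle : V.map (MulAut.conj s).toMonoidHom ≤ V := by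
    rw [Subgroup.map_le_iff_le_comap, hV, Subgroup.closure_le]
    rintro q (rfl | rfl)
    exacts [h1, h2]
  have he := Subgroup.eq_of_le_of_card_ge hle (Subgroup.card_map_of_injective (MulAut.conj s).injective).ge
  refine Subgroup.mem_normalizer_iff.2 fun x => ⟨fun hx => hle ⟨x, hx, rfl⟩, fun hx => ?_⟩
  rw [← he] at hx
  obtain ⟨x', hx', e⟩ := hx
  exact mul_left_cancel (mul_right_cancel (show s * x' * s⁻¹ = s * x * s⁻¹ from e)) ▸ hx'

namespace SplitHyp

variable {S : Sylow 2 G} {t σ : G} {h : ℕ} (H : SplitHyp S t)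

include H

theorem not_rot (hh : Dih S σ h) (hσt : σ ^ h = t) {v : G} (hv2 : orderOf v = 2) (hvt : v ≠ t) :
    v ∉ Subgroup.zpowers σ := fun e => by
  rcases hh.sq_eq_one e (Involutions.mul_self_eq_one_of_orderOf hv2) with q | q
  · rw [q, orderOf_one] at hv2; omega
  · exact hvt (q.trans hσt)

/-- For `|S| ≥ 16` every fusion fixes every twist. -/
theorem fix_big (hh : Dih S σ h) (hσt : σ ^ h = t) (h4 : 4 ∣ h) {L : G → ℂ} (hL : LinOn (centI t) L)
    (h2 : ∀ s ∈ (S : Subgroup G), L s = 1) {v : G} (hv : v ∈ (S : Subgroup G)) (hv2 : orderOf v = 2)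
    (hvt : v ≠ t) : FixAt t L v := by
  obtain ⟨k, rfl⟩ := h4
  set s := σ ^ (2 * k) with hs
  have hsS : s ∈ (S : Subgroup G) := pow_mem hh.mem _
  have hss : s * s = t := by rw [← hσt, hs, ← pow_add]; congr 1; ring
  have hsc : ∀ x ∈ coreC t, x * s = s * x := fun x hx => by
    rw [show s = σ ^ k * σ ^ k by rw [hs, two_mul, pow_add]]
    exact H.sq_comm (pow_mem hh.mem k) x hx
  have hst : s * t * s⁻¹ = t := mul_inv_eq_iff_eq_mul.2 (H.htZ s hsS)
  have hvv := Involutions.mul_self_eq_one_of_orderOf hv2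
  have hsv : s * v * s⁻¹ = t * v := by
    have e := hh.invert hv (H.not_rot hh hσt hv2 hvt) (pow_mem (Subgroup.mem_zpowers σ) (2 * k))
    rw [← hs] at e
    calc s * v * s⁻¹ = s * (v * s⁻¹ * v⁻¹) * v := by group
      _ = s * (v * s * v⁻¹)⁻¹ * v := by group
      _ = t * v := by rw [e, inv_inv, hss]
  obtain ⟨y, hyN, hyt⟩ := H.exists_rot hv hv2 hvt
  set V := Subgroup.closure ({t, v} : Set G)
  have htV : t ∈ V := Subgroup.subset_closure (Set.mem_insert _ _)
  have hvV : v ∈ V := Subgroup.subset_closure (Set.mem_insert_of_mem _ rfl)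
  have hsN : s ∈ Subgroup.normalizer (V : Set G) :=
    mem_norm_closure (by rw [hst]; exact htV) (by rw [hsv]; exact mul_mem htV hvV)
  have hvt' : t * v = v * t := (H.htZ v hv).symm
  have hr : y * s * y⁻¹ * t * (y * s * y⁻¹)⁻¹ = t * v := by
    have hwV : y * v * y⁻¹ ∈ V := (Subgroup.mem_normalizer_iff.1 hyN v).1 hvV
    have e1 : y * s * y⁻¹ * (y * v * y⁻¹) * (y * s * y⁻¹)⁻¹ = v * (y * v * y⁻¹) := by
      rw [show y * s * y⁻¹ * (y * v * y⁻¹) * (y * s * y⁻¹)⁻¹ = y * (s * v * s⁻¹) * y⁻¹ by group, hsv,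
        show y * (t * v) * y⁻¹ = y * t * y⁻¹ * (y * v * y⁻¹) by group, hyt]
    have e2 : y * s * y⁻¹ * v * (y * s * y⁻¹)⁻¹ = v := by
      calc y * s * y⁻¹ * v * (y * s * y⁻¹)⁻¹ = y * s * y⁻¹ * (y * t * y⁻¹) * (y * s * y⁻¹)⁻¹ := by rw [hyt]
        _ = y * (s * t * s⁻¹) * y⁻¹ := by group
        _ = v := by rw [hst, hyt]
    have hwv : y * v * y⁻¹ ≠ v := fun e => hvt (mul_left_cancel (mul_right_cancel (e.trans hyt.symm)))
    have hw1 : y * v * y⁻¹ ≠ 1 := fun e => by
      rw [conj_eq_one_iff.1 e, orderOf_one] at hv2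
      omega
    by_cases ew : y * v * y⁻¹ = t
    · rw [ew, ← hvt'] at e1
      exact e1
    · haveI := H.klein hv hv2 hvt
      have h3 := congrArg Subtype.val (IsKleinFour.eq_mul_of_ne_all (x := (⟨t, htV⟩ : V))
        (y := ⟨v, hvV⟩) (z := ⟨y * v * y⁻¹, hwV⟩)
        (fun q => H.ne_one (congrArg Subtype.val q))
        (fun q => by rw [show v = 1 from congrArg Subtype.val q, orderOf_one] at hv2; omega)
        (fun q => hvt (congrArg Subtype.val q).symm) (fun q => hw1 (congrArg Subtype.val q))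
        (fun q => ew (congrArg Subtype.val q)) (fun q => hwv (congrArg Subtype.val q)))
      simp only [Subgroup.coe_mul] at h3
      rw [h3, hvt', ← mul_assoc v v t, hvv, one_mul] at e1
      calc y * s * y⁻¹ * t * (y * s * y⁻¹)⁻¹
          = y * s * y⁻¹ * (v * t) * (y * s * y⁻¹)⁻¹ * (y * s * y⁻¹ * v * (y * s * y⁻¹)⁻¹) := by
            rw [← hvt', show y * s * y⁻¹ * (t * v) * (y * s * y⁻¹)⁻¹ * (y * s * y⁻¹ * v * (y * s * y⁻¹)⁻¹) =
              y * s * y⁻¹ * (t * (v * v)) * (y * s * y⁻¹)⁻¹ by group, hvv, mul_one]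
        _ = t * v := by rw [e1, e2]
  refine H.fixAt_of_core hL h2 hv hv2 hvt (y := s * (y * s * y⁻¹)) ?_
    (mul_mem hsN (mul_mem (mul_mem hyN hsN) (inv_mem hyN))) fun u hu huv => ?_
  · rw [show s * (y * s * y⁻¹) * t * (s * (y * s * y⁻¹))⁻¹ = s * (y * s * y⁻¹ * t * (y * s * y⁻¹)⁻¹) * s⁻¹
      by group, hr, show s * (t * v) * s⁻¹ = s * t * s⁻¹ * (s * v * s⁻¹) by group, hst, hsv, ← mul_assoc,
      H.tt, one_mul]
  · have h1 : y⁻¹ * u * y ∈ coreC t := by simpa using (H.conj_fix (inv_mem hyN) hu huv).1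
    rw [show s * (y * s * y⁻¹) * u * (s * (y * s * y⁻¹))⁻¹ = s * (y * (s * (y⁻¹ * u * y) * s⁻¹) * y⁻¹) * s⁻¹
      by group, conj_eq_of_comm (hsc _ h1).symm, show y * (y⁻¹ * u * y) * y⁻¹ = u by group,
      conj_eq_of_comm (hsc u hu).symm]

/-- For `|S| = 8` a noncentral involution is conjugate in `S` to `v` or to `σ v`. -/
theorem classes_eight (hh : Dih S σ 2) (hσt : σ ^ 2 = t) {v r : G} (hv : v ∈ (S : Subgroup G))
    (hv2 : orderOf v = 2) (hvt : v ≠ t) (hr : r ∈ (S : Subgroup G)) (hr2 : orderOf r = 2) (hrt : r ≠ t) :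
    ∃ s ∈ (S : Subgroup G), s * v * s⁻¹ = r ∨ s * (σ * v) * s⁻¹ = r := by
  have hvn := H.not_rot hh hσt hv2 hvt
  have hrn := H.not_rot hh hσt hr2 hrt
  have hvv := Involutions.mul_self_eq_one_of_orderOf hv2
  have hσs := Subgroup.mem_zpowers σ
  have hrv : r * v ∈ Subgroup.zpowers σ := by
    by_contra hc
    have j1 := hh.invert (mul_mem hr hv) hc hσs
    have j2 := hh.invert hr hrn hσs
    have j3 := hh.invert hv hvn hσs
    rw [show r * v * σ * (r * v)⁻¹ = r * (v * σ * v⁻¹) * r⁻¹ by group, j3,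
      show r * σ⁻¹ * r⁻¹ = (r * σ * r⁻¹)⁻¹ by group, j2, inv_inv] at j1
    have := Nat.le_of_dvd (by norm_num) (orderOf_dvd_of_pow_eq_one (x := σ) (n := 2)
      (by rw [sq]; exact mul_eq_one_iff_eq_inv.2 j1))
    have := hh.ord
    omega
  obtain ⟨j, hj⟩ := (IsOfFinOrder.mem_powers_iff_mem_zpowers (isOfFinOrder_of_finite σ)).2 hrv
  have hr' : r = σ ^ (j % 4) * v := by
    rw [show σ ^ (j % 4) = σ ^ j by rw [show 4 = orderOf σ from hh.ord.symm, pow_mod_orderOf],
      show σ ^ j = r * v from hj, mul_assoc, hvv, mul_one]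
  have hconj : σ * v * σ⁻¹ = t * v := by
    have e := hh.invert hv hvn hσs
    calc σ * v * σ⁻¹ = σ * (v * σ * v⁻¹)⁻¹ * v := by group
      _ = t * v := by rw [e, inv_inv, ← sq, hσt]
  have h4 : j % 4 < 4 := Nat.mod_lt _ (by norm_num)
  interval_cases hm : j % 4
  · exact ⟨1, one_mem _, Or.inl (by rw [hr']; simp)⟩
  · exact ⟨1, one_mem _, Or.inr (by rw [hr']; simp)⟩
  · exact ⟨σ, hh.mem, Or.inl (by rw [hr', hconj, hσt])⟩
  · exact ⟨σ, hh.mem, Or.inr (by
      rw [hr', show σ * (σ * v) * σ⁻¹ = σ * (σ * v * σ⁻¹) by group, hconj, ← mul_assoc, pow_succ', hσt])⟩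

/-- For a dihedral Sylow subgroup its normaliser centralises `t`. -/
theorem norm_le (hh : Dih S σ h) (hσt : σ ^ h = t) :
    Subgroup.normalizer ((S : Subgroup G) : Set G) ≤ centI t := by
  intro n hn
  have hm : n * t * n⁻¹ ∈ (S : Subgroup G) := (Subgroup.mem_normalizer_iff.1 hn _).1 H.htS
  have hc : Commute σ (n * t * n⁻¹) := by
    have h1 : n⁻¹ * σ * n ∈ (S : Subgroup G) := by
      simpa using (Subgroup.mem_normalizer_iff.1 (inv_mem hn) σ).1 hh.mem
    have h2 := (Commute.conj_iff n).2 (show Commute (n⁻¹ * σ * n) t from H.htZ _ h1)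
    rwa [show n * (n⁻¹ * σ * n) * n⁻¹ = σ by group] at h2
  have he : n * t * n⁻¹ = t := by
    by_contra hne
    have ho : orderOf (n * t * n⁻¹) = 2 := by
      rw [show orderOf (n * t * n⁻¹) = orderOf t from MulEquiv.orderOf_eq (MulAut.conj n) t]; exact H.ht
    have h' := hh.invert hm (H.not_rot hh hσt ho hne) (Subgroup.mem_zpowers σ)
    rw [← hc.eq, mul_inv_cancel_right] at h'
    have := Nat.le_of_dvd (by norm_num) (orderOf_dvd_of_pow_eq_one (x := σ) (n := 2)
      (by rw [sq]; exact mul_eq_one_iff_eq_inv.2 h'))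
    have := hh.ord
    have := hh.two_le
    omega
  exact Subgroup.mem_centralizer_singleton_iff.2 (mul_inv_eq_iff_eq_mul.1 he)

/-- A character of the core invariant under `S` extends to `C(t)` trivially on `S`. -/
theorem exists_ext (f : coreC t →* ℂˣ)
    (hf : ∀ s (hs : s ∈ (S : Subgroup G)), f.comp (H.tsec.conjO ⟨s, H.S_le hs⟩) = f) :
    ∃ L : G → ℂ, LinOn (centI t) L ∧ (∀ s ∈ (S : Subgroup G), L s = 1) ∧ ∀ u : coreC t, (f u : ℂ) = L u := by
  classical
  haveI := Fintype.ofFinite G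
  let L : G → ℂ := fun g =>
    if hg : ∃ o : coreC t, ∃ s ∈ (S : Subgroup G), g = o * s then (f hg.choose : ℂ) else 1
  have hL : ∀ (o : coreC t) (s : G), s ∈ (S : Subgroup G) → L ((o : G) * s) = f o := by
    intro o s hs
    have hg : ∃ o' : coreC t, ∃ s' ∈ (S : Subgroup G), (o : G) * s = o' * s' := ⟨o, s, hs, rfl⟩
    simp only [L, dif_pos hg]
    obtain ⟨s', hs', e⟩ := hg.choose_spec
    generalize hg.choose = o₁ at e ⊢
    have e1 : ((o₁⁻¹ * o : coreC t) : G) = s' * s⁻¹ := by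
      push_cast
      calc (o₁ : G)⁻¹ * o = (o₁ : G)⁻¹ * ((o : G) * s) * s⁻¹ := by group
        _ = s' * s⁻¹ := by rw [e]; group
    have e2 := H.tsec.disjoint (o₁⁻¹ * o).2 (e1 ▸ mul_mem hs' (inv_mem hs))
    rw [show o₁ = o from inv_mul_eq_one.1 (Subtype.ext e2)]
  refine ⟨L, ⟨?_, ?_⟩, fun s hs => ?_, fun u => ?_⟩
  · have := hL 1 1 (one_mem _)
    simpa using this
  · intro a ha b hb
    obtain ⟨o, ho, s, hs, rfl⟩ := centralizer_eq_core_mul H.hyp.dihedral S H.ht H.htZ
      (Subgroup.mem_centralizer_singleton_iff.1 ha)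
    obtain ⟨o', ho', s', hs', rfl⟩ := centralizer_eq_core_mul H.hyp.dihedral S H.ht H.htZ
      (Subgroup.mem_centralizer_singleton_iff.1 hb)
    rw [hL ⟨o, ho⟩ s hs, hL ⟨o', ho'⟩ s' hs', show o * s * (o' * s') =
      ((⟨o, ho⟩ * H.tsec.conjO ⟨s, H.S_le hs⟩ ⟨o', ho'⟩ : coreC t) : G) * (s * s') by
        show _ = o * (s * o' * s⁻¹) * (s * s')
        group, hL _ _ (mul_mem hs hs'), map_mul, Units.val_mul]
    congr 2
    exact DFunLike.congr_fun (hf s hs) ⟨o', ho'⟩
  · have := hL 1 s hs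
    simpa using this
  · have := hL u 1 (one_mem _)
    rw [mul_one] at this
    exact this.symm

end SplitHyp

end CfsgLib.GW
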