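import Cfsg.Agent.Lib.GW.LChar.Eight
import Mathlib.GroupTheory.FiniteAbelian.Duality

/-!
# The columns at the rotation and at the involution agree modulo two

The fixed points of the rotation on the core are averaged against the twist: the cyclic group of the
rotation acts on the isotypic part, whose character values are the two columns.
-/

namespace CfsgLib.GW

open Cfsg CfsgLib.CharTheory CfsgLib.Blocks CfsgLib.Blocks.AbelianFree CfsgLib.Blocks.Dihedral CfsgLib.KleinCent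
open CfsgLib.GW.Twist (cz cz_eq LinOn)
open scoped ComplexConjugate

set_option linter.unusedVariables false
set_option linter.style.haveILetI false
set_option linter.unusedSectionVars false

universe u

variable {G : Type u} [Group G] [Fintype G] {P : Sylow 2 G} {t σ : G} {O : Subgroup G} [Fintype O]
  {M : Ideal AlgInt} {L : G → ℂ} {B : Set (IrrCharacter G)}

/-- The faithful character of the cyclic group of order four. -/
theorem exists_faithful_four (h2 : σ ^ 2 ≠ 1) (h4 : σ ^ 4 = 1) :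
    ∃ f : Subgroup.zpowers σ →* ℂˣ, (f ⟨σ, Subgroup.mem_zpowers σ⟩ : ℂ) ^ 2 = -1 := by
  haveI : IsCyclic (Subgroup.zpowers σ) := inferInstance
  letI : CommGroup (Subgroup.zpowers σ) := IsCyclic.commGroup
  obtain ⟨f, hf⟩ := CommGroup.exists_apply_ne_one_of_hasEnoughRootsOfUnity (G := Subgroup.zpowers σ) ℂ
    (a := (⟨σ, Subgroup.mem_zpowers σ⟩ : Subgroup.zpowers σ) ^ 2) (fun e => h2 (by
      simpa using congrArg Subtype.val e))
  refine ⟨f, ?_⟩
  set z := (f ⟨σ, Subgroup.mem_zpowers σ⟩ : ℂ) with hz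
  have h2' : z ^ 2 ≠ 1 := fun e => hf (Units.ext (by
    rw [map_pow, Units.val_pow_eq_pow_val, ← hz, e, Units.val_one]))
  have h4' : z ^ 4 = 1 := by
    rw [hz, ← Units.val_pow_eq_pow_val, ← map_pow,
      show (⟨σ, Subgroup.mem_zpowers σ⟩ : Subgroup.zpowers σ) ^ 4 = 1 from Subtype.ext (by simpa using h4),
      map_one, Units.val_one]
  have : (z ^ 2 - 1) * (z ^ 2 + 1) = 0 := by linear_combination h4'
  exact eq_neg_of_add_eq_zero_left ((mul_eq_zero.1 this).resolve_left (sub_ne_zero.2 h2'))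

theorem sum_four_powers {R : Subgroup G} [Fintype R] (hR : R = Subgroup.zpowers σ) (ho : orderOf σ = 4)
    (F : R → ℂ) : ∑ x : R, F x = F 1 + F ⟨σ, hR ▸ Subgroup.mem_zpowers σ⟩ +
      F (⟨σ, hR ▸ Subgroup.mem_zpowers σ⟩ ^ 2) + F (⟨σ, hR ▸ Subgroup.mem_zpowers σ⟩ ^ 3) := by
  subst hR
  set s : Subgroup.zpowers σ := ⟨σ, Subgroup.mem_zpowers σ⟩
  have hs : orderOf s = 4 := by rw [Subgroup.orderOf_mk, ho]
  let e : Fin 4 → Subgroup.zpowers σ := fun m => s ^ (m : ℕ)
  have he : Function.Bijective e := (Fintype.bijective_iff_injective_and_card e).2 ⟨fun a b h =>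
    Fin.ext (pow_injOn_Iio_orderOf (by simp [hs]) (by simp [hs]) h),
    by rw [Fintype.card_fin, ← Nat.card_eq_fintype_card, Nat.card_zpowers, ho]⟩
  rw [← Fintype.sum_bijective e he _ _ fun _ => rfl, Fin.sum_univ_four]
  simp [e]

variable (E : Eight M P t σ O L B)

include E

/-- The two columns agree modulo two. -/
theorem Eight.coef_par {μ : O →* ℂˣ} (hμ : ∀ u : O, (μ u : ℂ) = L u) (χ : IrrCharacter G) :
    2 ∣ sval B σ χ - coefZ t μ χ := by
  classical
  have T := E.ctx.sect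
  have hh := E.dih
  have hσC : σ ∈ Subgroup.centralizer ({t} : Set G) := T.leP hh.mem
  set cσ := T.conjO ⟨σ, hσC⟩
  have htu : ∀ u : O, t * (u : G) = u * t := fun u => (T.core.comm u u.2).eq.symm
  have hinv : ∀ u, cσ (cσ u) = u := fun u => Subtype.ext (by
    show σ * (σ * (u : G) * σ⁻¹) * σ⁻¹ = u
    rw [show σ * (σ * (u : G) * σ⁻¹) * σ⁻¹ = σ ^ 2 * u * (σ ^ 2)⁻¹ by rw [pow_two]; group, E.eqt,
      htu u, mul_inv_cancel_right])
  let X : Subgroup O :=
    { carrier := {u | cσ u = u}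
      one_mem' := map_one cσ
      mul_mem' := fun {a b} (ha : cσ a = a) (hb : cσ b = b) => show cσ (a * b) = a * b by rw [map_mul, ha, hb]
      inv_mem' := fun {a} (ha : cσ a = a) => show cσ a⁻¹ = a⁻¹ by rw [map_inv, ha] }
  have hX : ∀ u : O, u ∈ X ↔ Commute σ (u : G) := fun u => by
    show cσ u = u ↔ _
    rw [Subtype.ext_iff]
    exact mul_inv_eq_iff_eq_mul
  haveI := Fintype.ofFinite X
  set R := Subgroup.zpowers σ
  haveI := Fintype.ofFinite R
  have ho : orderOf σ = 4 := hh.ord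
  have hcomm : ∀ (r : R) (u : X), Commute (r : G) ((u : O) : G) := by
    rintro ⟨_, j, rfl⟩ u
    exact ((hX u).1 u.2).zpow_left j
  let Φ : R × X →* G := R.subtype.noncommCoprod (O.subtype.comp X.subtype) hcomm
  have hΦ : ∀ (r : R) (u : X), Φ (r, u) = (r : G) * ((u : O) : G) := fun r u => rfl
  -- averages over the fixed points
  let F : G → ℂ := fun g => ∑ u : X, (χ : G → ℂ) (g * ((u : O) : G)) * conj (μ (u : O) : ℂ)
  have key : ∀ f : R →* ℂˣ, ∃ q : ℕ, ∑ r : R, F r * conj (f r : ℂ) = 4 * (Nat.card X : ℂ) * q := by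
    intro f
    obtain ⟨q, hq⟩ := classInner_char_nat (isCharacter_comp (isCharacter_of_irr χ.2) Φ)
      (isCharacter_of_irr (isIrrCharacter_linear
        ((f.comp (MonoidHom.fst R X)) * (μ.comp (X.subtype.comp (MonoidHom.snd R X))))))
    refine ⟨q, ?_⟩
    rw [classInner, Nat.card_prod, Nat.card_zpowers, ho] at hq
    rw [inv_mul_eq_iff_eq_mul₀ (by simp), Fintype.sum_prod_type] at hq
    push_cast at hq
    rw [← hq]
    refine Finset.sum_congr rfl fun r _ => ?_
    rw [Finset.sum_mul]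
    refine Finset.sum_congr rfl fun u _ => ?_
    simp only [hΦ, MonoidHom.mul_apply, MonoidHom.comp_apply, MonoidHom.coe_fst, MonoidHom.coe_snd,
      Subgroup.coe_subtype, Units.val_mul, map_mul]
    ring
  obtain ⟨f, hf⟩ := exists_faithful_four (σ := σ) (by rw [E.eqt]; exact T.ne)
    (by rw [← ho, pow_orderOf_eq_one])
  obtain ⟨q₀, h₀⟩ := key 1
  obtain ⟨q₁, h₁⟩ := key f
  rw [sum_four_powers rfl ho] at h₀ h₁
  simp only [MonoidHom.one_apply, Units.val_one, map_one, mul_one, map_pow, Units.val_pow_eq_pow_val,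
    SubgroupClass.coe_pow, OneMemClass.coe_one, E.eqt] at h₀ h₁
  -- the value at the rotation
  have hreg : F σ = (Nat.card X : ℂ) * (sval B σ χ : ℂ) := by
    have hsum : ∀ r : G → ℂ, ∑ u : X, r ((u : O) : G) = ∑ w ∈ regC 2 σ, r w := fun r => by
      refine Finset.sum_bij (fun u _ => ((u : O) : G)) (fun u _ => mem_regC.2 ⟨((hX u).1 u.2).symm, ?_⟩)
        (fun a _ b _ e => Subtype.ext (Subtype.ext e)) (fun w hw => ?_) fun _ _ => rfl
      · obtain ⟨j, hj⟩ := T.odd_order (u : O).2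
        omega
      · obtain ⟨hwc, hwo⟩ := mem_regC.1 hw
        have hwt : w ∈ cz t := (isCentr_zpowers t w).2 (by
          have := (show Commute w σ from hwc).pow_right 2
          rwa [E.eqt] at this)
        haveI := T.sub_normal
        obtain ⟨k, hk⟩ := T.sub_index
        have hwO : w ∈ O := Subgroup.mem_subgroupOf.1 ((mem_iff_regular Nat.prime_two T.sub_odd hk
          (⟨w, hwt⟩ : cz t)).2 (by rwa [Subgroup.orderOf_mk]))
        exact ⟨⟨⟨w, hwO⟩, (hX _).2 (show Commute σ w from hwc.symm)⟩, Finset.mem_univ _, rfl⟩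
    have hcard : (Nat.card X : ℂ) = ((regC 2 σ).card : ℂ) := by
      have := hsum fun _ => 1
      simpa [Nat.card_eq_fintype_card] using this
    have hav := E.exists_sec.average E.ctx.hM χ
    rw [← hcard] at hav
    show ∑ u : X, _ = _
    rw [Finset.sum_congr rfl fun (u : X) _ => show (χ : G → ℂ) (σ * ((u : O) : G)) * conj (μ (u : O) : ℂ) =
      (fun w => (χ : G → ℂ) (σ * w) * conj (L w)) ((u : O) : G) by rw [hμ],
      hsum fun w => (χ : G → ℂ) (σ * w) * conj (L w), hav]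
    congr 1
    by_cases hm : χ ∈ B
    · rw [ind_of_mem hm, one_mul, E.sval_spec hm]
    · rw [ind_of_notMem hm, zero_mul, sval_out hm, Int.cast_zero]
  have h3 : F (σ ^ 3) = F σ := by
    have e3 : σ ^ 3 = σ⁻¹ := eq_inv_of_mul_eq_one_left (by
      rw [← pow_succ, show (3 + 1 : ℕ) = orderOf σ by rw [ho], pow_orderOf_eq_one])
    have hc : conj (F σ) = F σ := by rw [hreg, map_mul, map_natCast, map_intCast]
    rw [← hc]
    show ∑ u : X, _ = conj (∑ u : X, _)
    rw [map_sum, ← Equiv.sum_comp (Equiv.inv X) fun u : X =>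
      (χ : G → ℂ) (σ ^ 3 * ((u : O) : G)) * conj (μ (u : O) : ℂ)]
    refine Finset.sum_congr rfl fun u _ => ?_
    simp only [Equiv.inv_apply, InvMemClass.coe_inv, map_mul]
    rw [e3, ← mul_inv_rev, char_apply_inv (isCharacter_of_irr χ.2), ← ((hX u).1 u.2).eq,
      show conj (μ (u : O)⁻¹ : ℂ) = conj (conj (μ (u : O) : ℂ)) by rw [MinNonCA.conj_hom μ (u : O)]]
  rw [h3] at h₀ h₁
  have hz3 : conj (f ⟨σ, Subgroup.mem_zpowers σ⟩ : ℂ) ^ 3 = -conj (f ⟨σ, Subgroup.mem_zpowers σ⟩ : ℂ) := by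
    rw [pow_succ, ← map_pow, hf, map_neg, map_one]; ring
  rw [hz3, ← map_pow, hf, map_neg, map_one] at h₁
  -- the value at the involution
  set n : ℤ := 2 * (Nat.card X : ℤ) * ((q₀ : ℤ) - q₁) - (Nat.card X : ℤ) * sval B σ χ with hn
  have hFt : F t = (n : ℂ) := by
    rw [hreg] at h₀ h₁
    rw [hn]; push_cast
    linear_combination (1 / 2 : ℂ) * h₀ - (1 / 2 : ℂ) * h₁
  have hint : ∀ g, IsIntegral ℤ ((χ : G → ℂ) g) := isIntegral_of_char (isCharacter_of_irr χ.2)
  have hred : ModTwo ((Nat.card O : ℂ) * coef t μ (χ : G → ℂ)) (F t) := by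
    rw [coef, classInner, ← mul_assoc, mul_inv_cancel₀ (Nat.cast_ne_zero.2 Nat.card_pos.ne'), one_mul]
    haveI : DecidablePred fun u : O => cσ u = u := Classical.decPred _
    show ModTwo _ (∑ u : X, _)
    rw [← Finset.sum_subtype (Finset.univ.filter fun u : O => cσ u = u) (fun u => by simp [X])
      (fun u : O => (χ : G → ℂ) (t * (u : G)) * conj (μ u : ℂ))]
    refine MinNonCA.modTwo_sum_fixed cσ hinv _ (fun u => (hint _).mul ?_) fun u => ?_
    · rw [MinNonCA.conj_hom]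
      exact MinNonCA.Four.isIntegral_hom μ u⁻¹
    · have e1 : (μ (cσ u) : ℂ) = μ u := by
        rw [hμ, hμ]
        exact E.ctx.lin.conjugate hσC (T.le u.2)
      rw [e1]
      congr 1
      show (χ : G → ℂ) (t * (σ * (u : G) * σ⁻¹)) = _
      rw [show t * (σ * (u : G) * σ⁻¹) = σ * (t * u) * σ⁻¹ by
        rw [← E.eqt, pow_two]; group, isClassFunction_irr χ.2]
  rw [T.coefZ_spec, hFt, ← Int.cast_natCast (Nat.card O), ← Int.cast_mul] at hred
  have h2 := modTwo_int.1 hred
  obtain ⟨a, ha⟩ : Odd (Nat.card O) := Nat.odd_iff.2 (by have := T.core.odd; omega)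
  obtain ⟨b, hb⟩ : Odd (Nat.card X) := by
    obtain ⟨c, hc⟩ := Subgroup.card_subgroup_dvd_card X
    exact (Nat.odd_mul.1 (hc ▸ ⟨a, ha⟩ : Odd (Nat.card X * c))).1
  rw [hn, ha, hb] at h2
  push_cast at h2
  obtain ⟨k, hk⟩ := h2
  exact ⟨a * coefZ t μ χ + b * sval B σ χ - (2 * (b : ℤ) + 1) * ((q₀ : ℤ) - q₁) - k + sval B σ χ,
    by linear_combination -hk⟩

/-- The column of the twist has an odd entry. -/
theorem Eight.exists_odd {μ : O →* ℂˣ} (hμ : ∀ u : O, (μ u : ℂ) = L u) :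
    ∃ χ ∈ B, ¬ 2 ∣ coefZ t μ χ := by
  classical
  obtain ⟨T, hT, hpm, -⟩ := Combin.norm_four (degZ_pos (G := G)) E.sval_norm E.sval_degree
  obtain ⟨χ, hχ⟩ := Finset.card_pos.1 (show 0 < T.card by omega)
  have hp := E.coef_par hμ χ
  refine ⟨χ, ?_, ?_⟩
  · by_contra h
    rcases hpm χ hχ with q | q <;> rw [sval_out h] at q <;> omega
  · rcases hpm χ hχ with q | q <;> rw [q] at hp <;> omega

/-- A column congruent to that of the twist is covered. -/
theorem Eight.cov_of_parity [Fintype (cz t)] {μ f : O →* ℂˣ} (hμ : ∀ u : O, (μ u : ℂ) = L u)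
    (hpar : ∀ χ : IrrCharacter G, 2 ∣ coefZ t f χ - coefZ t μ χ) :
    CovOver E.ctx.sect M B fun u => (f u : ℂ) := by
  obtain ⟨χ, hχ, hodd⟩ := E.exists_odd hμ
  refine E.ctx.sect.covOver_of_coef_lin E.ctx.hM E.ctx.blk hχ ?_
  rw [E.ctx.sect.coefZ_spec, Int.cast_ne_zero]
  have := hpar χ
  omega

end CfsgLib.GW
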