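import Cfsg.Agent.Lib.GW.LChar.EightFix
import Cfsg.Agent.Lib.GW.LChar.Parity

/-!
# The orbit of a moved character of the core for a dihedral group of order eight

A fusion moving the twist gives a character of the core congruent to the twist modulo two in every
column, fixed exactly by a four group; the block of the twist covers its orbit.
-/

set_option autoImplicit false
set_option linter.unusedSectionVars false
set_option linter.unusedVariables false
set_option linter.style.haveILetI false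

namespace CfsgLib.GW

open Cfsg CfsgLib.CharTheory CfsgLib.Blocks CfsgLib.Blocks.AbelianFree CfsgLib.Blocks.Dihedral
open CfsgLib.GW.Twist (cz cz_eq LinOn)

universe u

variable {G : Type u} [Group G] [Fintype G] {S : Sylow 2 G} {t σ : G} [Fintype (coreC t)]
  [Fintype (cz t)] {M : Ideal AlgInt} {L : G → ℂ} {B : Set (IrrCharacter G)}

namespace SplitHyp

variable (H : SplitHyp S t)

/-- The translate of a character of the core. -/
noncomputable def cj {s : G} (hs : s ∈ centI t) (f : coreC t →* ℂˣ) : coreC t →* ℂˣ :=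
  f.comp (H.tsec.conjO ⟨s, hs⟩)

include H

theorem cj_apply {s : G} (hs : s ∈ centI t) (f : coreC t →* ℂˣ) (u : coreC t) :
    H.cj hs f u = f ⟨s * u * s⁻¹, H.core_conj hs u.2⟩ := rfl

theorem cj_mul {a b : G} (ha : a ∈ centI t) (hb : b ∈ centI t) (f : coreC t →* ℂˣ) :
    H.cj (mul_mem ha hb) f = H.cj hb (H.cj ha f) := MonoidHom.ext fun u => congrArg f (Subtype.ext (by
  show a * b * u * (a * b)⁻¹ = a * (b * u * b⁻¹) * a⁻¹
  group))

theorem cj_eq {a b : G} (ha : a ∈ centI t) (hb : b ∈ centI t) (e : a = b) (f : coreC t →* ℂˣ) :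
    H.cj ha f = H.cj hb f := by subst e; rfl

theorem cj_one (h1 : (1 : G) ∈ centI t) (f : coreC t →* ℂˣ) : H.cj h1 f = f :=
  MonoidHom.ext fun u => congrArg f (Subtype.ext (show (1 : G) * u * 1⁻¹ = u by group))

theorem cj_t (f : coreC t →* ℂˣ) : H.cj (H.S_le H.htS) f = f :=
  MonoidHom.ext fun u => congrArg f (Subtype.ext
    (conj_eq_of_comm ((mem_coreC H.hyp.dihedral H.ht).1 u.2).1.symm))

theorem cj_mu (hL : LinOn (centI t) L) {a : G} (ha : a ∈ centI t) :
    H.cj ha (hL.hom H.core_le) = hL.hom H.core_le :=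
  MonoidHom.ext fun u => Units.ext (hL.conjugate ha (H.core_le u.2))

theorem cj_inj {a : G} (ha : a ∈ centI t) {f g : coreC t →* ℂˣ} (e : H.cj ha f = H.cj ha g) : f = g := by
  have := congrArg (H.cj (inv_mem ha)) e
  rwa [← H.cj_mul, ← H.cj_mul, H.cj_eq _ (one_mem _) (mul_inv_cancel a),
    H.cj_eq (f := g) _ (one_mem _) (mul_inv_cancel a), H.cj_one, H.cj_one] at this

/-- Translates by elements of `C(t)` are translates by elements of `S`. -/
theorem cj_exists (a : Subgroup.centralizer ({t} : Set G)) :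
    ∃ s, ∃ hs : s ∈ (S : Subgroup G), ∀ f : coreC t →* ℂˣ,
      f.comp (H.tsec.conjO a) = H.cj (H.S_le hs) f := by
  obtain ⟨o, ho, s, hs, e⟩ := centralizer_eq_core_mul H.hyp.dihedral S H.ht H.htZ
    (Subgroup.mem_centralizer_singleton_iff.1 a.2)
  refine ⟨s, hs, fun f => ?_⟩
  rw [show a = ⟨o, H.tsec.le ho⟩ * ⟨s, H.S_le hs⟩ from Subtype.ext e, H.tsec.conjO_core f ho]
  rfl

/-- The elements of `S` fixing a character of the core. -/
noncomputable def stabS (f : coreC t →* ℂˣ) : Subgroup (S : Subgroup G) where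
  carrier := {s | H.cj (H.S_le s.2) f = f}
  one_mem' := H.cj_one _ f
  mul_mem' := fun {a b} (ha : H.cj _ f = f) (hb : H.cj _ f = f) =>
    show H.cj (mul_mem (H.S_le a.2) (H.S_le b.2)) f = f by
      rw [H.cj_mul (H.S_le a.2) (H.S_le b.2), ha, hb]
  inv_mem' := fun {a} (ha : H.cj _ f = f) => show H.cj (inv_mem (H.S_le a.2)) f = f by
    refine H.cj_inj (H.S_le a.2) ?_
    rw [← H.cj_mul, H.cj_eq _ (one_mem _) (inv_mul_cancel (a : G)), H.cj_one, ha]

end SplitHyp

/-- A character of the core fixed exactly by the four group of `v`, congruent to the twist. -/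
structure MovedChar (H : SplitHyp S t) (σ : G) (hσ : σ ∈ (S : Subgroup G)) (μ : coreC t →* ℂˣ) (v : G)
    (φ : coreC t →* ℂˣ) : Prop where
  mem : v ∈ (S : Subgroup G)
  ord : orderOf v = 2
  ne_t : v ≠ t
  ne : φ ≠ μ
  fv : H.cj (H.S_le mem) φ = φ
  moved : H.cj (H.S_le hσ) φ ≠ φ
  par : ∀ χ : IrrCharacter G, 2 ∣ coefZ t φ χ - coefZ t μ χ

variable (H : SplitHyp S t) (hh : Dih S σ 2) (hσt : σ ^ 2 = t)

include H hh hσt

theorem SplitHyp.exists_eight (hM : IsPModular 2 M) (hL : LinOn (centI t) L)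
    (h2 : ∀ s ∈ (S : Subgroup G), L s = 1) : ∃ B, Eight M S t σ (coreC t) L B := by
  obtain ⟨B, D⟩ := exists_overCtx hM H.tsec H.htS hL h2
  refine ⟨B, D, hh, hσt, fun v hv hvn => H.hyp.all_conj _ _ H.ht ?_⟩
  exact orderOf_eq_prime (by rw [pow_two]; exact (hh.out hv hvn).1) fun e => hvn (e ▸ one_mem _)

/-- A fusion moving the twist gives a moved character. -/
theorem SplitHyp.exists_moved (hM : IsPModular 2 M) (hL : LinOn (centI t) L)
    (h2 : ∀ s ∈ (S : Subgroup G), L s = 1) {v : G} (hv : v ∈ (S : Subgroup G)) (hv2 : orderOf v = 2)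
    (hvt : v ≠ t) (hnf : ¬ FixAt t L v) :
    hL.hom H.core_le ≠ 1 ∧ ∃ φ, MovedChar H σ hh.mem (hL.hom H.core_le) v φ := by
  set μ := hL.hom H.core_le with hμd
  have hμ : ∀ u : coreC t, (μ u : ℂ) = L u := fun u => rfl
  have hvv := Involutions.mul_self_eq_one_of_orderOf hv2
  obtain ⟨y, hyN, hyt⟩ := H.exists_rot hv hv2 hvt
  set φ := H.phi hv hvv hyN μ with hφ
  obtain ⟨u, hu, huv, hune⟩ : ∃ u ∈ coreC t, u * v = v * u ∧ L (y * u * y⁻¹) ≠ L u := by
    by_contra hc
    push Not at hc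
    exact hnf (H.fixAt_of_core hL h2 hv hv2 hvt hyt hyN hc)
  have hμ1 : μ ≠ 1 := fun e => hune (by
    rw [← hμ ⟨_, (H.conj_fix hyN hu huv).1⟩, ← hμ ⟨u, hu⟩, e]
    rfl)
  have hne : φ ≠ μ := fun e => hune (by
    have := congrArg (fun f : coreC t →* ℂˣ => (f ⟨u, hu⟩ : ℂ)) e
    simp only [hφ, H.phi_apply hv hvv hyN μ (u := ⟨u, hu⟩) huv] at this
    exact this)
  have hfv : H.cj (H.S_le hv) φ = φ := MonoidHom.ext fun u => H.phi_conj hv hvv hyN μ rfl
  have hpar : ∀ χ : IrrCharacter G, 2 ∣ coefZ t φ χ - coefZ t μ χ := fun χ =>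
    H.tsec.coefZ_parity χ hv hvv hyt (fun u hu huv => H.conj_fix hyN hu huv)
      (fun u => DFunLike.congr_fun hfv u) (fun u => DFunLike.congr_fun (H.cj_mu hL (H.S_le hv)) u)
      fun u huv h => H.phi_apply hv hvv hyN μ huv
  refine ⟨hμ1, φ, hv, hv2, hvt, hne, hfv, fun hσ => ?_, hpar⟩
  -- a character fixed by `S` would extend
  have hinv : ∀ s (hs : s ∈ (S : Subgroup G)), H.cj (H.S_le hs) φ = φ := by
    have hσs : (⟨σ, hh.mem⟩ : (S : Subgroup G)) ∈ H.stabS φ := hσ
    have hvs : (⟨v, hv⟩ : (S : Subgroup G)) ∈ H.stabS φ := hfv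
    have hpow : ∀ s ∈ Subgroup.zpowers σ, ∀ hs : s ∈ (S : Subgroup G),
        (⟨s, hs⟩ : (S : Subgroup G)) ∈ H.stabS φ := by
      rintro _ ⟨j, rfl⟩ hs
      exact zpow_mem hσs j
    intro s hs
    show (⟨s, hs⟩ : (S : Subgroup G)) ∈ H.stabS φ
    by_cases hz : s ∈ Subgroup.zpowers σ
    · exact hpow s hz hs
    · have hsv : s * v ∈ Subgroup.zpowers σ := by
        by_contra hc
        have hσp := Subgroup.mem_zpowers σ
        have j1 := hh.invert (mul_mem hs hv) hc hσp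
        have j2 := hh.invert hs hz hσp
        have j3 := hh.invert hv (H.not_rot hh hσt hv2 hvt) hσp
        rw [show s * v * σ * (s * v)⁻¹ = s * (v * σ * v⁻¹) * s⁻¹ by group, j3,
          show s * σ⁻¹ * s⁻¹ = (s * σ * s⁻¹)⁻¹ by group, j2, inv_inv] at j1
        have := Nat.le_of_dvd (by norm_num) (orderOf_dvd_of_pow_eq_one (x := σ) (n := 2)
          (by rw [sq]; exact mul_eq_one_iff_eq_inv.2 j1))
        have := hh.ord
        omega
      have := mul_mem (hpow _ hsv (mul_mem hs hv)) hvs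
      rwa [show (⟨s * v, mul_mem hs hv⟩ : (S : Subgroup G)) * ⟨v, hv⟩ = ⟨s, hs⟩ from Subtype.ext (by
        show s * v * v = s
        rw [mul_assoc, hvv, mul_one])] at this
  obtain ⟨L', hL', h2', hφL'⟩ := H.exists_ext φ hinv
  obtain ⟨B, E⟩ := H.exists_eight hh hσt hM hL h2
  obtain ⟨B', D'⟩ := exists_overCtx hM H.tsec H.htS hL' h2'
  exact hne (E.ctx.lin_eq D' H.htS (H.norm_le hh hσt) hμ hφL' (E.cov_of_parity hμ hpar))

variable {μ φ : coreC t →* ℂˣ} {v : G}

theorem MovedChar.stab_card (N : MovedChar H σ hh.mem μ v φ) :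
    Nat.card (H.stabS φ) = 4 ∧ (H.stabS φ).index = 2 := by
  have hV := H.klein N.mem N.ord N.ne_t
  set V := Subgroup.closure ({t, v} : Set G) with hVd
  have hVS : V ≤ (S : Subgroup G) := by
    rw [hVd, Subgroup.closure_le]
    rintro _ (rfl | rfl)
    exacts [H.htS, N.mem]
  have hle : V.subgroupOf (S : Subgroup G) ≤ H.stabS φ := by
    have hle' : V ≤ (H.stabS φ).map (S : Subgroup G).subtype := by
      rw [hVd, Subgroup.closure_le]
      intro q hq
      rcases hq with e | e <;> rw [e]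
      · exact ⟨⟨t, H.htS⟩, H.cj_t φ, rfl⟩
      · exact ⟨⟨v, N.mem⟩, N.fv, rfl⟩
    intro x hx
    obtain ⟨z, hz, e⟩ := hle' (Subgroup.mem_subgroupOf.1 hx)
    exact (Subtype.ext e : z = x) ▸ hz
  have h4 : Nat.card (V.subgroupOf (S : Subgroup G)) = 4 := by
    rw [Nat.card_congr (Subgroup.subgroupOfEquivOfLe hVS).toEquiv]
    exact hV.card_four
  have hd := Subgroup.card_dvd_of_le hle
  have hi := (H.stabS φ).card_mul_index
  rw [h4] at hd
  rw [show Nat.card (S : Subgroup G) = 8 from hh.card] at hi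
  have hne : (H.stabS φ).index ≠ 1 := fun e => N.moved (by
    have : (⟨σ, hh.mem⟩ : (S : Subgroup G)) ∈ H.stabS φ := by
      rw [Subgroup.index_eq_one.1 e]
      exact Subgroup.mem_top _
    exact this)
  obtain ⟨k, hk⟩ := hd
  rw [hk, mul_assoc] at hi
  have hki : k * (H.stabS φ).index = 2 := by omega
  have := (Nat.prime_two.eq_one_or_self_of_dvd _ ⟨k, by rw [mul_comm]; exact hki.symm⟩).resolve_left hne
  rw [this] at hki
  exact ⟨by omega, this⟩

theorem MovedChar.fus_self (N : MovedChar H σ hh.mem μ v φ) : H.tsec.fusCount φ φ = 4 :=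
  (N.stab_card H hh hσt).1

theorem MovedChar.orbit (N : MovedChar H σ hh.mem μ v φ) {s : G} (hs : s ∈ (S : Subgroup G)) :
    H.cj (H.S_le hs) φ = φ ∨ H.cj (H.S_le hs) φ = H.cj (H.S_le hh.mem) φ := by
  by_cases h : (⟨s, hs⟩ : (S : Subgroup G)) ∈ H.stabS φ
  · exact Or.inl h
  right
  have hσn : (⟨σ, hh.mem⟩ : (S : Subgroup G)) ∉ H.stabS φ := N.moved
  have hm : (⟨s, hs⟩ : (S : Subgroup G)) * ⟨σ, hh.mem⟩⁻¹ ∈ H.stabS φ := by
    rw [Subgroup.mul_mem_iff_of_index_two (N.stab_card H hh hσt).2]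
    simp [h, hσn]
  have e : H.cj (mul_mem (H.S_le hs) (inv_mem (H.S_le hh.mem))) φ = φ := hm
  conv_rhs => rw [← e, ← H.cj_mul]
  exact H.cj_eq _ _ (inv_mul_cancel_right s σ).symm φ

omit hh hσt in
theorem MovedChar.ne_mu (hσ : σ ∈ (S : Subgroup G)) (N : MovedChar H σ hσ μ v φ)
    (hμ : ∀ a (ha : a ∈ centI t), H.cj ha μ = μ) {s : G} (hs : s ∈ centI t) : H.cj hs φ ≠ μ := fun e =>
  N.ne (H.cj_inj hs (by rw [e, hμ]))

/-- Moved characters of the two classes have different orbits. -/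
theorem MovedChar.apart {φ' : coreC t →* ℂˣ} (N : MovedChar H σ hh.mem μ v φ)
    (N' : MovedChar H σ hh.mem μ (σ * v) φ') {s : G} (hs : s ∈ (S : Subgroup G)) :
    H.cj (H.S_le hs) φ' ≠ φ := by
  intro e
  haveI := Subgroup.normal_of_index_eq_two (N'.stab_card H hh hσt).2
  have hm : (⟨σ * v, N'.mem⟩ : (S : Subgroup G)) ∈ H.stabS φ' := N'.fv
  have hc := (inferInstance : (H.stabS φ').Normal).conj_mem _ hm ⟨s, hs⟩
  have h1 : H.cj (H.S_le N'.mem) φ = φ := by
    have e1 : H.cj (mul_mem (mul_mem (H.S_le hs) (H.S_le N'.mem)) (inv_mem (H.S_le hs))) φ' = φ' := hc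
    rw [← e, ← H.cj_mul]
    conv_rhs => rw [← e1, ← H.cj_mul]
    exact H.cj_eq _ _ (inv_mul_cancel_right (s * (σ * v)) s).symm φ'
  refine N.moved ?_
  have h2 : H.cj (mul_mem (H.S_le N'.mem) (H.S_le N.mem)) φ = φ := by
    rw [H.cj_mul (H.S_le N'.mem) (H.S_le N.mem), h1, N.fv]
  conv_rhs => rw [← h2]
  exact H.cj_eq _ _ (by rw [mul_assoc, Involutions.mul_self_eq_one_of_orderOf N.ord, mul_one]) φ

end CfsgLib.GW
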