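import Cfsg.Agent.Lib.GW.LChar.Section
import Cfsg.Agent.Lib.GW.TwistSec
import Cfsg.Agent.Lib.Blocks.Covering
import Cfsg.Agent.Lib.Blocks.FongPSolvable

/-!
# The blocks at an involution over a block, seen on the core of the centralizer

A linear character of the core of `C(t)` with a nonzero coefficient in `B` is covered by a block of
`C(t)` inducing `B`.
-/

namespace CfsgLib.GW

open Cfsg CfsgLib.CharTheory CfsgLib.Blocks CfsgLib.Blocks.AbelianFree CfsgLib.Blocks.Dihedral
open CfsgLib.GW.Twist (cz cz_eq LinOn IsLin linPair)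
open scoped ComplexConjugate

set_option linter.unusedVariables false
set_option linter.style.haveILetI false
set_option linter.unusedSectionVars false

universe u

variable {G : Type u} [Group G] [Fintype G] {P : Sylow 2 G} {t : G} {O : Subgroup G} [Fintype O]
  {M : Ideal AlgInt} {L : G → ℂ} {B : Set (IrrCharacter G)}

theorem TSec.le_cz (T : TSec P t O) : O ≤ cz t := fun u hu => (isCentr_zpowers t u).2 (T.core.comm u hu)

/-- The inclusion of the core in the centraliser. -/
abbrev TSec.inc (T : TSec P t O) (u : O) : cz t := ⟨u, T.le_cz u.2⟩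

theorem TSec.sub_normal (T : TSec P t O) : (O.subgroupOf (cz t)).Normal :=
  ⟨fun k hk c => T.core.norm c ((isCentr_zpowers t _).1 c.2) _ hk⟩

theorem TSec.sub_odd (T : TSec P t O) : ¬ 2 ∣ Nat.card (O.subgroupOf (cz t)) := by
  rw [Nat.card_congr (Subgroup.subgroupOfEquivOfLe T.le_cz).toEquiv]
  exact T.core.odd

theorem TSec.sub_index (T : TSec P t O) : ∃ k, (O.subgroupOf (cz t)).index = 2 ^ k := by
  haveI : Fact (Nat.Prime 2) := ⟨Nat.prime_two⟩
  obtain ⟨k, hk⟩ := IsPGroup.iff_card.1 P.isPGroup'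
  have h1 := (O.subgroupOf (cz t)).card_mul_index
  have h2 := T.core.card
  rw [cz_eq] at h2
  rw [Nat.card_congr (Subgroup.subgroupOfEquivOfLe T.le_cz).toEquiv, h2,
    show Nat.card P = 2 ^ k from hk, mul_comm (2 ^ k)] at h1
  exact ⟨k, Nat.eq_of_mul_eq_mul_left Nat.card_pos h1⟩

/-- The multiplicity of a function of the core in a character of the centraliser. -/
noncomputable def rc (T : TSec P t O) (θ : O → ℂ) (ψ : cz t → ℂ) : ℂ :=
  classInner (fun u : O => ψ (T.inc u)) θ

theorem TSec.rc_sub (T : TSec P t O) [Fintype (O.subgroupOf (cz t))] (θ : IrrCharacter O) (ψ : cz t → ℂ) :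
    classInner (fun n : O.subgroupOf (cz t) => ψ n)
        (irrPull (Subgroup.subgroupOfEquivOfLe T.le_cz) θ : O.subgroupOf (cz t) → ℂ) =
      rc T (θ : O → ℂ) ψ := by
  simp only [rc, classInner, Nat.card_congr (Subgroup.subgroupOfEquivOfLe T.le_cz).toEquiv]
  congr 1
  refine Fintype.sum_equiv (Subgroup.subgroupOfEquivOfLe T.le_cz).toEquiv _ _ fun n => ?_
  rfl

/-- The character of a linear map. -/
noncomputable def linIrr (f : O →* ℂˣ) : IrrCharacter O := ⟨fun u => (f u : ℂ), isIrrCharacter_linear f⟩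

/-- Two characters of the centraliser over the same character of the core are in the same block. -/
theorem TSec.over_unique (T : TSec P t O) (hM : IsPModular 2 M) [Fintype (cz t)] {θ : IrrCharacter O}
    {ψ ψ' : IrrCharacter (cz t)}
    (h : rc T (θ : O → ℂ) (ψ : cz t → ℂ) ≠ 0) (h' : rc T (θ : O → ℂ) (ψ' : cz t → ℂ) ≠ 0) :
    blockOf M (ψ : cz t → ℂ) = blockOf M (ψ' : cz t → ℂ) := by
  classical
  haveI := T.sub_normal
  haveI := Fintype.ofFinite (O.subgroupOf (cz t))
  rw [← T.rc_sub] at h h'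
  exact covering_unique hM T.sub_index (isPBlock_singleton_of_coprime hM T.sub_odd _)
    (blockOf_isPBlock ψ) (blockOf_isPBlock ψ') ⟨ψ, mem_blockOf_self hM ψ, _, rfl, h⟩
    ⟨ψ', mem_blockOf_self hM ψ', _, rfl, h'⟩

/-- The characters of the core under a block are conjugate. -/
theorem TSec.over_orbit (T : TSec P t O) (hM : IsPModular 2 M) [Fintype (cz t)] {θ θ' : IrrCharacter O}
    {ψ ψ' : IrrCharacter (cz t)} (hb : blockOf M (ψ : cz t → ℂ) = blockOf M (ψ' : cz t → ℂ))
    (h : rc T (θ : O → ℂ) (ψ : cz t → ℂ) ≠ 0) (h' : rc T (θ' : O → ℂ) (ψ' : cz t → ℂ) ≠ 0) :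
    ∃ a : Subgroup.centralizer ({t} : Set G), (θ' : O → ℂ) = fun u => (θ : O → ℂ) (T.conjO a u) := by
  classical
  haveI := T.sub_normal
  haveI := Fintype.ofFinite (O.subgroupOf (cz t))
  rw [← T.rc_sub] at h h'
  have hs := isPBlock_singleton_of_coprime hM T.sub_odd (irrPull (Subgroup.subgroupOfEquivOfLe T.le_cz) θ)
  have h1 := res_covFn_covers hM (blockOf_isPBlock ψ) hs ⟨ψ, mem_blockOf_self hM ψ, _, rfl, h⟩
    (χ := ψ') (hb ▸ mem_blockOf_self hM ψ')
  obtain ⟨c, hc, hθc⟩ := constituent_mem_orbit hM h1 h'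
  obtain ⟨x, rfl⟩ := mem_covOrb.1 hc
  obtain ⟨_, rfl, e⟩ := hθc
  refine ⟨⟨((x : cz t) : G)⁻¹, (cz_eq t).ge (inv_mem x.2)⟩, funext fun u => ?_⟩
  have e' := congrFun (congrArg Subtype.val e) ((Subgroup.subgroupOfEquivOfLe T.le_cz).symm u)
  simp only [irrPull_apply, MulEquiv.apply_symm_apply] at e'
  rw [← e']
  refine congrArg _ (Subtype.ext ?_)
  show ((x : cz t) : G)⁻¹ * (u : G) * ((x : cz t) : G) = ((x : cz t) : G)⁻¹ * u * ((x : cz t) : G)⁻¹⁻¹
  rw [inv_inv]

variable [Fintype (cz t)]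

theorem TSec.sec_expand (T : TSec P t O) (χ : IrrCharacter G) (θ : O → ℂ) :
    classInner (fun u : O => (χ : G → ℂ) (t * u)) θ =
      ∑ ψ : IrrCharacter (cz t),
        classInner (sec t (cz t) (χ : G → ℂ)) (ψ : cz t → ℂ) * rc T θ (ψ : cz t → ℂ) := by
  have e : (fun u : O => (χ : G → ℂ) (t * u)) = ∑ ψ : IrrCharacter (cz t),
      classInner (sec t (cz t) (χ : G → ℂ)) (ψ : cz t → ℂ) • fun u : O => (ψ : cz t → ℂ) (T.inc u) :=
    funext fun u => by
      have e := congrFun (eq_sum_irr (sec_isClassFunction (isCentr_zpowers t) χ)) (T.inc u)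
      simp only [Finset.sum_apply, Pi.smul_apply, smul_eq_mul] at e ⊢
      exact e
  rw [e, classInner_sum_left]
  exact Finset.sum_congr rfl fun ψ _ => by rw [classInner_smul_left]; rfl

theorem TSec.ind_expand (T : TSec P t O) (hM : IsPModular 2 M) (hB : IsPBlock M B) (χ : IrrCharacter G)
    (θ : O → ℂ) :
    ind B χ * classInner (fun u : O => (χ : G → ℂ) (t * u)) θ =
      ∑ ψ ∈ bset (overBlocks M (cz t) B),
        classInner (sec t (cz t) (χ : G → ℂ)) (ψ : cz t → ℂ) * rc T θ (ψ : cz t → ℂ) := by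
  have hpord : ∃ k : ℕ, orderOf t = 2 ^ k :=
    ⟨1, by rw [pow_one]; exact orderOf_eq_prime (by rw [pow_two]; exact T.sq) T.ne⟩
  have e : ∀ u : O, ind B χ * (χ : G → ℂ) (t * u) =
      ∑ ψ ∈ bset (overBlocks M (cz t) B),
        classInner (sec t (cz t) (χ : G → ℂ)) (ψ : cz t → ℂ) * (ψ : cz t → ℂ) (T.inc u) := fun u => by
    have h := sec_eq_overBlocks hM (isCentr_zpowers t) hpord hB χ (y := T.inc u) (fun hd => by
      rw [← Subgroup.orderOf_coe] at hd
      exact Nat.not_even_iff_odd.2 (T.odd_order u.2) (even_iff_two_dvd.2 hd))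
    rw [blockPart_apply] at h
    exact h.symm
  rw [← classInner_smul_left, show (ind B χ • fun u : O => (χ : G → ℂ) (t * u)) =
      ∑ ψ ∈ bset (overBlocks M (cz t) B),
        classInner (sec t (cz t) (χ : G → ℂ)) (ψ : cz t → ℂ) • fun u : O => (ψ : cz t → ℂ) (T.inc u) from
    funext fun u => by simp only [Finset.sum_apply, Pi.smul_apply, smul_eq_mul]; exact e u,
    classInner_sum_left]
  exact Finset.sum_congr rfl fun ψ _ => by rw [classInner_smul_left]; rfl

/-- The function on the core is covered by a block over `B`. -/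
def CovOver (T : TSec P t O) (M : Ideal AlgInt) (B : Set (IrrCharacter G)) (θ : O → ℂ) : Prop :=
  ∃ ψ ∈ overBlocks M (cz t) B, rc T θ (ψ : cz t → ℂ) ≠ 0

theorem TSec.covOver_of_coef (T : TSec P t O) (hM : IsPModular 2 M) (hB : IsPBlock M B) {χ : IrrCharacter G}
    (hχ : χ ∈ B) {θ : O → ℂ} (h : classInner (fun u : O => (χ : G → ℂ) (t * u)) θ ≠ 0) : CovOver T M B θ := by
  by_contra hc
  simp only [CovOver, not_exists, not_and, not_not] at hc
  refine h ?_
  have e := T.ind_expand hM hB χ θ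
  rw [ind_of_mem hχ, one_mul] at e
  rw [e]
  exact Finset.sum_eq_zero fun ψ hψ => by rw [hc ψ (mem_bset.1 hψ), mul_zero]

/-- A covered character has its whole column in `B`. -/
theorem TSec.column_of_covOver (T : TSec P t O) (hM : IsPModular 2 M) (hB : IsPBlock M B) {θ : IrrCharacter O}
    (h : CovOver T M B (θ : O → ℂ)) (χ : IrrCharacter G) :
    ind B χ * classInner (fun u : O => (χ : G → ℂ) (t * u)) (θ : O → ℂ) =
      classInner (fun u : O => (χ : G → ℂ) (t * u)) (θ : O → ℂ) := by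
  classical
  obtain ⟨ψ₀, h₀, hr₀⟩ := h
  rw [T.ind_expand hM hB, T.sec_expand]
  refine Finset.sum_subset (Finset.subset_univ _) fun ψ _ hψ => ?_
  by_contra hne
  refine hψ (mem_bset.2 ?_)
  show IsInducedBlock M (cz t) (blockOf M (ψ : cz t → ℂ)) B
  rw [T.over_unique hM (right_ne_zero_of_mul hne) hr₀]
  exact h₀

theorem TSec.coef_eq_zero_of_covOver (T : TSec P t O) (hM : IsPModular 2 M) (hB : IsPBlock M B)
    {f : O →* ℂˣ} (h : CovOver T M B fun u => (f u : ℂ)) {χ : IrrCharacter G} (hχ : χ ∉ B) :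
    coef t f (χ : G → ℂ) = 0 := by
  have e := T.column_of_covOver hM hB (θ := linIrr f) h χ
  rw [ind_of_notMem hχ, zero_mul] at e
  exact e.symm

theorem TSec.covOver_of_coef_lin (T : TSec P t O) (hM : IsPModular 2 M) (hB : IsPBlock M B)
    {f : O →* ℂˣ} {χ : IrrCharacter G} (hχ : χ ∈ B) (h : coef t f (χ : G → ℂ) ≠ 0) :
    CovOver T M B fun u => (f u : ℂ) :=
  T.covOver_of_coef hM hB hχ h

/-- If every block over `B` covers a member of the conjugation-closed family, then on the section of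
`t` the characters of `B` are combinations of the family. -/
theorem TSec.value (T : TSec P t O) (hM : IsPModular 2 M) (hB : IsPBlock M B) {ι : Type*} [Fintype ι]
    (f : ι → O →* ℂˣ) (hinj : Function.Injective f)
    (hcl : ∀ (i : ι) (a : Subgroup.centralizer ({t} : Set G)), ∃ j, (f i).comp (T.conjO a) = f j)
    (hall : ∀ b : Set (IrrCharacter (cz t)), IsPBlock M b → IsInducedBlock M (cz t) b B →
      ∃ i, ∃ ψ ∈ b, rc T (fun u => (f i u : ℂ)) (ψ : cz t → ℂ) ≠ 0)
    {χ : IrrCharacter G} (hχ : χ ∈ B) (u : O) :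
    (χ : G → ℂ) (t * u) = ∑ i, coef t (f i) (χ : G → ℂ) * (f i u : ℂ) := by
  classical
  set g : O → ℂ := fun u => (χ : G → ℂ) (t * u) with hg
  have hgc : IsClassFunction O g := fun a c => by
    show (χ : G → ℂ) (t * ((c * a * c⁻¹ : O) : G)) = (χ : G → ℂ) (t * a)
    rw [← isClassFunction_irr χ.2 (t * a) (c : G)]
    congr 1
    push_cast
    rw [show (c : G) * (t * a) * (c : G)⁻¹ = (c : G) * t * (a * (c : G)⁻¹) by group,
      (T.core.comm c c.2).eq]
    group
  show g u = _
  conv_lhs => rw [eq_sum_irr hgc]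
  simp only [Finset.sum_apply, Pi.smul_apply, smul_eq_mul]
  have hli : Function.Injective fun i => linIrr (f i) := fun i j e => hinj (MonoidHom.ext fun x =>
    Units.ext (congrFun (congrArg Subtype.val e) x))
  rw [← Finset.sum_subset (Finset.subset_univ (Finset.univ.image fun i => linIrr (f i))) fun θ _ hθ => ?_,
    Finset.sum_image hli.injOn]
  · rfl
  · by_contra hne
    obtain ⟨ψ', hψ', hr'⟩ := T.covOver_of_coef hM hB hχ (left_ne_zero_of_mul hne)
    obtain ⟨i, ψ, hψ, hr⟩ := hall _ (blockOf_isPBlock ψ') hψ'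
    obtain ⟨a, ha⟩ := T.over_orbit hM (θ := linIrr (f i)) (θ' := θ)
      (blockOf_eq_of_mem hM hψ) hr hr'
    obtain ⟨j, hj⟩ := hcl i a
    refine hθ (Finset.mem_image.2 ⟨j, Finset.mem_univ _, Subtype.ext ?_⟩)
    rw [ha, ← hj]
    rfl

end CfsgLib.GW
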