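import Cfsg.Agent.Lib.GW.LChar.Over

/-!
# The subsections at an involution of the twisted block

Every block of `C(t)` over the twisted block is carried below the maximal pair; blocks carried to
conjugate elements of the Sylow subgroup are equal, so counting the covered characters exhausts them.
-/

namespace CfsgLib.GW

open Cfsg CfsgLib.CharTheory CfsgLib.Blocks CfsgLib.Blocks.AbelianFree CfsgLib.Blocks.Dihedral
open CfsgLib.GW.Twist (cz cz_eq LinOn IsLin linPair)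
open scoped ComplexConjugate

set_option linter.unusedVariables false
set_option linter.style.haveILetI false
set_option linter.unusedSectionVars false

universe u

variable {G : Type u} [Group G] [Fintype G] {P : Sylow 2 G} {t : G} {O : Subgroup G} [Fintype O]
  {M : Ideal AlgInt} {L : G → ℂ} {B : Set (IrrCharacter G)}

/-- The twisted block of a linear character of `C(t)`. -/
structure OverCtx (M : Ideal AlgInt) (P : Sylow 2 G) (t : G) (O : Subgroup G) (L : G → ℂ)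
    (B : Set (IrrCharacter G)) : Prop where
  sect : TSec P t O
  hM : IsPModular 2 M
  lin : LinOn (Subgroup.centralizer ({t} : Set G)) L
  two : ∀ s ∈ (P : Subgroup G), L s = 1
  maxl : ∃ hCP : Subgroup.centralizer ((P : Subgroup G) : Set G) ≤ Subgroup.centralizer ({t} : Set G),
    IsMaximalBrauerPair 2 M B (P : Subgroup G) (linPair M lin (P : Subgroup G) hCP).2

/-- Fusion at `g` respects the twist. -/
def GoodAt (P : Sylow 2 G) (t : G) (L : G → ℂ) (g : G) : Prop :=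
  g ∈ Subgroup.centralizer ({t} : Set G) ∨ ∃ (y : G) (V : Subgroup G), V ≤ (P : Subgroup G) ∧ t ∈ V ∧
    g * t * g⁻¹ ∈ V ∧ y * t * y⁻¹ = g * t * g⁻¹ ∧ y ∈ Subgroup.normalizer (V : Set G) ∧
    ∀ k ∈ Subgroup.centralizer (V : Set G), L (y * k * y⁻¹) = L k

variable (D : OverCtx M P t O L B)

include D

theorem OverCtx.blk : IsPBlock M B := by
  obtain ⟨_, h⟩ := D.maxl
  exact h.1.2.1

theorem OverCtx.pord : ∃ k : ℕ, orderOf t = 2 ^ k :=
  ⟨1, by rw [pow_one]; exact orderOf_eq_prime (by rw [pow_two]; exact D.sect.sq) D.sect.ne⟩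

omit D in
theorem exists_overCtx (hM : IsPModular 2 M) (T : TSec P t O) (htP : t ∈ (P : Subgroup G))
    (hL : LinOn (Subgroup.centralizer ({t} : Set G)) L) (h2 : ∀ s ∈ (P : Subgroup G), L s = 1) :
    ∃ B, OverCtx M P t O L B := by
  haveI : Fact (Nat.Prime 2) := ⟨Nat.prime_two⟩
  obtain ⟨hCP, B, hmax⟩ := Twist.exists_block hM hL P (fun s hs => T.leP hs) htP (cz_eq t).ge
  exact ⟨B, T, hM, hL, h2, hCP, hmax⟩

variable [Fintype (cz t)]

/-- The block of `C(t)` is carried below the maximal pair by `g`. -/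
def OverCtx.Below (g : G) (b : Set (IrrCharacter (cz t))) : Prop :=
  ∃ hCP : Subgroup.centralizer ((P : Subgroup G) : Set G) ≤ Subgroup.centralizer ({t} : Set G),
    Relation.ReflTransGen (NormalSubpairRel 2 M) (conjIdx g (⟨Subgroup.zpowers t, b⟩ : BrauerPairIdx G))
      (linPair M D.lin (P : Subgroup G) hCP)

theorem OverCtx.exists_below {b : Set (IrrCharacter (cz t))}
    (hov : IsInducedBlock M (cz t) b B) : ∃ g, g * t * g⁻¹ ∈ (P : Subgroup G) ∧ D.Below g b := by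
  haveI : Fact (Nat.Prime 2) := ⟨Nat.prime_two⟩
  obtain ⟨hCP, hmax⟩ := D.maxl
  obtain ⟨g, hg⟩ := exists_conj_subpair D.hM (m := linPair M D.lin (P : Subgroup G) hCP) hmax
    (a := ⟨Subgroup.zpowers t, b⟩)
    ((induced_centralizer_iff D.hM (isPGroup_zpowers Nat.prime_two D.pord)).1 hov)
  refine ⟨g, subpairLE_le hg ?_, hCP, hg⟩
  rw [Twist.conjIdx_fst g t _ rfl]
  exact Subgroup.mem_zpowers _

theorem OverCtx.below_eq {b b' : Set (IrrCharacter (cz t))} {g g' s : G}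
    (h : D.Below g b) (h' : D.Below g' b') (hs : s ∈ (P : Subgroup G))
    (hv : s * (g * t * g⁻¹) * s⁻¹ = g' * t * g'⁻¹) : b = b' := by
  obtain ⟨hCP, hg⟩ := h
  obtain ⟨_, hg'⟩ := h'
  have h1 : conjIdx (s * g) (⟨Subgroup.zpowers t, b⟩ : BrauerPairIdx G) = conjIdx g' ⟨Subgroup.zpowers t, b'⟩ := by
    refine Twist.below_unique D.hM (e := linPair M D.lin (P : Subgroup G) hCP) P.isPGroup'
      (Twist.linPair_block D.hM D.lin hCP) ?_ hg' ?_
    · rw [← conjIdx_mul]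
      exact subpair_conj_mem D.hM hg hs
    · rw [Twist.conjIdx_fst _ t _ rfl, Twist.conjIdx_fst _ t _ rfl, ← hv]
      congr 1
      group
  have h2 := congrArg (conjIdx g'⁻¹) h1
  rw [conjIdx_mul, conjIdx_mul, inv_mul_cancel, conjIdx_one] at h2
  have hc : g'⁻¹ * (s * g) ∈ cz t := (isCentr_zpowers t _).2 (by
    calc g'⁻¹ * (s * g) * t = g'⁻¹ * (s * (g * t * g⁻¹) * s⁻¹) * (s * g) := by group
      _ = t * (g'⁻¹ * (s * g)) := by rw [hv]; group)
  have h3 : conjIdx (g'⁻¹ * (s * g)) (⟨Subgroup.zpowers t, b⟩ : BrauerPairIdx G) =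
      ⟨Subgroup.zpowers t, b⟩ :=
    (stab_iff_idx _).1 ⟨Subgroup.centralizer_le_normalizer _ hc, stabilizes_of_mem b hc⟩
  rw [h3] at h2
  exact eq_of_heq (Sigma.mk.inj_iff.1 h2).2

theorem OverCtx.below_lin {b : Set (IrrCharacter (cz t))} {g : G} (h : D.Below g b)
    (hg : GoodAt P t L g) : IsLin L (⟨Subgroup.zpowers t, b⟩ : BrauerPairIdx G) := by
  obtain ⟨hCP, hg'⟩ := h
  exact Twist.pair_lin_at D.hM D.lin P.isPGroup' (fun s hs => D.sect.leP hs) hCP (cz_eq t).ge rfl hg' hg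

theorem OverCtx.lin_cov {b : Set (IrrCharacter (cz t))}
    (h : IsLin L (⟨Subgroup.zpowers t, b⟩ : BrauerPairIdx G)) {f : O →* ℂˣ} (hf : ∀ u : O, (f u : ℂ) = L u) :
    ∃ ψ ∈ b, rc D.sect (fun u => (f u : ℂ)) (ψ : cz t → ℂ) = 1 := by
  obtain ⟨ξ, hξ, hv⟩ := h
  refine ⟨ξ, hξ, ?_⟩
  rw [rc, show (fun u : O => (ξ : cz t → ℂ) (D.sect.inc u)) = fun u => (f u : ℂ) from
    funext fun u => (hv _).trans (hf u).symm]
  exact classInner_irr_self (isIrrCharacter_linear f)

theorem OverCtx.lin_orbit {b : Set (IrrCharacter (cz t))} (hb : IsPBlock M b)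
    (h : IsLin L (⟨Subgroup.zpowers t, b⟩ : BrauerPairIdx G)) {μ f : O →* ℂˣ}
    (hμ : ∀ u : O, (μ u : ℂ) = L u) {ψ : IrrCharacter (cz t)} (hψ : ψ ∈ b)
    (hr : rc D.sect (fun u => (f u : ℂ)) (ψ : cz t → ℂ) ≠ 0) : f = μ := by
  obtain ⟨ξ, hξ, h1⟩ := D.lin_cov h hμ
  obtain ⟨a, ha⟩ := D.sect.over_orbit D.hM (θ := linIrr μ) (θ' := linIrr f)
    ((eq_blockOf D.hM hb hξ).symm.trans (eq_blockOf D.hM hb hψ)) (ψ := ξ) (ψ' := ψ)
    (by show rc D.sect (fun u => (μ u : ℂ)) _ ≠ 0; rw [h1]; exact one_ne_zero) hr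
  refine MonoidHom.ext fun u => Units.ext ((congrFun ha u).trans ?_)
  show (μ (D.sect.conjO a u) : ℂ) = μ u
  rw [hμ, hμ]
  exact D.lin.conjugate a.2 (D.sect.le u.2)

/-- As many covered orbits of moved characters as moved classes exhaust the blocks over `B`. -/
theorem OverCtx.cover_all {ι : Type*} [Finite ι] (f : ι → O →* ℂˣ) (vs : ι → G) {μ : O →* ℂˣ}
    (hμ : ∀ u : O, (μ u : ℂ) = L u) (hcov : ∀ i, CovOver D.sect M B fun u => (f i u : ℂ))
    (hne : ∀ i, f i ≠ μ)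
    (hsep : ∀ (i j : ι) (a : Subgroup.centralizer ({t} : Set G)), (f i).comp (D.sect.conjO a) = f j → i = j)
    (hcases : ∀ g : G, g * t * g⁻¹ ∈ (P : Subgroup G) → GoodAt P t L g ∨
      ∃ i, ∃ s ∈ (P : Subgroup G), s * vs i * s⁻¹ = g * t * g⁻¹)
    (b : Set (IrrCharacter (cz t))) (hb : IsPBlock M b) (hov : IsInducedBlock M (cz t) b B) :
    (∃ ψ ∈ b, rc D.sect (fun u => (μ u : ℂ)) (ψ : cz t → ℂ) ≠ 0) ∨
      ∃ i, ∃ ψ ∈ b, rc D.sect (fun u => (f i u : ℂ)) (ψ : cz t → ℂ) ≠ 0 := by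
  classical
  choose ψ hψ hr using hcov
  have hκ : ∀ i, ∃ j, ∃ s ∈ (P : Subgroup G), ∃ g, s * vs j * s⁻¹ = g * t * g⁻¹ ∧
      D.Below g (blockOf M (ψ i : cz t → ℂ)) := by
    intro i
    obtain ⟨g, hg, hbel⟩ := D.exists_below (hψ i)
    rcases hcases g hg with hgood | ⟨j, s, hs, e⟩
    · exact absurd (D.lin_orbit (blockOf_isPBlock _) (D.below_lin hbel hgood) hμ
        (mem_blockOf_self D.hM _) (hr i)) (hne i)
    · exact ⟨j, s, hs, g, e, hbel⟩
  choose κ s hs g hg hbel using hκ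
  have hsame : ∀ {b b' : Set (IrrCharacter (cz t))} {g g' s s' v : G}, D.Below g b → D.Below g' b' →
      s ∈ (P : Subgroup G) → s' ∈ (P : Subgroup G) → s * v * s⁻¹ = g * t * g⁻¹ →
      s' * v * s'⁻¹ = g' * t * g'⁻¹ → b = b' := by
    intro b b' g g' s s' v h h' hs hs' e e'
    refine D.below_eq h h' (mul_mem hs' (inv_mem hs)) ?_
    rw [← e, ← e']
    group
  have hinj : Function.Injective κ := fun i j e => by
    have hbb := hsame (hbel i) (hbel j) (hs i) (hs j) (hg i) (e ▸ hg j)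
    obtain ⟨a, ha⟩ := D.sect.over_orbit D.hM (θ := linIrr (f i)) (θ' := linIrr (f j)) hbb (hr i) (hr j)
    exact hsep i j a (MonoidHom.ext fun u => Units.ext (congrFun ha u).symm)
  obtain ⟨g₀, hg₀, hbel₀⟩ := D.exists_below hov
  rcases hcases g₀ hg₀ with hgood | ⟨j, s₀, hs₀, e⟩
  · left
    obtain ⟨ξ, hξ, h1⟩ := D.lin_cov (D.below_lin hbel₀ hgood) hμ
    exact ⟨ξ, hξ, by rw [h1]; exact one_ne_zero⟩
  · right
    obtain ⟨i, rfl⟩ := Finite.injective_iff_surjective.1 hinj j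
    have hbb := hsame (hbel i) hbel₀ (hs i) hs₀ (hg i) e
    exact ⟨i, ψ i, hbb ▸ mem_blockOf_self D.hM _, hr i⟩

/-- When the normaliser of the Sylow subgroup centralises `t`, different extensions give different
blocks. -/
theorem OverCtx.lin_eq {L' : G → ℂ} {B' : Set (IrrCharacter G)} (D' : OverCtx M P t O L' B')
    (htP : t ∈ (P : Subgroup G))
    (hN : Subgroup.normalizer ((P : Subgroup G) : Set G) ≤ Subgroup.centralizer ({t} : Set G))
    {μ f : O →* ℂˣ} (hμ : ∀ u : O, (μ u : ℂ) = L u) (hf : ∀ u : O, (f u : ℂ) = L' u)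
    (hcov : CovOver D.sect M B fun u => (f u : ℂ)) : f = μ := by
  classical
  haveI : Fact (Nat.Prime 2) := ⟨Nat.prime_two⟩
  have hzP : Subgroup.zpowers t ≤ (P : Subgroup G) := Subgroup.zpowers_le.2 htP
  have hPH : (P : Subgroup G) ≤ Subgroup.centralizer ({t} : Set G) := fun s hs => D.sect.leP hs
  have hzH : cz t ≤ Subgroup.centralizer ({t} : Set G) := (cz_eq t).ge
  obtain ⟨hCP, hmax⟩ := D.maxl
  obtain ⟨_, hmax'⟩ := D'.maxl
  obtain ⟨ψ, hψ, hr⟩ := hcov
  set a' := linPair M D'.lin (Subgroup.zpowers t) hzH with ha'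
  have hb' : IsPBlock M a'.2 := Twist.linPair_block D.hM D'.lin hzH
  have hle' := Twist.linPair_subpair D.hM D'.lin P.isPGroup' hzP hzH hPH
  obtain ⟨ξ, hξ, hr'⟩ := D'.lin_cov (b := a'.2) (Twist.linPair_lin D.hM D'.lin hzH) hf
  have hbb : a'.2 = blockOf M (ψ : cz t → ℂ) := (eq_blockOf D.hM hb' hξ).trans
    (D.sect.over_unique D.hM (θ := linIrr f) (ψ := ξ) (ψ' := ψ)
      (by show rc D.sect (fun u => (f u : ℂ)) _ ≠ 0; rw [show rc D.sect (fun u => (f u : ℂ)) (ξ : cz t → ℂ) = 1 from hr']; exact one_ne_zero) hr)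
  have hind' : IsInducedBlock M (cz t) a'.2 B' :=
    (induced_centralizer_iff D.hM (isPGroup_zpowers Nat.prime_two D.pord)).2
      ((pairOf_subpair_iff D.hM hle' B').2 hmax'.1)
  have hBB : B' = B := isInducedBlock_unique D.hM hind' (hbb ▸ hψ)
  obtain ⟨n, hn, e⟩ := pairs_orbit D.hM hmax (show IsBrauerPairOf 2 M B _ (linPair M D'.lin (P : Subgroup G) hCP).2 by subst hBB; exact hmax'.1)
  have hnH : n ∈ Subgroup.centralizer ({t} : Set G) := hN hn
  have hfix : conjIdx n (linPair M D.lin (P : Subgroup G) hCP) = linPair M D.lin (P : Subgroup G) hCP :=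
    Twist.isLin_unique D.hM (map_conj_normalizer hn)
      (Twist.isPBlock_conjIdx (Twist.linPair_block D.hM D.lin hCP) n) (Twist.linPair_block D.hM D.lin hCP)
      (Twist.isLin_conj n (Twist.linPair_lin D.hM D.lin hCP) fun k hk => D.lin.conjugate hnH (hCP hk))
      (Twist.linPair_lin D.hM D.lin hCP)
  have heq : linPair M D'.lin (P : Subgroup G) hCP = linPair M D.lin (P : Subgroup G) hCP := by
    refine Eq.trans ?_ hfix
    rw [show conjIdx n (linPair M D.lin (P : Subgroup G) hCP) =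
      ⟨(P : Subgroup G), rot hn (linPair M D.lin (P : Subgroup G) hCP).2⟩ from conjIdx_normalizer hn _, ← e]
    rfl
  have hle := Twist.linPair_subpair D.hM D.lin P.isPGroup' hzP hzH hPH
  have h1 : linPair M D.lin (Subgroup.zpowers t) hzH = a' :=
    Twist.below_unique D.hM (e := linPair M D.lin (P : Subgroup G) hCP) P.isPGroup'
      (Twist.linPair_block D.hM D.lin hCP) hle (heq ▸ hle') rfl
  refine D.lin_orbit hb' ?_ hμ (ψ := ξ) hξ (by rw [hr']; exact one_ne_zero)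
  show IsLin L a'
  rw [← h1]
  exact Twist.linPair_lin D.hM D.lin hzH

end CfsgLib.GW
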