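import Cfsg.Agent.Lib.GW.LChar.Frame
import Cfsg.Agent.Lib.GW.LChar.Columns
import Cfsg.Agent.Lib.GW.LCharS

/-!
# The partner of a linear character across a four group, and an element moving `[O, S]`
-/

set_option autoImplicit false
set_option linter.unusedSectionVars false
set_option linter.style.haveILetI false

namespace CfsgLib.GW

open Cfsg
open CfsgLib.Blocks.Dihedral
open CfsgLib.GW.Twist (LinOn)
open scoped commutatorElement

universe u

variable {G : Type u} [Group G] [Finite G]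

/-- The fusion from `t` to `v` in the four group fixes `L`. -/
def FixAt (t : G) (L : G → ℂ) (v : G) : Prop :=
  ∃ y : G, y * t * y⁻¹ = v ∧ y ∈ Subgroup.normalizer ((Subgroup.closure ({t, v} : Set G) : Subgroup G) : Set G) ∧
    ∀ k : G, Commute k t → Commute k v → L (y * k * y⁻¹) = L k

namespace SplitHyp

variable {S : Sylow 2 G} {t : G} (H : SplitHyp S t)

include H

theorem tsec : TSec S t (coreC t) := ⟨core_of_four H.hyp.dihedral S H.ht H.htZ, H.tt, H.ne_one, H.htZ⟩

theorem klein {v : G} (hv : v ∈ (S : Subgroup G)) (hv2 : orderOf v = 2) (hvt : v ≠ t) :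
    IsKleinFour (Subgroup.closure ({t, v} : Set G)) :=
  isKleinFour_closure_pair H.tt (Involutions.mul_self_eq_one_of_orderOf hv2) H.ne_one
    (fun e => by rw [e, orderOf_one] at hv2; omega) (Ne.symm hvt) (H.htZ v hv).symm

theorem exists_rot {v : G} (hv : v ∈ (S : Subgroup G)) (hv2 : orderOf v = 2) (hvt : v ≠ t) :
    ∃ y ∈ Subgroup.normalizer ((Subgroup.closure ({t, v} : Set G) : Subgroup G) : Set G), y * t * y⁻¹ = v := by
  have hV := H.klein hv hv2 hvt
  set V := Subgroup.closure ({t, v} : Set G)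
  have htV : t ∈ V := Subgroup.subset_closure (Set.mem_insert _ _)
  have hvV : v ∈ V := Subgroup.subset_closure (Set.mem_insert_of_mem _ rfl)
  have hv1 : v ≠ 1 := fun e => by rw [e, orderOf_one] at hv2; omega
  obtain ⟨g, hg, -, -, hcyc⟩ := H.hyp.exists_three hV
  by_cases e : g * t * g⁻¹ = v
  · exact ⟨g, hg, e⟩
  refine ⟨g * g, mul_mem hg hg, ?_⟩
  obtain ⟨h1, h2⟩ := hcyc _ htV H.ne_one
  rw [show g * g * t * (g * g)⁻¹ = g * (g * t * g⁻¹) * g⁻¹ by group, h2]
  haveI := hV
  have h3 := congrArg Subtype.val (IsKleinFour.eq_mul_of_ne_all (x := (⟨t, htV⟩ : V))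
    (y := ⟨v, hvV⟩) (z := ⟨g * t * g⁻¹, (Subgroup.mem_normalizer_iff.1 hg _).1 htV⟩)
    (fun q => H.ne_one (congrArg Subtype.val q)) (fun q => hv1 (congrArg Subtype.val q))
    (fun q => hvt (congrArg Subtype.val q).symm)
    (fun q => H.ne_one (conj_eq_one_iff.1 (congrArg Subtype.val q)))
    (fun q => h1 (congrArg Subtype.val q)) (fun q => e (congrArg Subtype.val q)))
  simp only [Subgroup.coe_mul] at h3
  rw [h3, ← mul_assoc, H.tt, one_mul]

theorem conj_fix {v y u : G} (hy : y ∈ Subgroup.normalizer ((Subgroup.closure ({t, v} : Set G) : Subgroup G) : Set G))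
    (hu : u ∈ coreC t) (huv : u * v = v * u) :
    y * u * y⁻¹ ∈ coreC t ∧ (y * u * y⁻¹) * v = v * (y * u * y⁻¹) := by
  set V := Subgroup.closure ({t, v} : Set G) with hV
  obtain ⟨hut, huo⟩ := (mem_coreC H.hyp.dihedral H.ht).1 hu
  have hc : u ∈ Subgroup.centralizer (V : Set G) := by
    rw [hV, Subgroup.centralizer_closure, Subgroup.mem_centralizer_iff]
    rintro q (rfl | rfl)
    · exact hut.symm
    · exact huv.symm
  have hk : ∀ q ∈ V, (y * u * y⁻¹) * q = q * (y * u * y⁻¹) := fun q hq => by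
    have hq' : y⁻¹ * q * y ∈ V := by simpa using (Subgroup.mem_normalizer_iff.1 (inv_mem hy) q).1 hq
    have := Subgroup.mem_centralizer_iff.1 hc _ hq'
    calc y * u * y⁻¹ * q = y * (u * (y⁻¹ * q * y)) * y⁻¹ := by group
      _ = y * ((y⁻¹ * q * y) * u) * y⁻¹ := by rw [this]
      _ = q * (y * u * y⁻¹) := by group
  refine ⟨(mem_coreC H.hyp.dihedral H.ht).2 ⟨hk t (Subgroup.subset_closure (Set.mem_insert _ _)), ?_⟩,
    hk v (Subgroup.subset_closure (Set.mem_insert_of_mem _ rfl))⟩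
  rwa [show orderOf (y * u * y⁻¹) = orderOf u from MulEquiv.orderOf_eq (MulAut.conj y) u]

/-- A fusion respecting the twist on the core fixes it. -/
theorem fixAt_of_core {L : G → ℂ} (hL : LinOn (centI t) L) (h2 : ∀ s ∈ (S : Subgroup G), L s = 1) {v y : G}
    (hv : v ∈ (S : Subgroup G)) (hv2 : orderOf v = 2) (hvt : v ≠ t) (hy : y * t * y⁻¹ = v)
    (hyN : y ∈ Subgroup.normalizer ((Subgroup.closure ({t, v} : Set G) : Subgroup G) : Set G))
    (h : ∀ u ∈ coreC t, u * v = v * u → L (y * u * y⁻¹) = L u) : FixAt t L v := by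
  refine ⟨y, hy, hyN, fun k hkt hkv => ?_⟩
  have hV := H.klein hv hv2 hvt
  have htV : t ∈ Subgroup.closure ({t, v} : Set G) := Subgroup.subset_closure (Set.mem_insert _ _)
  have hVS : Subgroup.closure ({t, v} : Set G) ≤ (S : Subgroup G) := by
    rw [Subgroup.closure_le]
    rintro _ (rfl | rfl)
    exacts [H.htS, hv]
  have hkV : k ∈ Subgroup.centralizer ((Subgroup.closure ({t, v} : Set G) : Subgroup G) : Set G) := by
    rw [Subgroup.centralizer_closure, Subgroup.mem_centralizer_iff]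
    rintro q (rfl | rfl)
    · exact hkt.symm.eq
    · exact hkv.symm.eq
  obtain ⟨a, ha, b, hb, rfl⟩ := centralizer_klein_eq H.hyp.dihedral hV hkV
  obtain ⟨hb1, hb2⟩ := (mem_coreT H.hyp.dihedral hV).1 hb
  have hbO : b ∈ coreC t := (mem_coreC H.hyp.dihedral H.ht).2
    ⟨(Subgroup.mem_centralizer_iff.1 hb1 t htV).symm, hb2⟩
  have hbv : b * v = v * b :=
    (Subgroup.mem_centralizer_iff.1 hb1 v (Subgroup.subset_closure (Set.mem_insert_of_mem _ rfl))).symm
  have hya : y * a * y⁻¹ ∈ (S : Subgroup G) := hVS ((Subgroup.mem_normalizer_iff.1 hyN a).1 ha)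
  rw [show y * (a * b) * y⁻¹ = y * a * y⁻¹ * (y * b * y⁻¹) by group,
    hL.mul _ (H.S_le hya) _ (H.core_le (H.conj_fix hyN hbO hbv).1), hL.mul _ (H.S_le (hVS ha)) _ (H.core_le hbO),
    h2 _ hya, h2 _ (hVS ha), h b hbO hbv]

theorem fixAt_conj {L : G → ℂ} (hL : LinOn (centI t) L) {v s : G} (hs : s ∈ (S : Subgroup G))
    (hF : FixAt t L v) : FixAt t L (s * v * s⁻¹) := by
  haveI := Fintype.ofFinite G
  obtain ⟨y, hy, hyN, hyL⟩ := hF
  have hst : s * t * s⁻¹ = t := mul_inv_eq_iff_eq_mul.2 (H.htZ s hs)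
  have hst' : s⁻¹ * t * s = t := by rw [mul_assoc, ← H.htZ s hs, inv_mul_cancel_left]
  refine ⟨s * y * s⁻¹, ?_, ?_, fun k hkt hkv => ?_⟩
  · rw [show s * y * s⁻¹ * t * (s * y * s⁻¹)⁻¹ = s * (y * (s⁻¹ * t * s) * y⁻¹) * s⁻¹ by group, hst', hy]
  · have e : Subgroup.closure ({t, s * v * s⁻¹} : Set G) =
        (Subgroup.closure ({t, v} : Set G)).map (MulAut.conj s).toMonoidHom := by
      rw [MonoidHom.map_closure, Set.image_pair]
      simp only [MulEquiv.coe_toMonoidHom, MulAut.conj_apply, hst]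
    rw [e]
    refine Subgroup.mem_normalizer_iff.2 fun x => ?_
    rw [Subgroup.mem_map_equiv, Subgroup.mem_map_equiv, MulAut.conj_symm_apply, MulAut.conj_symm_apply,
      Subgroup.mem_normalizer_iff.1 hyN (s⁻¹ * x * s)]
    congr! 1
    group
  · have hsC := H.S_le hs
    have hkC : k ∈ centI t := Subgroup.mem_centralizer_singleton_iff.2 hkt.eq
    have hk1 : Commute (s⁻¹ * k * s) t := by
      have := (Commute.conj_iff s⁻¹).2 hkt
      rwa [inv_inv, hst'] at this
    have hk2 : Commute (s⁻¹ * k * s) v := by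
      have := (Commute.conj_iff s⁻¹).2 hkv
      rwa [inv_inv, show s⁻¹ * (s * v * s⁻¹) * s = v by group] at this
    have e := hyL _ hk1 hk2
    have hkC' : s⁻¹ * k * s ∈ centI t := mul_mem (mul_mem (inv_mem hsC) hkC) hsC
    have hyk : y * (s⁻¹ * k * s) * y⁻¹ ∈ centI t := by
      refine Subgroup.mem_centralizer_singleton_iff.2 ?_
      have htV' : y⁻¹ * t * y ∈ Subgroup.closure ({t, v} : Set G) := by
        simpa using (Subgroup.mem_normalizer_iff.1 (inv_mem hyN) t).1 (Subgroup.subset_closure (Set.mem_insert _ _))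
      have hle : Subgroup.closure ({t, v} : Set G) ≤ Subgroup.centralizer ({s⁻¹ * k * s} : Set G) := by
        rw [Subgroup.closure_le]
        rintro q (rfl | rfl)
        · exact Subgroup.mem_centralizer_singleton_iff.2 hk1.symm.eq
        · exact Subgroup.mem_centralizer_singleton_iff.2 hk2.symm.eq
      have := Subgroup.mem_centralizer_singleton_iff.1 (hle htV')
      calc y * (s⁻¹ * k * s) * y⁻¹ * t = y * ((s⁻¹ * k * s) * (y⁻¹ * t * y)) * y⁻¹ := by group
        _ = y * ((y⁻¹ * t * y) * (s⁻¹ * k * s)) * y⁻¹ := by rw [this]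
        _ = t * (y * (s⁻¹ * k * s) * y⁻¹) := by group
    have h3 : L (s⁻¹ * k * s) = L k := by
      have := hL.conjugate (inv_mem hsC) hkC
      rwa [inv_inv] at this
    rw [show s * y * s⁻¹ * k * (s * y * s⁻¹)⁻¹ = s * (y * (s⁻¹ * k * s) * y⁻¹) * s⁻¹ by group,
      hL.conjugate hsC hyk, e, h3]

theorem goodAt {L : G → ℂ} {g : G} (hg : g * t * g⁻¹ ∈ (S : Subgroup G))
    (h : g * t * g⁻¹ = t ∨ FixAt t L (g * t * g⁻¹)) : GoodAt S t L g := by
  rcases h with h | ⟨y, hy, hyN, hyL⟩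
  · exact Or.inl (Subgroup.mem_centralizer_singleton_iff.2 (mul_inv_eq_iff_eq_mul.1 h))
  refine Or.inr ⟨y, Subgroup.closure ({t, g * t * g⁻¹} : Set G), ?_, Subgroup.subset_closure (Set.mem_insert _ _),
    Subgroup.subset_closure (Set.mem_insert_of_mem _ rfl), hy, hyN, fun k hk => ?_⟩
  · rw [Subgroup.closure_le]
    rintro _ (rfl | rfl)
    exacts [H.htS, hg]
  · exact hyL k (hk t (Subgroup.subset_closure (Set.mem_insert _ _))).symm
      (hk _ (Subgroup.subset_closure (Set.mem_insert_of_mem _ rfl))).symm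

/-- The partner of `μ` across the four group of `v`. -/
noncomputable def phi {v y : G} (hv : v ∈ (S : Subgroup G)) (hv2 : v * v = 1)
    (hy : y ∈ Subgroup.normalizer ((Subgroup.closure ({t, v} : Set G) : Subgroup G) : Set G))
    (μ : coreC t →* ℂˣ) : coreC t →* ℂˣ where
  toFun o := μ ⟨y * H.proj hv hv2 o * y⁻¹, (H.conj_fix hy (H.proj hv hv2 o).2 (H.proj_comm hv hv2 o)).1⟩
  map_one' := by
    rw [← map_one μ]
    refine congrArg μ (Subtype.ext ?_)
    show y * ((H.proj hv hv2 1 : coreC t) : G) * y⁻¹ = 1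
    rw [map_one, OneMemClass.coe_one, mul_one, mul_inv_cancel]
  map_mul' a b := by
    rw [← map_mul]
    refine congrArg μ (Subtype.ext ?_)
    show y * ((H.proj hv hv2 (a * b) : coreC t) : G) * y⁻¹ =
      y * ((H.proj hv hv2 a : coreC t) : G) * y⁻¹ * (y * ((H.proj hv hv2 b : coreC t) : G) * y⁻¹)
    rw [map_mul, Subgroup.coe_mul]
    group

theorem phi_apply {v y : G} (hv : v ∈ (S : Subgroup G)) (hv2 : v * v = 1)
    (hy : y ∈ Subgroup.normalizer ((Subgroup.closure ({t, v} : Set G) : Subgroup G) : Set G))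
    (μ : coreC t →* ℂˣ) {u : coreC t} (hu : (u : G) * v = v * u) :
    H.phi hv hv2 hy μ u = μ ⟨y * u * y⁻¹, (H.conj_fix hy u.2 hu).1⟩ :=
  congrArg μ (Subtype.ext (congrArg (fun z : coreC t => y * (z : G) * y⁻¹) (H.proj_of_comm hv hv2 hu)))

theorem phi_conj {v y : G} (hv : v ∈ (S : Subgroup G)) (hv2 : v * v = 1)
    (hy : y ∈ Subgroup.normalizer ((Subgroup.closure ({t, v} : Set G) : Subgroup G) : Set G))
    (μ : coreC t →* ℂˣ) {u u' : coreC t} (h : (u' : G) = v * u * v⁻¹) :
    H.phi hv hv2 hy μ u' = H.phi hv hv2 hy μ u :=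
  congrArg μ (Subtype.ext (congrArg (fun z : coreC t => y * (z : G) * y⁻¹) (H.proj_conj hv hv2 h)))

/-- An element of `C_O(S)` moving `[O, S]`. -/
theorem exists_mover (hne : H.Kc ≠ coreC t) :
    ∃ x : G, x * t = t * x ∧ Odd (orderOf x) ∧ (∀ s ∈ (S : Subgroup G), x * s = s * x) ∧
      ∃ k ∈ H.Kc, x * k * x⁻¹ ≠ k := by
  classical
  by_contra hc
  push Not at hc
  haveI := H.hyp.simple
  haveI : Fact (Nat.Prime 2) := ⟨Nat.prime_two⟩
  set O₀ := coreC t ⊓ Subgroup.centralizer ((S : Subgroup G) : Set G) with hO₀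
  have hO₀S : ∀ c ∈ O₀, ∀ s ∈ (S : Subgroup G), c * s = s * c := fun c hc s hs =>
    (Subgroup.mem_centralizer_iff.1 hc.2 s hs).symm
  have hcK : ∀ c ∈ O₀, ∀ k ∈ H.Kc, c * k = k * c := fun c hc' k hk => comm_of_conj_eq
    (hc c ((mem_coreC H.hyp.dihedral H.ht).1 hc'.1).1 ((mem_coreC H.hyp.dihedral H.ht).1 hc'.1).2
      (hO₀S c hc') k hk)
  have hdec : ∀ o ∈ coreC t, ∃ k ∈ H.Kc, ∃ c ∈ O₀, o = k * c := fun o ho => by
    obtain ⟨k, hk, c, hc', e⟩ := coprime_decomp H.S_norm (H.coprime_sub le_rfl) (Or.inr H.solv) ho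
    exact ⟨k, hk, c, hc', e⟩
  have hne' : ∃ c ∈ O₀, c ≠ 1 := by
    by_contra h0
    push Not at h0
    refine hne (le_antisymm H.Kc_le fun o ho => ?_)
    obtain ⟨k, hk, c, hc', rfl⟩ := hdec o ho
    rwa [h0 c hc', mul_one]
  haveI hCn : ∀ g ∈ centI t, ∀ c ∈ O₀, g * c * g⁻¹ ∈ O₀ := fun g hg c hc' => by
    obtain ⟨o, ho, s, hs, rfl⟩ := centralizer_eq_core_mul H.hyp.dihedral S H.ht H.htZ
      (Subgroup.mem_centralizer_singleton_iff.1 hg)
    obtain ⟨k, hk, d, hd, rfl⟩ := hdec o ho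
    have e1 : s * c * s⁻¹ = c := conj_eq_of_comm (hO₀S c hc' s hs).symm
    have hdc : d * c * d⁻¹ ∈ O₀ := mul_mem (mul_mem hd hc') (inv_mem hd)
    have e2 : k * (d * c * d⁻¹) * k⁻¹ = d * c * d⁻¹ := conj_eq_of_comm (hcK _ hdc k hk).symm
    rw [show k * d * s * c * (k * d * s)⁻¹ = k * (d * (s * c * s⁻¹) * d⁻¹) * k⁻¹ by group, e1, e2]
    exact hdc
  have hN : ∀ g : G, (∀ a ∈ centI t, g * a * g⁻¹ ∈ centI t) → g ∈ centI t := fun g hg => by
    by_contra hgn
    set N := Subgroup.normalizer (centI t : Set G)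
    have hN1 : g ∈ N := by
      refine Subgroup.mem_normalizer_iff.2 fun a => ⟨hg a, fun ha => ?_⟩
      let f : centI t → centI t := fun x => ⟨g * x * g⁻¹, hg x x.2⟩
      obtain ⟨b, hb⟩ := ((Finite.injective_iff_surjective (f := f)).1 fun x x' e => by
        have e' : g * (x : G) * g⁻¹ = g * (x' : G) * g⁻¹ := congrArg Subtype.val e
        exact Subtype.ext (mul_left_cancel (mul_right_cancel e'))) ⟨_, ha⟩
      have e : g * (b : G) * g⁻¹ = g * a * g⁻¹ := congrArg Subtype.val hb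
      exact mul_left_cancel (mul_right_cancel e) ▸ b.2
    have hN2 : N = ⊤ := H.maxC.2 N (lt_of_le_of_ne Subgroup.le_normalizer fun e => hgn (e ▸ hN1))
    haveI : (centI t).Normal := Subgroup.normalizer_eq_top_iff.1 hN2
    rcases (inferInstance : (centI t).Normal).eq_bot_or_eq_top with e | e
    · exact H.ne_one (Subgroup.mem_bot.1 (e ▸ (Subgroup.mem_centralizer_singleton_iff.2 rfl : t ∈ centI t)))
    · exact H.maxC.1 e
  -- a four group and its rotation
  obtain ⟨v, hv, hv2, hvt⟩ : ∃ v ∈ (S : Subgroup G), orderOf v = 2 ∧ v ≠ t := by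
    obtain ⟨n, hn, ⟨eS⟩⟩ := H.hyp.dihedral.shape S
    haveI : NeZero n := ⟨by omega⟩
    have ho : ∀ j : ZMod n, orderOf (DihedralFusion.pt eS (DihedralGroup.sr j)) = 2 := fun j =>
      DihedralFusion.orderOf_pt eS (fun e => by rw [DihedralGroup.one_def] at e; cases e)
        (DihedralGroup.sr_mul_self j)
    by_cases e : DihedralFusion.pt eS (DihedralGroup.sr 0) = t
    · refine ⟨_, DihedralFusion.pt_mem eS (DihedralGroup.sr 1), ho 1, fun e1 => ?_⟩
      have := DihedralFusion.pt_injective eS (e.trans e1.symm)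
      rw [DihedralGroup.sr.injEq] at this
      haveI hn1 : Fact (1 < n) := ⟨by omega⟩
      exact zero_ne_one this
    · exact ⟨_, DihedralFusion.pt_mem eS _, ho 0, e⟩
  obtain ⟨y, hyN, hyt⟩ := H.exists_rot hv hv2 hvt
  have hyC : y ∉ centI t := fun h => hvt (by
    rw [← hyt, conj_eq_of_comm (Subgroup.mem_centralizer_singleton_iff.1 h)])
  -- the images of `O₀` under `y`
  have hy0 : ∀ c ∈ O₀, ∃ k ∈ H.Kc, ∃ d ∈ O₀, y * c * y⁻¹ = k * d := fun c hc' =>
    hdec _ (H.conj_fix hyN hc'.1 (hO₀S c hc' v hv)).1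
  by_cases hab : ∀ a ∈ O₀, ∀ b ∈ O₀, a * b = b * a
  · obtain ⟨c₀, hc₀, hc₁⟩ := hne'
    have ho1 : orderOf c₀ ≠ 1 := fun e => hc₁ (orderOf_eq_one_iff.1 e)
    obtain ⟨p, hp, m, hm⟩ : ∃ p : ℕ, p.Prime ∧ ∃ m, orderOf c₀ = p * m :=
      let ⟨p, hp, hd⟩ := Nat.exists_prime_and_dvd ho1
      ⟨p, hp, hd⟩
    set z := c₀ ^ m with hzdef
    have hm0 : m ≠ 0 := fun e => (orderOf_pos c₀).ne' (by rw [hm, e, mul_zero])
    have hzp : orderOf z = p := by
      rw [hzdef, orderOf_pow_of_dvd hm0 ⟨p, by rw [hm, mul_comm]⟩, hm,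
        Nat.mul_div_cancel _ (Nat.pos_of_ne_zero hm0)]
    have hzO : z ∈ O₀ := pow_mem hc₀ m
    have hz1 : z ≠ 1 := fun e => by rw [e, orderOf_one] at hzp; exact hp.one_lt.ne hzp
    -- elements of `O₀` are central in `C(t)`
    have hcen : ∀ c ∈ O₀, ∀ g ∈ centI t, g * c = c * g := fun c hc' g hg => by
      obtain ⟨o, ho, s, hs, rfl⟩ := centralizer_eq_core_mul H.hyp.dihedral S H.ht H.htZ
        (Subgroup.mem_centralizer_singleton_iff.1 hg)
      obtain ⟨k, hk, d, hd, rfl⟩ := hdec o ho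
      exact ((((show Commute c k from hcK c hc' k hk).mul_right (show Commute c d from hab c hc' d hd)).mul_right
        (show Commute c s from hO₀S c hc' s hs)).eq).symm
    have hCz : ∀ c ∈ O₀, c ≠ 1 → Subgroup.centralizer ({c} : Set G) = centI t := fun c hc' hc1 => by
      refine (H.maxC.le_iff_eq ?_).1 fun g hg => Subgroup.mem_centralizer_singleton_iff.2 (hcen c hc' g hg)
      intro e
      have hz : c ∈ Subgroup.center G := Subgroup.mem_center_iff.2 fun g =>
        Subgroup.mem_centralizer_singleton_iff.1 (e ▸ Subgroup.mem_top g)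
      rcases (inferInstance : (Subgroup.center G).Normal).eq_bot_or_eq_top with h0 | h1
      · exact hc1 (Subgroup.mem_bot.1 (h0 ▸ hz))
      · exact H.hyp.noncomm ⟨⟨fun a b => (Subgroup.mem_center_iff.1 (h1 ▸ Subgroup.mem_top b) a)⟩⟩
    obtain ⟨k, hk, d, hd, ekd⟩ := hy0 z hzO
    have hyzp : (y * z * y⁻¹) ^ p = 1 := by rw [conj_pow, ← hzp, pow_orderOf_eq_one]; group
    have hkp : k ^ p = 1 := by
      rw [ekd, (show Commute d k from hcK d hd k hk).symm.mul_pow, mul_eq_one_iff_eq_inv] at hyzp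
      refine H.Kc_fixed (pow_mem hk p) fun s hs => ?_
      rw [hyzp]
      exact ((show Commute d s from hO₀S d hd s hs).pow_left p).inv_left.eq
    have hk1 : k = 1 := by
      haveI := Fact.mk hp
      have hp2 : p ≠ 2 := by
        rintro rfl
        have := ((mem_coreC H.hyp.dihedral H.ht).1 hzO.1).2
        rw [hzp] at this
        exact absurd this (by decide)
      let W : Subgroup G :=
        { carrier := {x | ∃ a ∈ H.Kc, ∃ c ∈ O₀, a ^ p = 1 ∧ c ^ p = 1 ∧ x = a * c}
          one_mem' := ⟨1, one_mem _, 1, one_mem _, one_pow _, one_pow _, (one_mul 1).symm⟩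
          mul_mem' := by
            rintro _ _ ⟨a, ha, c, hc', e1, e2, rfl⟩ ⟨a', ha', c', hc'', e1', e2', rfl⟩
            refine ⟨a * a', mul_mem ha ha', c * c', mul_mem hc' hc'', ?_, ?_, ?_⟩
            · rw [(show Commute a a' from H.Kc_abelian ha ha').mul_pow, e1, e1', one_mul]
            · rw [(show Commute c c' from hab c hc' c' hc'').mul_pow, e2, e2', one_mul]
            · rw [mul_assoc, ← mul_assoc c, hcK c hc' a' ha']; group
          inv_mem' := by
            rintro _ ⟨a, ha, c, hc', e1, e2, rfl⟩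
            exact ⟨a⁻¹, inv_mem ha, c⁻¹, inv_mem hc', by rw [inv_pow, e1, inv_one], by rw [inv_pow, e2, inv_one],
              by rw [mul_inv_rev]; exact hcK _ (inv_mem hc') _ (inv_mem ha)⟩ }
      have hWC : W ≤ centI t := by
        rintro _ ⟨a, ha, c, hc', -, -, rfl⟩
        exact mul_mem (H.core_le (H.Kc_le ha)) (H.core_le hc'.1)
      have hWn : ∀ g ∈ centI t, ∀ x ∈ W, g * x * g⁻¹ ∈ W := by
        rintro g hg _ ⟨a, ha, c, hc', e1, e2, rfl⟩
        exact ⟨g * a * g⁻¹, H.Kc_conj hg ha, g * c * g⁻¹, hCn g hg c hc', by rw [conj_pow, e1]; group,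
          by rw [conj_pow, e2]; group, by group⟩
      haveI : (W.subgroupOf (centI t)).Normal := ⟨fun x hx g => hWn g g.2 x hx⟩
      have hWp : IsPGroup p W := by
        rintro ⟨_, a, ha, c, hc', e1, e2, rfl⟩
        exact ⟨1, Subtype.ext (by
          show (a * c) ^ p ^ 1 = 1
          rw [pow_one, (show Commute c a from hcK c hc' a ha).symm.mul_pow, e1, e2, one_mul])⟩
      have hWOO : ∀ x ∈ W, x ∈ CfsgLib.BenderMax.OO p (centI t) := fun x hx =>
        ⟨⟨x, hWC hx⟩, CfsgLib.le_pCore (hWp.of_equiv (Subgroup.subgroupOfEquivOfLe hWC).symm)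
          (show (⟨x, hWC hx⟩ : centI t) ∈ W.subgroupOf (centI t) from hx), rfl⟩
      have hkW : k ∈ W := ⟨k, hk, 1, one_mem _, hkp, one_pow _, (mul_one k).symm⟩
      have hzW : z ∈ W := ⟨1, one_mem _, z, hzO, one_pow _, by rw [← hzp, pow_orderOf_eq_one], (one_mul z).symm⟩
      refine H.Kc_fixed hk fun s hs => ?_
      rcases H.act hs hp hp2 with a | a
      · exact (comm_of_conj_eq (a k (hWOO k hkW))).symm
      · have := a z (hWOO z hzW)
        rw [conj_eq_of_comm (hO₀S z hzO s hs).symm] at this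
        exact absurd (H.eq_one_of_inv hzO.1 this) hz1
    rw [hk1, one_mul] at ekd
    have hd1 : d ≠ 1 := fun e => hz1 (conj_eq_one_iff.1 (ekd.trans e))
    refine hyC (hN y fun a ha => ?_)
    rw [← hCz z hzO hz1, Subgroup.mem_centralizer_singleton_iff] at ha
    rw [← hCz d hd hd1, Subgroup.mem_centralizer_singleton_iff, ← ekd]
    exact ((Commute.conj_iff y).2 (show Commute a z from ha)).eq
  · -- the derived group of `O₀` is normalised by `y`
    set D := ⁅O₀, O₀⁆ with hD
    have hD1 : D ≠ ⊥ := fun e => hab fun a ha b hb => by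
      have := Subgroup.commutator_mem_commutator ha hb
      rw [← hD, e, Subgroup.mem_bot] at this
      exact commutatorElement_eq_one_iff_mul_comm.1 this
    have hgen : ∀ g : G, (∀ a ∈ O₀, ∀ b ∈ O₀, g * ⁅a, b⁆ * g⁻¹ ∈ D) → g ∈ Subgroup.normalizer (D : Set G) := by
      intro g hg
      have hle : D.map (MulAut.conj g).toMonoidHom ≤ D := by
        rw [Subgroup.map_le_iff_le_comap, hD, Subgroup.commutator_le]
        exact fun a ha b hb => hg a ha b hb
      have hcard : Nat.card D ≤ Nat.card (D.map (MulAut.conj g).toMonoidHom) :=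
        (Subgroup.card_map_of_injective (MulAut.conj g).injective).ge
      have he := Subgroup.eq_of_le_of_card_ge hle hcard
      refine Subgroup.mem_normalizer_iff.2 fun x => ⟨fun hx => hle ⟨x, hx, rfl⟩, fun hx => ?_⟩
      rw [← he] at hx
      obtain ⟨x', hx', e⟩ := hx
      exact mul_left_cancel (mul_right_cancel (show g * x' * g⁻¹ = g * x * g⁻¹ from e)) ▸ hx'
    have hyD : y ∈ Subgroup.normalizer (D : Set G) := hgen y fun a ha b hb => by
      obtain ⟨k, hk, d, hd, e⟩ := hy0 a ha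
      obtain ⟨k', hk', d', hd', e'⟩ := hy0 b hb
      rw [show y * ⁅a, b⁆ * y⁻¹ = ⁅y * a * y⁻¹, y * b * y⁻¹⁆ by simp only [commutatorElement_def]; group, e, e']
      have c1 : Commute k k' := H.Kc_abelian hk hk'
      have c2 : Commute d k' := hcK d hd k' hk'
      have c3 : Commute k d' := (hcK d' hd' k hk).symm
      have c4 : Commute d k := hcK d hd k hk
      have c5 : Commute d' k' := hcK d' hd' k' hk'
      have : ⁅k * d, k' * d'⁆ = ⁅d, d'⁆ := by
        have a1 : k * d * (k' * d') * (k * d)⁻¹ = k' * (d * d' * d⁻¹) := by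
          have hk'c : (k * d) * k' * (k * d)⁻¹ = k' := conj_eq_of_comm (c1.mul_left c2).eq
          have hd'c : k * (d * d' * d⁻¹) * k⁻¹ = d * d' * d⁻¹ :=
            conj_eq_of_comm (hcK _ (mul_mem (mul_mem hd hd') (inv_mem hd)) k hk).symm
          calc k * d * (k' * d') * (k * d)⁻¹ = ((k * d) * k' * (k * d)⁻¹) * (k * (d * d' * d⁻¹) * k⁻¹) := by group
            _ = _ := by rw [hk'c, hd'c]
        rw [commutatorElement_def, commutatorElement_def, a1,
          show k' * (d * d' * d⁻¹) * (k' * d')⁻¹ = k' * (d * d' * d⁻¹ * d'⁻¹) * k'⁻¹ by group]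
        exact conj_eq_of_comm (hcK _ (mul_mem (mul_mem (mul_mem hd hd') (inv_mem hd)) (inv_mem hd')) k' hk').symm
      rw [this]
      exact Subgroup.commutator_mem_commutator hd hd'
    have hCD : centI t ≤ Subgroup.normalizer (D : Set G) := fun g hg => hgen g fun a ha b hb => by
      rw [show g * ⁅a, b⁆ * g⁻¹ = ⁅g * a * g⁻¹, g * b * g⁻¹⁆ by simp only [commutatorElement_def]; group]
      exact Subgroup.commutator_mem_commutator (hCn g hg a ha) (hCn g hg b hb)
    have htop : Subgroup.normalizer (D : Set G) = ⊤ :=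
      H.maxC.2 _ (lt_of_le_of_ne hCD fun e => hyC (e ▸ hyD))
    haveI : D.Normal := Subgroup.normalizer_eq_top_iff.1 htop
    rcases (inferInstance : D.Normal).eq_bot_or_eq_top with e | e
    · exact hD1 e
    · refine H.maxC.1 (top_unique (e.ge.trans ?_))
      rw [hD, Subgroup.commutator_le]
      intro a ha b hb
      rw [commutatorElement_def]
      exact mul_mem (mul_mem (mul_mem (H.core_le ha.1) (H.core_le hb.1)) (inv_mem (H.core_le ha.1)))
        (inv_mem (H.core_le hb.1))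

end SplitHyp

end CfsgLib.GW
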