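import Cfsg.Agent.Lib.GW.LChar
import Cfsg.Agent.Lib.MinNonCA.FourOmega
import Cfsg.Agent.Lib.Blocks.AbelianFreeThree

/-!
# Coefficients of linear characters of the core in the section of an involution

`coef f χ` is the multiplicity of the linear character `f` of the core `O` of `C(t)` in `u ↦ χ(t u)`.
-/

namespace CfsgLib.GW

open Cfsg CfsgLib.CharTheory CfsgLib.Blocks CfsgLib.Blocks.AbelianFree CfsgLib.Blocks.Dihedral CfsgLib.KleinCent
open scoped ComplexConjugate

set_option linter.unusedVariables false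
set_option linter.style.haveILetI false
set_option linter.unusedSectionVars false

universe u

variable {G : Type u} [Group G] [Fintype G]

/-- An involution central in a Sylow subgroup, with the odd core of its centraliser. -/
structure TSec (P : Sylow 2 G) (t : G) (O : Subgroup G) : Prop where
  core : Core P t O
  sq : t * t = 1
  ne : t ≠ 1
  cent : ∀ s ∈ (P : Subgroup G), s * t = t * s

variable {P : Sylow 2 G} {t : G} {O : Subgroup G} [Fintype O]

theorem TSec.le (T : TSec P t O) {u : G} (hu : u ∈ O) : u ∈ Subgroup.centralizer ({t} : Set G) :=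
  Subgroup.mem_centralizer_singleton_iff.2 (T.core.comm u hu).eq

theorem TSec.leP (T : TSec P t O) {u : G} (hu : u ∈ (P : Subgroup G)) :
    u ∈ Subgroup.centralizer ({t} : Set G) :=
  Subgroup.mem_centralizer_singleton_iff.2 (T.cent u hu)

theorem TSec.odd_order (T : TSec P t O) {u : G} (hu : u ∈ O) : Odd (orderOf u) :=
  Nat.odd_iff.2 (by
    have h1 : ¬ 2 ∣ orderOf u := fun hd => T.core.odd (hd.trans (Subgroup.orderOf_dvd_natCard O hu))
    omega)

theorem TSec.disjoint (T : TSec P t O) {u : G} (hu : u ∈ O) (hP : u ∈ (P : Subgroup G)) : u = 1 := by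
  haveI : Fact (Nat.Prime 2) := ⟨Nat.prime_two⟩
  obtain ⟨k, hk⟩ := IsPGroup.iff_orderOf.1 P.isPGroup' ⟨u, hP⟩
  rw [Subgroup.orderOf_mk] at hk
  exact orderOf_eq_one_iff.1 (Nat.eq_one_of_dvd_coprimes
    ((Nat.coprime_two_left.2 (T.odd_order hu)).pow_left k) (hk ▸ dvd_rfl) dvd_rfl)

/-- Conjugation on the core by an element of the centraliser. -/
def TSec.conjO (T : TSec P t O) (a : Subgroup.centralizer ({t} : Set G)) : O →* O where
  toFun u := ⟨(a : G) * u * (a : G)⁻¹, T.core.norm a (Subgroup.mem_centralizer_singleton_iff.1 a.2) u u.2⟩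
  map_one' := Subtype.ext (by simp)
  map_mul' x y := Subtype.ext (by push_cast; group)

theorem TSec.conjO_core (T : TSec P t O) (f : O →* ℂˣ) {o : G} (ho : o ∈ O)
    (a : Subgroup.centralizer ({t} : Set G)) :
    f.comp (T.conjO (⟨o, T.le ho⟩ * a)) = f.comp (T.conjO a) := by
  refine MonoidHom.ext fun u => ?_
  have e : T.conjO (⟨o, T.le ho⟩ * a) u = (⟨o, ho⟩ : O) * T.conjO a u * (⟨o, ho⟩ : O)⁻¹ :=
    Subtype.ext (by
      show o * (a : G) * u * (o * (a : G))⁻¹ = o * ((a : G) * u * (a : G)⁻¹) * o⁻¹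
      group)
  rw [MonoidHom.comp_apply, MonoidHom.comp_apply, e, map_mul, map_mul, map_inv, mul_inv_cancel_comm]

theorem TSec.pow_tu (T : TSec P t O) {u : G} (hu : u ∈ O) : (t * u) ^ Nat.card O = t := by
  obtain ⟨q, hq⟩ : Odd (Nat.card O) := Nat.odd_iff.2 (by have := T.core.odd; omega)
  have h : u ^ Nat.card O = 1 := orderOf_dvd_iff_pow_eq_one.1 (Subgroup.orderOf_dvd_natCard O hu)
  rw [(T.core.comm u hu).symm.mul_pow, h, mul_one, hq, pow_succ, pow_mul, pow_two, T.sq, one_pow, one_mul]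

theorem TSec.conj_mem (T : TSec P t O) {a u u' : G} (hu : u ∈ O) (hu' : u' ∈ O)
    (h : a * (t * u) * a⁻¹ = t * u') : a ∈ Subgroup.centralizer ({t} : Set G) := by
  have e := congrArg (· ^ Nat.card O) h
  simp only [conj_pow, T.pow_tu hu, T.pow_tu hu'] at e
  exact Subgroup.mem_centralizer_singleton_iff.2 (mul_inv_eq_iff_eq_mul.1 e)

/-- The coefficient of a linear character in the section. -/
noncomputable def coef (t : G) (f : O →* ℂˣ) (χ : G → ℂ) : ℂ :=
  classInner (fun u : O => χ (t * u)) (fun u => (f u : ℂ))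

theorem TSec.coef_int (T : TSec P t O) {χ : G → ℂ} (hχ : IsCharacter G χ) (f : O →* ℂˣ) :
    ∃ z : ℤ, coef t f χ = z := by
  classical
  let j : ℤˣ × O →* G :=
    { toFun := fun p => (if p.1 = 1 then 1 else t) * p.2
      map_one' := by simp
      map_mul' := by
        rintro ⟨a, k⟩ ⟨b, k'⟩
        have hc : ∀ q : O, (q : G) * t = t * q := fun q => (T.core.comm q q.2).eq
        rcases Int.units_eq_one_or a with rfl | rfl <;> rcases Int.units_eq_one_or b with rfl | rfl <;>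
          simp [mul_assoc]
        · rw [← mul_assoc (k : G), hc k, mul_assoc]
        · rw [← mul_assoc (k : G), hc k, mul_assoc, ← mul_assoc t t, T.sq, one_mul] }
  have hf := isCharacter_of_irr (isIrrCharacter_linear f)
  obtain ⟨n1, hn1⟩ := classInner_char_nat (isCharacter_comp hχ O.subtype) hf
  obtain ⟨n2, hn2⟩ := classInner_char_nat (isCharacter_comp hχ j) (isCharacter_comp hf (MonoidHom.snd ℤˣ O))
  refine ⟨2 * n2 - n1, ?_⟩
  have hO : (Nat.card O : ℂ) ≠ 0 := Nat.cast_ne_zero.2 Nat.card_pos.ne'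
  simp only [classInner, MonoidHom.coe_snd, Subgroup.coe_subtype] at hn1 hn2
  rw [Nat.card_prod, Fintype.sum_prod_type, UnitsInt.univ, Finset.sum_pair (by decide),
    show Nat.card ℤˣ = 2 by rw [Nat.card_eq_fintype_card]; rfl] at hn2
  simp only [coef, classInner]
  push_cast
  rw [← hn1, ← hn2]
  simp [j]
  field_simp
  ring

/-- The orthogonality of the coefficients. -/
theorem TSec.coef_orth (T : TSec P t O) [Fintype (P : Subgroup G)] (f g : O →* ℂˣ) :
    ∑ χ : IrrCharacter G, coef t f (χ : G → ℂ) * conj (coef t g (χ : G → ℂ)) =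
      (Nat.card {s : (P : Subgroup G) // g.comp (T.conjO ⟨s, T.leP s.2⟩) = f} : ℂ) := by
  classical
  set C := Subgroup.centralizer ({t} : Set G)
  haveI := Fintype.ofFinite C
  have hO : (Nat.card O : ℂ) ≠ 0 := Nat.cast_ne_zero.2 Nat.card_pos.ne'
  have hcount : ∀ u u' : O, (∑ χ : IrrCharacter G, (χ : G → ℂ) (t * u) * conj ((χ : G → ℂ) (t * u'))) =
      ∑ a : C, if T.conjO a u = u' then (1 : ℂ) else 0 := by
    intro u u'
    rw [sum_irr_mul_conj, ← MinNonCA.Four.card_conj_eq]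
    rw [Finset.sum_boole]
    norm_cast
    refine (Finset.card_bij (fun (a : C) _ => (a : G)) ?_ (fun _ _ _ _ e => Subtype.ext e) ?_).symm
    · intro a ha
      have h1 : ((a : G) * u * (a : G)⁻¹) = u' := congrArg Subtype.val (Finset.mem_filter.1 ha).2
      have hat := Subgroup.mem_centralizer_singleton_iff.1 a.2
      refine Finset.mem_filter.2 ⟨Finset.mem_univ _, ?_⟩
      rw [show (a : G) * (t * u) * (a : G)⁻¹ = (a : G) * t * (a : G)⁻¹ * ((a : G) * u * (a : G)⁻¹) by group,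
        mul_inv_eq_iff_eq_mul.2 hat, h1]
    · intro a ha
      have h1 := (Finset.mem_filter.1 ha).2
      have haC := T.conj_mem u.2 u'.2 h1
      refine ⟨⟨a, haC⟩, Finset.mem_filter.2 ⟨Finset.mem_univ _, Subtype.ext ?_⟩, rfl⟩
      rw [show a * (t * u) * a⁻¹ = a * t * a⁻¹ * (a * u * a⁻¹) by group,
        mul_inv_eq_iff_eq_mul.2 (Subgroup.mem_centralizer_singleton_iff.1 haC)] at h1
      exact mul_left_cancel h1
  have hsum : ∑ χ : IrrCharacter G, coef t f (χ : G → ℂ) * conj (coef t g (χ : G → ℂ)) =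
      ((Nat.card O : ℂ))⁻¹ * ((Nat.card O : ℂ))⁻¹ *
        ∑ a : C, ∑ u : O, conj (f u : ℂ) * (g (T.conjO a u) : ℂ) := by
    simp only [coef, classInner, map_mul, map_inv₀, map_natCast, map_sum, Complex.conj_conj]
    rw [Finset.sum_congr rfl fun χ _ => mul_mul_mul_comm _ _ _ _, ← Finset.mul_sum]
    congr 1
    rw [Finset.sum_congr rfl fun χ _ => Finset.sum_mul_sum _ _ _ _, Finset.sum_comm,
      Finset.sum_comm (s := (Finset.univ : Finset C))]
    refine Finset.sum_congr rfl fun u _ => ?_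
    rw [Finset.sum_comm]
    have e : ∀ u' : O, (∑ χ : IrrCharacter G, (χ : G → ℂ) (t * u) * conj (f u : ℂ) *
        (conj ((χ : G → ℂ) (t * u')) * (g u' : ℂ))) =
        ∑ a : C, if T.conjO a u = u' then conj (f u : ℂ) * (g u' : ℂ) else 0 := by
      intro u'
      rw [Finset.sum_congr rfl fun (χ : IrrCharacter G) _ => show (χ : G → ℂ) (t * u) * conj (f u : ℂ) *
          (conj ((χ : G → ℂ) (t * u')) * (g u' : ℂ)) =
          (χ : G → ℂ) (t * u) * conj ((χ : G → ℂ) (t * u')) * (conj (f u : ℂ) * (g u' : ℂ)) by ring,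
        ← Finset.sum_mul, hcount, Finset.sum_mul]
      exact Finset.sum_congr rfl fun a _ => by rw [ite_mul, one_mul, zero_mul]
    rw [Finset.sum_congr rfl fun u' _ => e u', Finset.sum_comm]
    exact Finset.sum_congr rfl fun a _ => by simp
  have hin : ∀ a : C, ∑ u : O, conj (f u : ℂ) * (g (T.conjO a u) : ℂ) =
      if g.comp (T.conjO a) = f then (Nat.card O : ℂ) else 0 := by
    intro a
    rw [← MinNonCA.orth_hom]
    exact Finset.sum_congr rfl fun u _ => mul_comm _ _
  let w : O × (P : Subgroup G) → C := fun p => ⟨p.1, T.le p.1.2⟩ * ⟨p.2, T.leP p.2.2⟩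
  have hw : Function.Bijective w := by
    refine ⟨fun p q e => ?_, fun c => ?_⟩
    · have e' : (p.1 : G) * p.2 = q.1 * q.2 := congrArg Subtype.val e
      have e1 : (q.1 : G)⁻¹ * p.1 = (q.2 : G) * (p.2 : G)⁻¹ := by
        rw [eq_mul_inv_iff_mul_eq, mul_assoc, e', inv_mul_cancel_left]
      have e2 := T.disjoint (mul_mem (inv_mem q.1.2) p.1.2) (e1.symm ▸ mul_mem q.2.2 (inv_mem p.2.2))
      rw [inv_mul_eq_one] at e2
      exact Prod.ext (Subtype.ext e2.symm) (Subtype.ext (mul_left_cancel (e2 ▸ e')))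
    · obtain ⟨y, hy, s, hs, e⟩ := T.core.dec c (Subgroup.mem_centralizer_singleton_iff.1 c.2)
      exact ⟨(⟨y, hy⟩, ⟨s, hs⟩), Subtype.ext e.symm⟩
  rw [hsum, Finset.sum_congr rfl fun a _ => hin a, ← Fintype.sum_bijective w hw _ _ fun _ => rfl,
    Fintype.sum_prod_type, Finset.sum_congr rfl fun (o : O) _ => Finset.sum_congr rfl fun (s : (P : Subgroup G)) _ =>
      show (if g.comp (T.conjO (w (o, s))) = f then (Nat.card O : ℂ) else 0) =
        if g.comp (T.conjO ⟨s, T.leP s.2⟩) = f then (Nat.card O : ℂ) else 0 by rw [T.conjO_core g o.2],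
    Finset.sum_const, Finset.card_univ, ← Finset.sum_filter, Finset.sum_const, nsmul_eq_mul,
    nsmul_eq_mul, ← Nat.card_eq_fintype_card, Nat.card_eq_fintype_card (α := {s : (P : Subgroup G) // _}),
    Fintype.card_subtype]
  field_simp

/-- A coefficient column is orthogonal to the degrees. -/
theorem TSec.coef_degree (T : TSec P t O) (f : O →* ℂˣ) :
    ∑ χ : IrrCharacter G, coef t f (χ : G → ℂ) * (χ : G → ℂ) 1 = 0 := by
  classical
  simp only [coef, classInner, mul_assoc, Finset.sum_mul, Finset.mul_sum]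
  rw [Finset.sum_comm]
  refine Finset.sum_eq_zero fun u _ => ?_
  have hne : t * (u : G) ≠ 1 := fun e => by
    have := T.pow_tu u.2
    rw [e, one_pow] at this
    exact T.ne this.symm
  have e : ∀ χ : IrrCharacter G,
      (Nat.card O : ℂ)⁻¹ * ((χ : G → ℂ) (t * u) * (conj (f u : ℂ) * (χ : G → ℂ) 1)) =
      (Nat.card O : ℂ)⁻¹ * conj (f u : ℂ) * ((χ : G → ℂ) (t * u) * (χ : G → ℂ) 1) := fun χ => by ring
  rw [Finset.sum_congr rfl fun χ _ => e χ, ← Finset.mul_sum, sum_irr_apply_mul_degree, if_neg hne, mul_zero]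

/-- A coefficient column is orthogonal to the columns outside the section. -/
theorem TSec.coef_outside (T : TSec P t O) (f : O →* ℂˣ) {x : G} (hx : ∀ u : O, ¬ IsConj (t * (u : G)) x) :
    ∑ χ : IrrCharacter G, coef t f (χ : G → ℂ) * conj ((χ : G → ℂ) x) = 0 := by
  classical
  simp only [coef, classInner, mul_assoc, Finset.sum_mul, Finset.mul_sum]
  rw [Finset.sum_comm]
  refine Finset.sum_eq_zero fun u _ => ?_
  have e : ∀ χ : IrrCharacter G,
      (Nat.card O : ℂ)⁻¹ * ((χ : G → ℂ) (t * u) * (conj (f u : ℂ) * conj ((χ : G → ℂ) x))) =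
      (Nat.card O : ℂ)⁻¹ * conj (f u : ℂ) * ((χ : G → ℂ) (t * u) * conj ((χ : G → ℂ) x)) := fun χ => by ring
  rw [Finset.sum_congr rfl fun χ _ => e χ, ← Finset.mul_sum, sum_irr_mul_conj, if_neg (hx u), mul_zero]

/-- Coefficients of linear characters fused through a four group are congruent modulo two. -/
theorem TSec.coef_parity (T : TSec P t O) (χ : IrrCharacter G) {f g : O →* ℂˣ} {v y : G}
    (hv : v ∈ (P : Subgroup G)) (hv2 : v * v = 1) (hy : y * t * y⁻¹ = v)
    (hyX : ∀ u ∈ O, u * v = v * u → y * u * y⁻¹ ∈ O ∧ (y * u * y⁻¹) * v = v * (y * u * y⁻¹))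
    (hf : ∀ u : O, f (T.conjO ⟨v, T.leP hv⟩ u) = f u)
    (hg : ∀ u : O, g (T.conjO ⟨v, T.leP hv⟩ u) = g u)
    (hfg : ∀ u : O, (u : G) * v = v * u → ∀ h : y * (u : G) * y⁻¹ ∈ O, f u = g ⟨_, h⟩) :
    ModTwo (coef t f (χ : G → ℂ)) (coef t g (χ : G → ℂ)) := by
  classical
  have hcl := isClassFunction_irr χ.2
  have hint : ∀ z, IsIntegral ℤ ((χ : G → ℂ) z) := isIntegral_of_char (isCharacter_of_irr χ.2)
  have hvi : v⁻¹ = v := inv_eq_of_mul_eq_one_right hv2
  have hvt : Commute v t := T.cent v hv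
  set σ := T.conjO ⟨v, T.leP hv⟩
  have hσ : ∀ u, σ (σ u) = u := fun u => Subtype.ext (by
    show v * (v * (u : G) * v⁻¹) * v⁻¹ = u
    rw [show v * (v * (u : G) * v⁻¹) * v⁻¹ = (v * v) * u * (v * v)⁻¹ by group, hv2]; group)
  have hfix : ∀ u : O, σ u = u ↔ (u : G) * v = v * u := fun u => by
    rw [Subtype.ext_iff]
    exact (mul_inv_eq_iff_eq_mul).trans eq_comm
  set X := Finset.univ.filter fun u : O => σ u = u with hX
  have red : ∀ k : O →* ℂˣ, (∀ u, k (σ u) = k u) → ModTwo ((Nat.card O : ℂ) * coef t k (χ : G → ℂ))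
      (∑ u ∈ X, (χ : G → ℂ) (t * u) * conj (k u : ℂ)) := by
    intro k hk
    rw [coef, classInner, ← mul_assoc, mul_inv_cancel₀ (Nat.cast_ne_zero.2 Nat.card_pos.ne'), one_mul]
    refine MinNonCA.modTwo_sum_fixed σ hσ _ (fun u => (hint _).mul ?_) fun u => ?_
    · rw [MinNonCA.conj_hom]
      exact MinNonCA.Four.isIntegral_hom k u⁻¹
    · rw [hk]
      congr 1
      show (χ : G → ℂ) (t * (v * (u : G) * v⁻¹)) = _
      rw [show t * (v * (u : G) * v⁻¹) = t * v * u * v⁻¹ by group, ← hvt.eq,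
        show v * t * (u : G) * v⁻¹ = v * (t * u) * v⁻¹ by group, hcl]
  have hmem : ∀ u ∈ X, y * (u : G) * y⁻¹ ∈ O ∧ (y * (u : G) * y⁻¹) * v = v * (y * (u : G) * y⁻¹) :=
    fun u hu => hyX u u.2 ((hfix u).1 (Finset.mem_filter.1 hu).2)
  have hbij : ∑ u ∈ X, (χ : G → ℂ) (t * u) * conj (f u : ℂ) =
      ∑ u ∈ X, (χ : G → ℂ) (v * u) * conj (g u : ℂ) := by
    refine Finset.sum_bij (fun u hu => (⟨_, (hmem u hu).1⟩ : O)) (fun u hu => ?_) (fun a _ b _ e => ?_)
      (fun b hb => ?_) fun u hu => ?_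
    · exact Finset.mem_filter.2 ⟨Finset.mem_univ _, (hfix _).2 (hmem u hu).2⟩
    · exact Subtype.ext (mul_left_cancel (mul_right_cancel (congrArg Subtype.val e)))
    · let F : X → X := fun u => ⟨⟨_, (hmem u.1 u.2).1⟩,
        Finset.mem_filter.2 ⟨Finset.mem_univ _, (hfix _).2 (hmem u.1 u.2).2⟩⟩
      have hF : Function.Injective F := fun a b e => Subtype.ext (Subtype.ext (mul_left_cancel
        (mul_right_cancel (congrArg (fun z : X => ((z : O) : G)) e))))
      obtain ⟨a, ha⟩ := (Finite.injective_iff_surjective.1 hF) ⟨b, hb⟩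
      exact ⟨a.1, a.2, congrArg Subtype.val ha⟩
    · rw [hfg u ((hfix u).1 (Finset.mem_filter.1 hu).2) (hmem u hu).1]
      congr 1
      show _ = (χ : G → ℂ) (v * (y * (u : G) * y⁻¹))
      rw [show v * (y * (u : G) * y⁻¹) = y * (t * u) * y⁻¹ by rw [← hy]; group, hcl]
  have hsw : ModTwo (∑ u ∈ X, (χ : G → ℂ) (v * u) * conj (g u : ℂ))
      (∑ u ∈ X, (χ : G → ℂ) (t * u) * conj (g u : ℂ)) := by
    refine ModTwo.sum X _ _ fun u hu => ?_
    rw [mul_comm, mul_comm ((χ : G → ℂ) (t * u))]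
    refine ModTwo.mul_left _ (by rw [MinNonCA.conj_hom]; exact MinNonCA.Four.isIntegral_hom g u⁻¹) ?_
    exact (MinNonCA.modTwo_involution (isCharacter_of_irr χ.2) hv2
      (show Commute v (u : G) from ((hfix u).1 (Finset.mem_filter.1 hu).2).symm)).trans
      (MinNonCA.modTwo_involution (isCharacter_of_irr χ.2) T.sq (T.core.comm u u.2).symm).symm
  have h := ((red f hf).trans (hbij ▸ ModTwo.refl _)).trans (hsw.trans (red g hg).symm)
  obtain ⟨a, ha⟩ := T.coef_int (isCharacter_of_irr χ.2) f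
  obtain ⟨b, hb⟩ := T.coef_int (isCharacter_of_irr χ.2) g
  refine MinNonCA.modTwo_of_odd_mul (m := (Nat.card O : ℤ)) ?_ (ha ▸ _root_.isIntegral_intCast a)
    (hb ▸ _root_.isIntegral_intCast b) (by exact_mod_cast h)
  rw [Int.odd_coe_nat, Nat.odd_iff]
  have := T.core.odd
  omega

end CfsgLib.GW
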